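import Cfsg.Agent.H30.Asch.NoneProperCommute

/-!
No element proper: the middle of a moved point is unique, so every moved point lies on exactly one
line perpendicular to a given one, and for `v` in the fixing group of the fixed points of `u` the
member of `v` is the image of the member of `u` under one element of the torus.
-/

set_option autoImplicit false
set_option linter.style.haveILetI false

namespace Cfsg.Agent.H30.Asch

open Subgroup MulAction
open Cfsg.Agent.H14.Asch
open Cfsg.Agent.H39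
open Cfsg.Agent.H73.Bender (SE)
open Cfsg.Agent.H73.Asch (RankTwoBad Line2 HasLines2)
open scoped Pointwise

universe u v

variable {G : Type u} [Group G] [Finite G] {Ω : Type v} [MulAction G Ω] [Finite Ω] {D : Set G}

/-- The setting of the case in which no element of a four group is proper. -/
structure NPCtx (G : Type u) [Group G] [Finite G] (Ω : Type v) [MulAction G Ω] [Finite Ω]
    (D : Set G) : Prop where
  crit : Crit G Ω D
  lines : HasLines2 Ω D
  two : AllRankTwo Ω D
  same : SameFix Ω D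

namespace NPCtx

variable (hc : NPCtx G Ω D) {u v : G} {x y : Ω}
include hc

/-- A four group with the fixed points of `u * a`. -/
theorem quad_mul_member (hq : Quad Ω D u v x y) {a : G} (ha : a ∈ commMembers D u) :
    ∃ s : G, Quad Ω D (u * a) (s * v * s⁻¹) (s • x) (s • y) := by
  obtain ⟨s, hs⟩ := exists_conj_mul_member hc.crit hc.lines hq.bu ha
  refine ⟨s, quad_of_pair hc.two ?_ (by rw [orderOf_conj, hq.bv.1]) ?_ ?_
    (fun e => hq.ne (MulAction.injective s e)) ⟨?_, H73.Bender.conj_smul_of_smul hq.hx.2⟩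
    ⟨?_, H73.Bender.conj_smul_of_smul hq.hy.2⟩⟩
  · rw [← hs, orderOf_conj, hq.bu.1]
  · rw [← hs]; exact commute_conj hq.comm s
  · intro e
    rw [← hs] at e
    have huv := mul_left_cancel (mul_right_cancel e)
    have h1 := hq.bw.1
    rw [huv, mul_self_of_orderOf_eq_two hq.bv.1, orderOf_one] at h1
    omega
  · rw [← hs]; exact H73.Bender.conj_smul_of_smul hq.hx.1
  · rw [← hs]; exact H73.Bender.conj_smul_of_smul hq.hy.1

/-- The middle of a moved point is unique. -/
theorem middle_unique (hq : Quad Ω D u v x y) {c : Ω} (hu : u • c ≠ c) {a b : G}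
    (ha : a ∈ commMembers D u) (hb : b ∈ commMembers D u) (hac : (u * a) • c = c)
    (hbc : (u * b) • c = c) : a = b := by
  have huu := mul_self_of_orderOf_eq_two hq.bu.1
  obtain ⟨d, hd, hdc⟩ := hc.crit.exists_at c
  have key : ∀ {e : G}, e ∈ commMembers D u → (u * e) • c = c →
      e ∈ swappers D c (u • c) ∧ e * d * e⁻¹ = u * d * u⁻¹ := by
    intro e he hec
    have hec' : e • c = u • c := by
      conv_rhs => rw [← hec, ← mul_smul, ← mul_assoc, huu, one_mul]
    obtain ⟨s, hs⟩ := hc.quad_mul_member hq he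
    have hdt : Commute d (u * e) :=
      commute_of_mem_swappers hc.crit hc.lines hc.two hc.same hs hec ⟨hd, hdc⟩
    refine ⟨⟨he.1, hec'⟩, ?_⟩
    have h1 : u * e * d * (u * e)⁻¹ = d := mul_inv_eq_iff_eq_mul.mpr hdt.eq.symm
    conv_rhs => rw [← h1]
    calc e * d * e⁻¹ = (u * u) * e * d * e⁻¹ * (u * u)⁻¹ := by rw [huu]; group
      _ = _ := by group
  exact hc.crit.swapper_unique (Ne.symm hu) hd hdc (key ha hac).1 (key hb hbc).1 (key ha hac).2
    (key hb hbc).2

/-- An element of the fixing group fixes the common point of a member commuting with `u`. -/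
theorem smul_of_fixing {k : G} (hk : k ∈ fixingSubgroup G (fixedBy Ω u)) {p : Ω}
    (hp : u • p = p) : k • p = p := mem_fixing_iff.mp hk p hp

/-- COVER for `v` itself. -/
theorem exists_cover_self (hq : Quad Ω D u v x y) {c : Ω} (hu : u • c ≠ c) :
    ∃ (a b : G) (g : Ω), Cover D u v a b g c := by
  obtain ⟨v', a, b, g, l, hl, rfl, hcov⟩ := exists_cover_conj hc.crit hc.two hc.same hq hu
  have hvK : v ∈ fixingSubgroup G (fixedBy Ω u) :=
    mem_fixing_iff.mpr fun p hp => (Set.ext_iff.mp (hc.same u v x y hq) p).mp hp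
  rw [conj_eq_of_commute (commute_fixing_of_lineGroup hc.crit hc.lines hc.two hc.same hq hl hvK)]
    at hcov
  exact ⟨a, b, g, hcov⟩

/-- `E` is commutative, of exponent two. -/
theorem mul_comm_E {E Q : Subgroup G} (hl : Line2 D u x E Q) {a b : G} (ha : a ∈ E) (hb : b ∈ E) :
    Commute a b := hl.central a ha b (hl.E_le hb)

/-- The member of `v` on the line of `u * a`. -/
theorem exists_partner (hq : Quad Ω D u v x y) {E Q : Subgroup G} (hl : Line2 D u x E Q) {a : G}
    (ha : a ∈ E) {c : Ω} (hu : u • c ≠ c) (hac : (u * a) • c = c) :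
    ∃ b ∈ E, (v * b) • c = c ∧ fixedBy Ω (v * b) = fixedBy Ω (u * a) := by
  have ha1 : a ≠ 1 := fun e => hu (by rwa [e, mul_one] at hac)
  obtain ⟨a', b, g, hcov⟩ := hc.exists_cover_self hq hu
  have ham := line2_member hl ha ha1
  obtain rfl : a = a' :=
    hc.middle_unique hq hu ⟨ham.1, ham.2.1⟩ ⟨hcov.mem_a.1, hcov.mem_a.2.1⟩ hac hcov.fix_c
  obtain rfl : g = x := hc.crit.eq_of_fixed ham.1 hcov.smul_a ham.2.2
  refine ⟨b, (mem_E_iff hc.crit hc.lines hc.two hc.same hq hq.hx.1 hl).mpr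
    (Or.inr ⟨hcov.mem_b.1, hcov.smul_b⟩), ?_, hcov.fixedBy_eq⟩
  exact (Set.ext_iff.mp hcov.fixedBy_eq c).mpr hac

/-- `u * a` has a fixed point moved by `u`. -/
theorem exists_perp_point (hq : Quad Ω D u v x y) {E Q : Subgroup G} (hl : Line2 D u x E Q) {a : G}
    (ha : a ∈ E) (ha1 : a ≠ 1) : ∃ c : Ω, u • c ≠ c ∧ (u * a) • c = c := by
  have ham := line2_member hl ha ha1
  obtain ⟨p, q, hpq, hp, hq'⟩ := hc.crit.bad_mul_member hq.bu.1 ⟨x, y, hq.ne, hq.hx.1, hq.hy.1⟩
    ham.1 ham.2.1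
  have key : ∀ {c : Ω}, (u * a) • c = c → u • c = c → c = x := fun hc1 hc2 =>
    hc.crit.eq_of_fixed ham.1 (MulAction.injective u (by show u • a • _ = u • _; rw [← mul_smul, hc1, hc2])) ham.2.2
  by_cases h1 : u • p = p
  · exact ⟨q, fun h2 => hpq ((key hp h1).trans (key hq' h2).symm), hq'⟩
  · exact ⟨p, h1, hp⟩

/-- SCALAR: the member of `v` is the image of that of `u` under one element of the torus. -/
theorem exists_scalar (hq : Quad Ω D u v x y) {E Q : Subgroup G} (hl : Line2 D u x E Q)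
    {A : Subgroup G} (hA : A ≤ lineGroup D u ⊓ stabilizer G x) (hAc : IsMulCommutative A)
    (hAE : ∀ g ∈ A, ∀ e ∈ E, g * e * g⁻¹ ∈ E)
    (htr : ∀ a ∈ E, ∀ b ∈ E, a ≠ 1 → b ≠ 1 → ∃ k ∈ A, k * a * k⁻¹ = b) :
    ∃ α ∈ A, (∀ a ∈ E, a ≠ 1 → α * a * α⁻¹ ≠ a) ∧
      ∀ a ∈ E, a ≠ 1 → ∀ c : Ω, u • c ≠ c → (u * a) • c = c → (v * (α * a * α⁻¹)) • c = c := by
  have hvK : v ∈ fixingSubgroup G (fixedBy Ω u) :=
    mem_fixing_iff.mpr fun p hp => (Set.ext_iff.mp (hc.same u v x y hq) p).mp hp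
  obtain ⟨a₀, ha₀, ha₀1, -⟩ := line2_exists_ne hl (a := 1)
  obtain ⟨c₀, hc₀, hc₀a⟩ := hc.exists_perp_point hq hl ha₀ ha₀1
  obtain ⟨b₀, hb₀, hb₀c, -⟩ := hc.exists_partner hq hl ha₀ hc₀ hc₀a
  have hb₀1 : b₀ ≠ 1 := fun e => hc₀ <| by
    rw [e, mul_one] at hb₀c
    exact (Set.ext_iff.mp (hc.same u v x y hq) c₀).mpr hb₀c
  obtain ⟨α, hα, hαb⟩ := htr a₀ ha₀ b₀ hb₀ ha₀1 hb₀1
  -- the relation is invariant under `A`
  have hval : ∀ a ∈ E, a ≠ 1 → ∀ c : Ω, u • c ≠ c → (u * a) • c = c →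
      (v * (α * a * α⁻¹)) • c = c := by
    intro a ha ha1 c hcu hca
    obtain ⟨k, hk, hka⟩ := htr a₀ ha₀ a ha ha₀1 ha1
    have hku : Commute k u := commute_of_mem_lineGroup (hA hk).1
    have hkv : Commute k v :=
      commute_fixing_of_lineGroup hc.crit hc.lines hc.two hc.same hq (hA hk).1 hvK
    have hαk : Commute α k := PGroups.comm_of_isMulCommutative hAc hα hk
    have h1 : k * (v * b₀) * k⁻¹ = v * (α * a * α⁻¹) := by
      calc k * (v * b₀) * k⁻¹ = (k * v * k⁻¹) * (k * b₀ * k⁻¹) := by group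
        _ = v * (α * a * α⁻¹) := by
          rw [conj_eq_of_commute hkv, ← hαb, ← hka]
          congr 1
          calc k * (α * a₀ * α⁻¹) * k⁻¹ = (k * α) * a₀ * (k * α)⁻¹ := by group
            _ = (α * k) * a₀ * (α * k)⁻¹ := by rw [hαk.eq]
            _ = _ := by group
    have hkuc : u • k • c₀ ≠ k • c₀ := fun e => hc₀ (MulAction.injective k (by
      show k • u • c₀ = k • c₀
      rw [← mul_smul, hku.eq, mul_smul, e]))
    have hkc₀ : (u * a) • k • c₀ = k • c₀ := by
      rw [← hka, show u * (k * a₀ * k⁻¹) = (u * k) * a₀ * k⁻¹ by group, ← hku.eq,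
        show k * u * a₀ * k⁻¹ = k * (u * a₀) * k⁻¹ by group]
      exact H73.Bender.conj_smul_of_smul hc₀a
    obtain ⟨b, hb, hbc, hbf⟩ := hc.exists_partner hq hl ha hcu hca
    obtain ⟨b', hb', hb'c, hb'f⟩ := hc.exists_partner hq hl ha hkuc hkc₀
    have hvk : (v * (α * a * α⁻¹)) • k • c₀ = k • c₀ :=
      h1 ▸ H73.Bender.conj_smul_of_smul hb₀c
    have hmem : ∀ {e : G}, e ∈ E → e ≠ 1 → e ∈ commMembers D v := fun he he1 =>
      ⟨(line2_member hl he he1).1, commute_fixing_of_member hc.crit hc.lines hc.two hc.same hq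
        ⟨(line2_member hl he he1).1, (line2_member hl he he1).2.1⟩ hvK⟩
    have hFv := hc.same u v x y hq
    have hne1 : α * a * α⁻¹ ≠ 1 := fun e => ha1 (by
      calc a = α⁻¹ * (α * a * α⁻¹) * α := by group
        _ = 1 := by rw [e]; group)
    have hvkc : v • k • c₀ ≠ k • c₀ := fun e => hkuc ((Set.ext_iff.mp hFv _).mpr e)
    have hb'1 : b' ≠ 1 := fun e => hvkc (by rw [e, mul_one] at hb'c; exact hb'c)
    have hbb : b' = α * a * α⁻¹ :=
      hc.middle_unique hq.symm hvkc (hmem hb' hb'1) (hmem (hAE α hα a ha) hne1) hb'c hvk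
    rw [← hbb]
    exact (Set.ext_iff.mp hb'f c).mpr hca
  refine ⟨α, hα, fun a ha ha1 e => ?_, hval⟩
  obtain ⟨c, hcu, hca⟩ := hc.exists_perp_point hq hl ha ha1
  have hva := hval a ha ha1 c hcu hca
  rw [e] at hva
  have haa := line2_mul_self hl hc.crit ha
  have ham := line2_member hl ha ha1
  have hav : Commute a v :=
    commute_fixing_of_member hc.crit hc.lines hc.two hc.same hq ⟨ham.1, ham.2.1⟩ hvK
  have huv : (u * v) • c = c := by
    rw [show u * v = (u * a) * (v * a) by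
      rw [mul_assoc u a, ← mul_assoc a v a, hav.eq, mul_assoc v a a, haa, mul_one],
      mul_smul, hva, hca]
  exact hcu ((Set.ext_iff.mp ((hc.same _ _ _ _ hq.rot).trans (hc.same u v x y hq).symm) c).mp huv)

/-- An involution commuting with `u` is a member times an element of the fixing group. -/
theorem exists_mul_member_fixing {z : G} (hu : orderOf u = 2) (hxy : x ≠ y) (hux : u • x = x)
    (huy : u • y = y) (hz : orderOf z = 2) (hzu : Commute z u) :
    ∃ b, (b = 1 ∨ b ∈ commMembers D u) ∧ Commute b z ∧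
      z * b ∈ fixingSubgroup G (fixedBy Ω u) := by
  haveI : Fact (Nat.Prime 2) := ⟨Nat.prime_two⟩
  have h := hc.crit
  by_cases hzD : z ∈ D
  · exact ⟨z, Or.inr ⟨hzD, hzu⟩, Commute.refl z, by
      rw [mul_self_of_orderOf_eq_two hz]; exact one_mem _⟩
  set L := lineGroup D u
  have hSL : SE L (fixedBy Ω u) := h.line hu hxy hux huy
  set M := L ⊔ zpowers z with hM
  have hzn : z ∈ normalizer (L : Set G) :=
    mem_normalizer_of_conj_mem fun b hb => conj_mem_lineGroup_of_commute h hzu hb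
  have hMcases : ∀ m ∈ M, m ∈ L ∨ m * z ∈ L := by
    intro m hm
    have hm' : m ∈ (L : Set G) * (zpowers z : Set G) := by
      rw [← Subgroup.coe_mul_of_right_le_normalizer_left L (zpowers z) (zpowers_le.mpr hzn)]
      exact hm
    obtain ⟨b, hb, e, he, rfl⟩ := hm'
    rcases eq_one_or_eq_of_sq hz (mem_zpowers z) he (by
      obtain ⟨i, rfl⟩ := he
      rw [← zpow_add, zpow_even_of_orderOf_two hz ⟨i, rfl⟩]) with rfl | rfl
    · exact Or.inl (by simpa using hb)
    · exact Or.inr (by simpa [mul_assoc, mul_self_of_orderOf_eq_two hz] using hb)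
  have hMu : ∀ m ∈ M, Commute m u := by
    intro m hm
    have : M ≤ centralizer ({u} : Set G) := sup_le
      (fun g hg => mem_centralizer_singleton_iff.mpr (commute_of_mem_lineGroup hg).eq)
      (zpowers_le.mpr (mem_centralizer_singleton_iff.mpr hzu.eq))
    exact mem_centralizer_singleton_iff.mp (this hm)
  have hk : ∃ k ∈ M, orderOf k = 2 ∧ k ∈ fixingSubgroup G (fixedBy Ω u) := by
    by_contra hno
    push Not at hno
    have hSM : SE M (fixedBy Ω u) :=
    { smul_mem := fun hm _ hp => smul_fixed_of_commute (hMu _ hm) hp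
      trans := fun hp hp' => by
        obtain ⟨b, hb, e⟩ := hSL.trans hp hp'
        exact ⟨b, mem_sup_left hb, e⟩
      exists_fix := fun {j} hjM hj2 => by
        obtain ⟨p, hp⟩ := (isPGroup_closure_pair (mul_self_of_orderOf_eq_two hj2)
          (mul_self_of_orderOf_eq_two hu) (hMu j hjM)).nonempty_fixed_point_of_prime_not_dvd_card
            Ω h.odd_card.not_two_dvd_nat
        exact ⟨p, hp ⟨u, subset_closure (by simp)⟩, hp ⟨j, subset_closure (by simp)⟩⟩
      fix_unique := fun {j} hjM hj2 {p q} hp hq' hjp hjq => by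
        by_contra hpq
        have e := same_fix hc.two hc.same hj2 hu (hMu j hjM) hpq hjp hjq hp hq'
        exact hno j hjM hj2 (mem_fixing_iff.mpr fun r hr => (Set.ext_iff.mp e r).mpr hr)
      exists_ne := hSL.exists_ne
      exists_inv := ⟨z, mem_sup_right (mem_zpowers z), hz⟩ }
    obtain ⟨d, hd, -, hdu⟩ := h.comm hu hux
    obtain ⟨m, -, hma⟩ := hSM.exists_conj (mem_sup_left (mem_lineGroup hd hdu.symm))
      (mem_sup_right (mem_zpowers z)) (h.inv hd) hz
    exact hzD (hma ▸ h.conj_mem hd m)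
  obtain ⟨k₀, hk₀M, hk₀2, hk₀K⟩ := hk
  set N := M ⊓ fixingSubgroup G (fixedBy Ω u) with hN
  have hNeven : 2 ∣ Nat.card N := hk₀2 ▸ Subgroup.orderOf_dvd_natCard N ⟨hk₀M, hk₀K⟩
  set I := {k : G | k ∈ N ∧ orderOf k = 2}
  have hIodd : Odd (Nat.card I) := by
    have := odd_card_orderTwo hNeven
    let e : {w : N // orderOf w = 2} ≃ I :=
      { toFun := fun w => ⟨((w : N) : G), w.1.2, by rw [Subgroup.orderOf_coe]; exact w.2⟩
        invFun := fun k => ⟨⟨k, k.2.1⟩, by rw [← Subgroup.orderOf_coe]; exact k.2.2⟩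
        left_inv := fun w => rfl
        right_inv := fun k => rfl }
    rwa [Nat.card_congr e] at this
  have hzN : ∀ p ∈ zpowers z, ∀ k ∈ N, p * k * p⁻¹ ∈ N := fun p hp k hk =>
    ⟨M.mul_mem (M.mul_mem (mem_sup_right hp) hk.1) (M.inv_mem (mem_sup_right hp)),
      conj_mem_fixing (hMu p (mem_sup_right hp)) hk.2⟩
  letI : MulAction (zpowers z) I :=
    { smul := fun p k => ⟨(p : G) * k * (p : G)⁻¹, hzN p p.2 k k.2.1, by
        rw [orderOf_conj]; exact k.2.2⟩
      one_smul := fun k => Subtype.ext (show ((1 : zpowers z) : G) * k * ((1 : zpowers z) : G)⁻¹ = k by simp)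
      mul_smul := fun a b k => Subtype.ext (show ((a * b : zpowers z) : G) * k *
        ((a * b : zpowers z) : G)⁻¹ = (a : G) * ((b : G) * k * (b : G)⁻¹) * (a : G)⁻¹ by
          simp [mul_assoc]) }
  have hzp : IsPGroup 2 (zpowers z) := IsPGroup.of_card (n := 1) (by rw [Nat.card_zpowers, hz]; rfl)
  obtain ⟨⟨k, hkN, hk2⟩, hkfix⟩ :=
    hzp.nonempty_fixed_point_of_prime_not_dvd_card I hIodd.not_two_dvd_nat
  have hkz : Commute z k :=
    mul_inv_eq_iff_eq_mul.mp (congrArg Subtype.val (hkfix ⟨z, mem_zpowers z⟩))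
  have hkL : k * z ∈ L := (hMcases k hkN.1).resolve_left fun hkL =>
    hxy (hSL.fix_unique hkL hk2 hux huy (mem_fixing_iff.mp hkN.2 x hux)
      (mem_fixing_iff.mp hkN.2 y huy))
  have hk2' := mul_self_of_orderOf_eq_two hk2
  have hzb : z * (k * z) = k := by
    rw [← hkz.eq, ← mul_assoc, mul_self_of_orderOf_eq_two hz, one_mul]
  refine ⟨k * z, ?_, hkz.symm.mul_left (Commute.refl z), by rw [hzb]; exact hkN.2⟩
  by_cases hkz1 : k = z
  · exact Or.inl (by rw [hkz1, mul_self_of_orderOf_eq_two hz])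
  · exact Or.inr ⟨h.mem_of_mem_lineGroup hu hxy hux huy (orderOf_mul_two hk2 hz hkz.symm hkz1) hkL,
      commute_of_mem_lineGroup hkL⟩

end NPCtx

end Cfsg.Agent.H30.Asch
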