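import Cfsg.Agent.H30.Asch.ShapeTwoFused
import Mathlib.GroupTheory.Transfer

/-!
No element proper, lines of shape two, last step of CASE II of notes/helper26_asch_shape2.md: if the
translations are abelian modulo `E` and self-normalising in the centraliser of `E`, they are the
whole centraliser (Burnside transfer and three fixed-point-free involutions).
-/

set_option autoImplicit false
set_option linter.style.haveILetI false
set_option linter.unusedSectionVars false

namespace Cfsg.Agent.H3.Asch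

open Subgroup MulAction
open Cfsg.Agent.H14.Asch
open Cfsg.Agent.H39
open Cfsg.Agent.H30.Asch
open scoped Pointwise

universe u v

variable {G : Type u} [Group G] [Finite G] {Ω : Type v} [MulAction G Ω] [Finite Ω] {D : Set G}

namespace ShapeTwo

variable {u v : G} {x y : Ω} {E Q A : Subgroup G} (S : ShapeTwo D u v x y E Q A) (hc : NPCtx G Ω D)
include S hc

/-- **Burnside step**: translations abelian modulo `E` and self-normalising in the centraliser of
`E` are all of it. -/
theorem centralizer_le_move_of_normalizer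
    (hmax : ∀ P : Subgroup G, IsPGroup 2 P → moveGroup u E ≤ P → P ≤ centralizer (E : Set G) →
      P = moveGroup u E)
    (hab : ∀ s ∈ moveGroup u E, ∀ t ∈ moveGroup u E, (s * t)⁻¹ * (t * s) ∈ E)
    (hN : ∀ g ∈ centralizer (E : Set G), (∀ t ∈ moveGroup u E, g * t * g⁻¹ ∈ moveGroup u E) →
      g ∈ moveGroup u E) :
    centralizer (E : Set G) ≤ moveGroup u E := by
  haveI : Fact (Nat.Prime 2) := ⟨Nat.prime_two⟩
  set X := centralizer (E : Set G) with hX
  set T := moveGroup u E with hT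
  have hXmem : ∀ {g : G}, g ∈ X → ∀ e ∈ E, Commute g e := fun hg e he =>
    (mem_centralizer_iff.mp hg e he).symm
  have hTX : T ≤ X := fun t ht => mem_centralizer_iff.mpr fun e he => (ht.1 e he).symm.eq
  set N := E.subgroupOf X with hN'
  haveI : N.Normal := ⟨fun n hn g => by
    rw [hN', Subgroup.mem_subgroupOf] at hn ⊢
    simp only [Subgroup.coe_mul, Subgroup.coe_inv]
    rwa [conj_eq_of_commute (hXmem g.2 _ hn)]⟩
  set π := QuotientGroup.mk' N with hπ
  have hsurj : Function.Surjective π := QuotientGroup.mk'_surjective N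
  let P₀ : Sylow 2 X := ⟨T.subgroupOf X,
    (S.isPGroup_moveGroup hc).of_equiv (Subgroup.subgroupOfEquivOfLe hTX).symm,
    fun {P} hP hle => le_antisymm (fun p hp => by
      refine Subgroup.mem_subgroupOf.mpr ((hmax (P.map X.subtype) (hP.map _)
        (fun t ht => ⟨⟨t, hTX ht⟩, hle (Subgroup.mem_subgroupOf.mpr ht), rfl⟩) (map_subtype_le P)).le ?_)
      exact ⟨p, hp, rfl⟩) hle⟩
  set Pq : Sylow 2 (X ⧸ N) := P₀.mapSurjective hsurj with hPq
  have hmemP : ∀ {g : X}, π g ∈ (Pq : Subgroup (X ⧸ N)) → (g : G) ∈ T := by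
    rintro g ⟨p, hp, hpg⟩
    have h1 : (p : G)⁻¹ * g ∈ E := by
      have := (QuotientGroup.eq.mp hpg)
      rw [hN', Subgroup.mem_subgroupOf] at this
      simpa using this
    have := T.mul_mem (Subgroup.mem_subgroupOf.mp hp) (S.E_le_move hc h1)
    rwa [mul_inv_cancel_left] at this
  have hmemP' : ∀ {g : X}, (g : G) ∈ T → π g ∈ (Pq : Subgroup (X ⧸ N)) := fun {g} hg =>
    ⟨g, Subgroup.mem_subgroupOf.mpr hg, rfl⟩
  have hcen : normalizer ((Pq : Subgroup (X ⧸ N)) : Set (X ⧸ N)) ≤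
      centralizer ((Pq : Subgroup (X ⧸ N)) : Set (X ⧸ N)) := by
    intro b hb
    obtain ⟨g, rfl⟩ := hsurj b
    have hgT : (g : G) ∈ T := hN g g.2 fun t ht => by
      have h1 : π (g * ⟨t, hTX ht⟩ * g⁻¹) ∈ (Pq : Subgroup (X ⧸ N)) := by
        rw [map_mul, map_mul, map_inv]
        exact (Subgroup.mem_normalizer_iff.mp hb _).mp (hmemP' ht)
      exact hmemP (g := g * ⟨t, hTX ht⟩ * g⁻¹) h1
    refine mem_centralizer_iff.mpr fun p hp => ?_
    obtain ⟨q, rfl⟩ := hsurj p
    rw [← map_mul, ← map_mul]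
    refine QuotientGroup.eq.mpr ?_
    rw [hN', Subgroup.mem_subgroupOf]
    exact hab q (hmemP hp) g hgT
  set K := (MonoidHom.transferSylow Pq hcen).ker with hK
  have hKP : Disjoint K (Pq : Subgroup (X ⧸ N)) :=
    (MonoidHom.ker_transferSylow_isComplement' Pq hcen).disjoint
  have hkX : ∀ {k : G}, k ∈ lineKer Ω u → k ∈ X := fun hk => hTX (S.ker_le_move hc hk)
  have hfpf : ∀ {k : G} (hk : k ∈ lineKer Ω u), k ≠ 1 → ∀ o ∈ K,
      Commute (π ⟨k, hkX hk⟩) o → o = 1 := by
    intro k hk hk1 o ho hco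
    obtain ⟨g, rfl⟩ := hsurj o
    refine Subgroup.mem_bot.mp (hKP.le_bot ⟨ho, hmemP' ?_⟩)
    have h1 : π ⟨k, hkX hk⟩ = π (g * ⟨k, hkX hk⟩ * g⁻¹) := by
      rw [map_mul, map_mul, map_inv, ← hco.eq, mul_inv_cancel_right]
    have h2 := QuotientGroup.eq.mp h1
    rw [hN', Subgroup.mem_subgroupOf] at h2
    simp only [Subgroup.coe_mul, Subgroup.coe_inv] at h2
    rw [hT, ← S.moveGroup_eq hc hk hk1]
    exact ⟨hXmem g.2, _, h2, by group⟩
  have hu := S.u_mem_ker hc
  have hv := S.v_mem_ker hc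
  have hsq : ∀ {k : G} (hk : k ∈ lineKer Ω u), π ⟨k, hkX hk⟩ * π ⟨k, hkX hk⟩ = 1 := fun {k} hk => by
    rw [← map_mul, show (⟨k, hkX hk⟩ : X) * ⟨k, hkX hk⟩ = 1 from
      Subtype.ext (S.ker_mul_self hc hk), map_one]
  have hbot : K = ⊥ := eq_bot_of_three_fpf (hsq hu) (hsq hv)
    (hfpf hu (S.u_ne_one hc)) (hfpf hv (ne_one_of_orderOf_eq_two S.quad.bv.1))
    (fun o ho h1 => hfpf (mul_mem hu hv) (ne_one_of_orderOf_eq_two S.quad.bw.1) o ho
      (by rwa [← map_mul] at h1))
  have hcomp := MonoidHom.ker_transferSylow_isComplement' Pq hcen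
  rw [← hK, hbot, Subgroup.isComplement'_bot_left] at hcomp
  intro g hg
  exact hmemP (g := ⟨g, hg⟩) (hcomp ▸ Subgroup.mem_top _)

end ShapeTwo

end Cfsg.Agent.H3.Asch
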