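import Mathlib.Tactic

/-!
The algebra of a four group of bad involutions with two common fixed points
(notes/helper30_asch_rank_v2.md, 1).

`f` points are fixed by the group and `fu`, `fv`, `fw` by its involutions, `n` is the number of
points; `M` members at a point centralise the group, `p`, `r`, `s` its involutions, `m` members fix
the point.  No information on the type of the lines is used.
-/

set_option autoImplicit false

namespace Cfsg.Agent.H30.Asch

/-- If `v` alone is proper it fixes every point. -/
theorem eq_points_of_one_proper {n f fv m M r p s : ℤ} (hf : 2 ≤ f) (hm : 0 < m) (hM : 0 < M)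
    (hp : 0 < p) (hs : 0 < s)
    (houtu : m * (n - f) = f * (f - 1) * p ^ 2) (houtw : m * (n - f) = f * (f - 1) * s ^ 2)
    (hin : r * (fv - f) = f * (f - 1) * M ^ 2) (hW : m * M ^ 2 = p * r * s) : n = fv := by
  have ha : f * (f - 1) ≠ 0 := mul_ne_zero (by omega) (by omega)
  have h2 : p ^ 2 = s ^ 2 := mul_left_cancel₀ ha (houtu.symm.trans houtw)
  have hps : p = s := by
    rcases sq_eq_sq_iff_eq_or_eq_neg.mp h2 with e | e <;> omega
  subst hps
  have h1 : (n - f) * (m * M ^ 2) = (fv - f) * (m * M ^ 2) := by
    linear_combination M ^ 2 * houtu - p ^ 2 * hin - (fv - f) * hW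
  have := mul_right_cancel₀ (mul_ne_zero hm.ne' (pow_ne_zero 2 hM.ne')) h1
  omega

/-- Two proper elements have as many fixed points. -/
theorem eq_of_two_proper {n f fu fv m M p r s : ℤ} (hf : 2 ≤ f) (hM : 0 < M)
    (hp : 0 < p) (hr : 0 < r)
    (houtu : m * (n - fu) = fu * (fu - 1) * p ^ 2) (houtv : m * (n - fv) = fv * (fv - 1) * r ^ 2)
    (houtw : m * (n - f) = f * (f - 1) * s ^ 2)
    (hinu : p * (fu - f) = f * (f - 1) * M ^ 2) (hinv : r * (fv - f) = f * (f - 1) * M ^ 2)
    (hW : m * M ^ 2 = p * r * s) : fu = fv := by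
  have ha0 : 0 < f * (f - 1) := mul_pos (by omega) (by omega)
  set a := f * (f - 1) with ha
  set t := M ^ 2 with ht
  have ht0 : 0 < t := by positivity
  have e1 : s ^ 2 - r * s = p ^ 2 + (2 * f - 1) * (t * p) + a * t ^ 2 := by
    apply mul_left_cancel₀ ha0.ne'
    have hg : m * (fu - f) * t = a * r * s * t := by
      linear_combination (fu - f) * hW + r * s * hinu
    have hg' := mul_right_cancel₀ ht0.ne' hg
    linear_combination houtu - houtw + hg' + (p * (fu + f - 1) + (p * (fu - f)) - p * (fu - f) +
      a * t) * hinu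
  have e2 : s ^ 2 - p * s = r ^ 2 + (2 * f - 1) * (t * r) + a * t ^ 2 := by
    apply mul_left_cancel₀ ha0.ne'
    have hg : m * (fv - f) * t = a * p * s * t := by
      linear_combination (fv - f) * hW + p * s * hinv
    have hg' := mul_right_cancel₀ ht0.ne' hg
    linear_combination houtv - houtw + hg' + (r * (fv + f - 1) + a * t) * hinv
  have hpr : p = r := by
    by_contra hne
    have e3 : s = p + r + (2 * f - 1) * t := by
      apply mul_left_cancel₀ (sub_ne_zero.mpr hne)
      linear_combination e1 - e2
    subst e3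
    have h4 : p * r + (2 * f - 1) * t * (r + p) + ((2 * f - 1) ^ 2 - a) * t ^ 2 = 0 := by
      linear_combination e1
    have h5 : 0 ≤ ((2 * f - 1) ^ 2 - a) * t ^ 2 := by
      rw [ha]; exact mul_nonneg (by nlinarith) (sq_nonneg t)
    have h6 : 0 ≤ (2 * f - 1) * t * (r + p) :=
      mul_nonneg (mul_nonneg (by omega) ht0.le) (by omega)
    nlinarith [mul_pos hp hr]
  subst hpr
  have := mul_left_cancel₀ hp.ne' (hinu.trans hinv.symm)
  omega

/-- Three proper elements have as many fixed points. -/
theorem eq_of_three_proper {n f fu fv fw m M p r s : ℤ} (hf : 2 ≤ f) (hM : 0 < M)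
    (hp : 0 < p) (hr : 0 < r) (hs : 0 < s)
    (houtu : m * (n - fu) = fu * (fu - 1) * p ^ 2) (houtv : m * (n - fv) = fv * (fv - 1) * r ^ 2)
    (houtw : m * (n - fw) = fw * (fw - 1) * s ^ 2)
    (hinu : p * (fu - f) = f * (f - 1) * M ^ 2) (hinv : r * (fv - f) = f * (f - 1) * M ^ 2)
    (hinw : s * (fw - f) = f * (f - 1) * M ^ 2) (hW : m * M ^ 2 = p * r * s) :
    fu = fv ∧ fv = fw := by
  have ha0 : 0 < f * (f - 1) := mul_pos (by omega) (by omega)
  set a := f * (f - 1) with ha
  set t := M ^ 2 with ht
  have ht0 : 0 < t := by positivity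
  have key : ∀ (g p' r' s' : ℤ), m * t = p' * r' * s' → m * (n - g) = g * (g - 1) * p' ^ 2 →
      p' * (g - f) = a * t →
      m * (n - f) = a * r' * s' + a * (p' ^ 2 + (2 * f - 1) * (t * p') + a * t ^ 2) := by
    intro g p' r' s' hW' hout hin
    have hg : m * (g - f) * t = a * r' * s' * t := by
      linear_combination (g - f) * hW' + r' * s' * hin
    have hg' := mul_right_cancel₀ ht0.ne' hg
    linear_combination hout + hg' + (p' * (g + f - 1) + a * t) * hin
  have k1 := key fu p r s hW houtu hinu
  have k2 := key fv r p s (by linear_combination hW) houtv hinv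
  have k3 := key fw s p r (by linear_combination hW) houtw hinw
  have pair : ∀ (p' r' s' : ℤ), p' ≠ r' →
      a * r' * s' + a * (p' ^ 2 + (2 * f - 1) * (t * p') + a * t ^ 2) =
        a * p' * s' + a * (r' ^ 2 + (2 * f - 1) * (t * r') + a * t ^ 2) →
      s' = p' + r' + (2 * f - 1) * t := by
    intro p' r' s' hne e
    apply mul_left_cancel₀ (mul_ne_zero ha0.ne' (sub_ne_zero.mpr hne))
    linear_combination -e
  have hc : 0 < (2 * f - 1) * t := mul_pos (by omega) ht0
  have hpr : p = r := by
    by_contra hne
    have e1 := pair p r s hne (k1.symm.trans k2)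
    have e2 := pair p s r (by omega) (by linear_combination k3 - k1)
    omega
  have hrs : r = s := by
    by_contra hne
    have e1 := pair r s p hne (by linear_combination k3 - k2)
    omega
  subst hpr hrs
  have h1 := mul_left_cancel₀ hp.ne' (hinu.trans hinv.symm)
  have h2 := mul_left_cancel₀ hp.ne' (hinv.trans hinw.symm)
  omega

end Cfsg.Agent.H30.Asch
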