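import Cfsg.Agent.H30.Asch.QuadShift
import Cfsg.Agent.H30.Asch.QuadArith

/-!
The equations of a four group of involutions with two common fixed points, and their first
consequences: no group has exactly one proper element, and two proper elements fix as many points
(`notes/helper30_asch_rank_v2.md`, 1).
-/

set_option autoImplicit false
set_option linter.style.haveILetI false

namespace Cfsg.Agent.H30.Asch

open Subgroup MulAction
open Cfsg.Agent.H14.Asch
open Cfsg.Agent.H39
open Cfsg.Agent.H73.Bender (SE)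
open Cfsg.Agent.H73.Asch (RankTwoBad Line2 HasLines2)

universe u v

variable {G : Type u} [Group G] [Finite G] {Ω : Type v} [MulAction G Ω] [Finite Ω] {D : Set G}

/-- **OUT**, for every bad involution of rank two. -/
theorem count_out (h : Crit G Ω D) (hL : HasLines2 Ω D) {u : G} (hu : RankTwoBad Ω D u) {x : Ω}
    (hx : u • x = x) :
    Nat.card (swappers D x x) * (Nat.card Ω - Nat.card (fixedBy Ω u)) =
      Nat.card (fixedBy Ω u) * (Nat.card (fixedBy Ω u) - 1) * Nat.card (commSwap D u x x) ^ 2 := by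
  classical
  obtain ⟨hu2, ⟨a, b, hab, ha, hb⟩, -⟩ := id hu
  haveI := Fintype.ofFinite (commMembers D u)
  choose p hp using fun a : commMembers D u => (h.unique a.2.1).exists
  have hterm : ∀ c : commMembers D u,
      Nat.card (commSwap D (u * (c : G)) (p c) (p c)) * (Nat.card (fixedBy Ω (u * (c : G))) - 1) =
        Nat.card (commSwap D u x x) * (Nat.card (fixedBy Ω u) - 1) := by
    intro c
    obtain ⟨g, hg⟩ := exists_conj_mul_member h hL hu c.2
    have hga : (g * u * g⁻¹) • g • a = g • a := H73.Bender.conj_smul_of_smul ha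
    have hgb : (g * u * g⁻¹) • g • b = g • b := H73.Bender.conj_smul_of_smul hb
    have hgx : (g * u * g⁻¹) • g • x = g • x := H73.Bender.conj_smul_of_smul hx
    have hpc : (g * u * g⁻¹) • p c = p c := by
      rw [hg, mul_smul, hp, h.fix_of_commute c.2.1 c.2.2.symm (hp c)]
    rw [← hg, card_fixedBy_conj, h.card_commSwap (by rw [orderOf_conj, hu2])
      (fun e => hab (MulAction.injective g e)) hga hgb hpc hpc hgx, card_commSwap_conj h]
  rw [h.count_formula hu2 hab ha hb p hp x, Finset.sum_congr rfl fun c _ => hterm c,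
    Finset.sum_const, Finset.card_univ, smul_eq_mul, ← Nat.card_eq_fintype_card,
    card_commMembers h hu2 hab ha hb, h.card_commSwap hu2 hab ha hb ha ha hx]
  ring

/-- The fixed points of `v` moved by `u`. -/
theorem card_moved_add (u v : G) :
    Nat.card {c : Ω // v • c = c ∧ u • c ≠ c} + Nat.card (fix2 Ω u v) =
      Nat.card (fixedBy Ω v) := by
  classical
  change Nat.card ({c : Ω | v • c = c ∧ u • c ≠ c} : Set Ω) + _ = _
  rw [Nat.card_coe_set_eq, Nat.card_coe_set_eq, Nat.card_coe_set_eq, ← Set.ncard_union_eq]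
  · congr 1
    ext c
    simp only [Set.mem_union, Set.mem_ofPred_eq, fix2, mem_fixedBy]
    tauto
  · rw [Set.disjoint_left]
    exact fun c hc hc' => hc.2 hc'.1

/-- **IN**: `v` has a fixed point moved by `u`. -/
theorem count_in (h : Crit G Ω D) (hL : HasLines2 Ω D) {u v : G} (hu : orderOf u = 2)
    (hv : RankTwoBad Ω D v) (hcm : Commute u v) {x y : Ω} (hxy : x ≠ y) (hx : x ∈ fix2 Ω u v)
    (hy : y ∈ fix2 Ω u v) {c : Ω} (hvc : v • c = c) (huc : u • c ≠ c) :
    Nat.card (commSwap D v x x) * (Nat.card (fixedBy Ω v) - Nat.card (fix2 Ω u v)) =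
      Nat.card (fix2 Ω u v) * (Nat.card (fix2 Ω u v) - 1) * Nat.card (pairSwap D u v x x) ^ 2 := by
  classical
  haveI := Fintype.ofFinite (pairMembers D u v)
  choose p hp using fun a : pairMembers D u v => (h.unique a.2.1).exists
  have hterm : ∀ a : pairMembers D u v,
      Nat.card (pairSwap D (u * (a : G)) v (p a) (p a)) *
          (Nat.card (fix2 Ω (u * (a : G)) v) - 1) =
        Nat.card (pairSwap D u v x x) * (Nat.card (fix2 Ω u v) - 1) := by
    intro a
    obtain ⟨g, hgu, hgv⟩ := exists_conj_mul_pair h hL hu hv hcm hxy hx hy hvc huc a.2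
    have hfx : ∀ {z : Ω}, z ∈ fix2 Ω u v → g • z ∈ fix2 Ω (u * (a : G)) v := fun {z} hz =>
      ⟨by rw [← hgu]; exact H73.Bender.conj_smul_of_smul hz.1,
        smul_fixed_of_commute (commute_of_conj_eq hgv) hz.2⟩
    have hpa : p a ∈ fix2 Ω (u * (a : G)) v :=
      ⟨by rw [mul_smul, hp, h.fix_of_commute a.2.1 a.2.2.1.symm (hp a)],
        h.fix_of_commute a.2.1 a.2.2.2.symm (hp a)⟩
    have h2 : orderOf (u * (a : G)) = 2 := by rw [← hgu, orderOf_conj, hu]
    rw [card_pairSwap h h2 hv.1 (hcm.mul_left a.2.2.2) (fun e => hxy (MulAction.injective g e))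
      (hfx hx) (hfx hy) hpa hpa (hfx hx)]
    conv_lhs => rw [← hgu, ← hgv]
    rw [card_pairSwap_conj h, card_fix2_conj]
  have h1 := count_formula_pair h hu hv.1 hcm hxy hx hy p hp
  rw [Finset.sum_congr rfl fun a _ => hterm a, Finset.sum_const, Finset.card_univ, smul_eq_mul,
    ← Nat.card_eq_fintype_card, card_pairMembers h hu hv.1 hcm hxy hx hy] at h1
  rw [show Nat.card (fixedBy Ω v) - Nat.card (fix2 Ω u v) =
    Nat.card {c : Ω // v • c = c ∧ u • c ≠ c} by
      rw [← card_moved_add u v, Nat.add_sub_cancel_right], h1]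
  ring

/-- **WIELANDT** for the swappers of a pair. -/
theorem card_swappers_four (h : Crit G Ω D) {u v : G} (hu : orderOf u = 2) (hv : orderOf v = 2)
    (hcm : Commute u v) {x y : Ω} (hxy : x ≠ y) (hx : x ∈ fix2 Ω u v) (hy : y ∈ fix2 Ω u v) :
    Nat.card (swappers D x y) * Nat.card (pairSwap D u v x y) ^ 2 =
      Nat.card (commSwap D u x y) * Nat.card (commSwap D v x y) *
        Nat.card (commSwap D (u * v) x y) := by
  classical
  have huv : orderOf (u * v) ∣ 2 := by
    refine orderOf_dvd_of_pow_eq_one ?_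
    rw [hcm.mul_pow, sq, sq, mul_self_of_orderOf_eq_two hu, mul_self_of_orderOf_eq_two hv,
      one_mul]
  set T := closure ({u, v} : Set G) with hT
  have huT : u ∈ T := subset_closure (Set.mem_insert _ _)
  have hvT : v ∈ T := subset_closure (Set.mem_insert_of_mem _ rfl)
  obtain ⟨w, hw, hwT⟩ := h.exists_commuting_swapper hxy
    (isPGroup_closure_pair (mul_self_of_orderOf_eq_two hu) (mul_self_of_orderOf_eq_two hv) hcm)
    ((closure_le _).mpr (by rintro g (rfl | rfl); exacts [⟨hx.1, hy.1⟩, ⟨hx.2, hy.2⟩]) :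
      T ≤ pairStab G x y)
  set O := pairCore G x y with hO
  have hnorm : ∀ g ∈ pairStab G x y, ∀ k ∈ O, g * k * g⁻¹ ∈ O := by
    rintro g hg k ⟨m, hm, rfl⟩
    haveI : (Cfsg.oddCore ↥(pairStab G x y)).Characteristic := Cores.pPrimeCore_characteristic
    exact ⟨⟨g, hg⟩ * m * ⟨g, hg⟩⁻¹, Subgroup.Normal.conj_mem inferInstance m hm _, rfl⟩
  have huO : ∀ k ∈ O, u * k * u⁻¹ ∈ O := hnorm u ⟨hx.1, hy.1⟩
  have hvO : ∀ k ∈ O, v * k * v⁻¹ ∈ O := hnorm v ⟨hx.2, hy.2⟩
  have huw : Commute u w := hwT u huT
  have hvw : Commute v w := hwT v hvT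
  set Ow := O ⊓ centralizer ({w} : Set G) with hOw
  have hnw : ∀ {z : G}, Commute z w → (∀ k ∈ O, z * k * z⁻¹ ∈ O) →
      ∀ k ∈ Ow, z * k * z⁻¹ ∈ Ow := fun {z} hz hzO k hk =>
    ⟨hzO k hk.1, mem_centralizer_singleton_iff.mpr ((hz.mul_left
      (mem_centralizer_singleton_iff.mp hk.2 : Commute k w)).mul_left hz.inv_left).eq⟩
  -- the swappers commuting with a set are one orbit of its centraliser in `O`
  have horb : ∀ X : Set G, (∀ e ∈ X, Commute e w) →
      Nat.card {d : G // d ∈ swappers D x y ∧ ∀ e ∈ X, Commute d e} *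
          Nat.card ↥(Ow ⊓ centralizer X) = Nat.card ↥(O ⊓ centralizer X) := by
    intro X hX
    set Y := O ⊓ centralizer X with hY
    let f : Y → {d : G // d ∈ swappers D x y ∧ ∀ e ∈ X, Commute d e} := fun k =>
      ⟨(k : G) * w * (k : G)⁻¹,
        h.conj_mem_swappers hw (pairStab_le_edgeStab x y (pairCore_le x y k.2.1)), fun e he => by
          have hke : Commute (k : G) e := (mem_centralizer_iff.mp k.2.2 e he).symm
          exact (hke.mul_left (hX e he).symm).mul_left hke.inv_left⟩
    have hsurj : Function.Surjective f := by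
      rintro ⟨w', hw', hw'X⟩
      set g := w' * w with hgdef
      have hodd := h.odd_orderOf_mul_swappers hxy hw hw'
      have hgO : g ∈ O := by
        have hgM : g ∈ edgeStab G x y :=
          mul_mem (h.mem_edgeStab_of_mem hw') (h.mem_edgeStab_of_mem hw)
        have h0 := h.commutator_mem_pairCore hxy hw hgM
        rw [conj_mul_involutions (h.inv hw.1) (h.inv hw'.1), ← mul_inv_rev] at h0
        obtain ⟨j, hj⟩ := id hodd
        have hgg : g = (g * g) ^ (j + 1) := by
          rw [← sq, ← pow_mul, show 2 * (j + 1) = (2 * j + 1) + 1 by ring, pow_succ, ← hj,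
            pow_orderOf_eq_one, one_mul]
        rw [hgg]
        exact pow_mem (inv_mem_iff.mp h0) _
      obtain ⟨k, hk, -, -, hkc⟩ := exists_conj_of_odd (h.inv hw.1) (h.inv hw'.1) hodd
      have hkX : k ∈ centralizer X := mem_centralizer_iff.mpr fun e he => by
        obtain ⟨i, rfl⟩ := hk
        exact (((hw'X e he).mul_left (hX e he).symm).zpow_left i).symm.eq
      exact ⟨⟨k, zpowers_le.mpr hgO hk, hkX⟩, Subtype.ext hkc⟩
    have hfib : ∀ a b : Y, f a = f b ↔ a⁻¹ * b ∈ (centralizer ({w} : Set G)).subgroupOf Y := by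
      intro a b
      simp only [f, Subtype.mk.injEq, Subgroup.mem_subgroupOf, mem_centralizer_singleton_iff,
        Subgroup.coe_mul, Subgroup.coe_inv]
      constructor
      · intro e
        calc (a : G)⁻¹ * b * w = (a : G)⁻¹ * ((b : G) * w * (b : G)⁻¹) * b := by group
          _ = (a : G)⁻¹ * ((a : G) * w * (a : G)⁻¹) * b := by rw [e]
          _ = w * ((a : G)⁻¹ * b) := by group
      · intro e
        calc (a : G) * w * (a : G)⁻¹ = a * (w * ((a : G)⁻¹ * b)) * (b : G)⁻¹ := by group
          _ = (b : G) * w * (b : G)⁻¹ := by rw [← e]; group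
    let φ : Y ⧸ (centralizer ({w} : Set G)).subgroupOf Y →
        {d : G // d ∈ swappers D x y ∧ ∀ e ∈ X, Commute d e} :=
      Quotient.lift f fun a b hab => (hfib a b).mpr (QuotientGroup.leftRel_apply.mp hab)
    have hφ : Function.Bijective φ := by
      refine ⟨fun p q e => ?_, fun d => ?_⟩
      · induction p using QuotientGroup.induction_on with | _ a =>
        induction q using QuotientGroup.induction_on with | _ b =>
        exact QuotientGroup.eq.mpr ((hfib a b).mp e)
      · obtain ⟨k, hk⟩ := hsurj d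
        exact ⟨QuotientGroup.mk k, hk⟩
    have e1 : Nat.card ↥(Ow ⊓ centralizer X) =
        Nat.card ↥((centralizer ({w} : Set G)).subgroupOf Y) := by
      rw [← inf_subgroupOf_left, Nat.card_congr
        (Subgroup.subgroupOfEquivOfLe (inf_le_left : Y ⊓ centralizer ({w} : Set G) ≤ Y)).toEquiv]
      congr 2
      rw [hOw, hY, inf_right_comm]
    rw [← Nat.card_congr (Equiv.ofBijective φ hφ), e1, ← Subgroup.index_eq_card,
      Subgroup.index_mul_card]
  have hcount : ∀ e : G, Commute e w →
      Nat.card (commSwap D e x y) * Nat.card ↥(Ow ⊓ centralizer {e}) =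
        Nat.card ↥(O ⊓ centralizer {e}) := by
    intro e he
    rw [← horb {e} (by simpa using he)]
    congr 1
    refine Nat.card_congr (Equiv.subtypeEquivRight fun d => ?_)
    simp only [commSwap, swappers, Set.mem_ofPred_eq, Set.mem_singleton_iff, forall_eq]
    tauto
  have h0 : Nat.card (swappers D x y) * Nat.card Ow = Nat.card O :=
    h.card_swappers_mul hxy hw
  have h2 : Nat.card (pairSwap D u v x y) * Nat.card ↥(Ow ⊓ centralizer ({u, v} : Set G)) =
      Nat.card ↥(O ⊓ centralizer ({u, v} : Set G)) := by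
    rw [← horb {u, v} (by rintro e (rfl | rfl); exacts [huw, hvw])]
    congr 1
    refine Nat.card_congr (Equiv.subtypeEquivRight fun d => ?_)
    simp only [pairSwap, swappers, Set.mem_ofPred_eq, Set.mem_insert_iff, Set.mem_singleton_iff,
      forall_eq_or_imp, forall_eq]
    tauto
  have huu := mul_self_of_orderOf_eq_two hu
  have hvv := mul_self_of_orderOf_eq_two hv
  have hO1 := H1.Asch.card_mul_fix_sq huu hvv hcm (odd_card_pairCore x y) huO hvO
  have hO2 := H1.Asch.card_mul_fix_sq huu hvv hcm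
    ((odd_card_pairCore x y).of_dvd_nat (card_dvd_of_le (inf_le_left : Ow ≤ O)))
    (hnw huw huO) (hnw hvw hvO)
  rw [← h0, ← h2, ← hcount u huw, ← hcount v hvw, ← hcount _ (huw.mul_left hvw)] at hO1
  have hpos : 0 < Nat.card Ow * Nat.card ↥(Ow ⊓ centralizer ({u, v} : Set G)) ^ 2 :=
    Nat.mul_pos Nat.card_pos (pow_pos Nat.card_pos _)
  apply Nat.eq_of_mul_eq_mul_right hpos
  calc _ = Nat.card (swappers D x y) * Nat.card Ow * (Nat.card (pairSwap D u v x y) *
          Nat.card ↥(Ow ⊓ centralizer ({u, v} : Set G))) ^ 2 := by ring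
    _ = _ := by rw [hO1, hO2]; ring

end Cfsg.Agent.H30.Asch
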