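import Cfsg.Agent.H30.Asch.Quad

/-!
The case in which no element of a four group with two fixed points has further fixed points:
each moved point lies in the fixed set of a second four group, commuting with the first.
-/

set_option autoImplicit false
set_option linter.style.haveILetI false

namespace Cfsg.Agent.H30.Asch

open Subgroup MulAction
open Cfsg.Agent.H14.Asch
open Cfsg.Agent.H39
open Cfsg.Agent.H73.Bender (SE)
open Cfsg.Agent.H73.Asch (RankTwoBad Line2 HasLines2)
open scoped Pointwise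

universe u v

variable {G : Type u} [Group G] {Ω : Type v} [MulAction G Ω] {D : Set G}

/-- Every involution with two fixed points has rank two. -/
def AllRankTwo (Ω : Type v) [MulAction G Ω] (D : Set G) : Prop :=
  ∀ t : G, orderOf t = 2 → ∀ a b : Ω, a ≠ b → t • a = a → t • b = b → RankTwoBad Ω D t

/-- The elements of a four group fixing two points have the same fixed points. -/
def SameFix (Ω : Type v) [MulAction G Ω] (D : Set G) : Prop :=
  ∀ (u v : G) (x y : Ω), Quad Ω D u v x y → fixedBy Ω u = fixedBy Ω v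

theorem orderOf_mul_two {u v : G} (hu : orderOf u = 2) (hv : orderOf v = 2) (hc : Commute u v)
    (hne : u ≠ v) : orderOf (u * v) = 2 := by
  refine orderOf_eq_two_of_mul_self ?_ fun e => hne ?_
  · calc u * v * (u * v) = u * (v * u) * v := by group
      _ = (u * u) * (v * v) := by rw [hc.symm.eq]; group
      _ = 1 := by rw [mul_self_of_orderOf_eq_two hu, mul_self_of_orderOf_eq_two hv, mul_one]
  · rw [eq_inv_of_mul_eq_one_left e, inv_eq_of_orderOf_eq_two hv]

theorem mem_fixing_iff {s : Set Ω} {g : G} :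
    g ∈ fixingSubgroup G s ↔ ∀ p ∈ s, g • p = p := mem_fixingSubgroup_iff G

theorem quad_of_pair (htwo : AllRankTwo Ω D) {u v : G} (hu : orderOf u = 2) (hv : orderOf v = 2)
    (hc : Commute u v) (hne : u ≠ v) {x y : Ω} (hxy : x ≠ y) (hx : x ∈ fix2 Ω u v)
    (hy : y ∈ fix2 Ω u v) : Quad Ω D u v x y :=
  ⟨htwo u hu x y hxy hx.1 hy.1, htwo v hv x y hxy hx.2 hy.2,
    htwo (u * v) (orderOf_mul_two hu hv hc hne) x y hxy (by rw [mul_smul, hx.2, hx.1])
      (by rw [mul_smul, hy.2, hy.1]), hc, hxy, hx, hy⟩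

theorem same_fix (htwo : AllRankTwo Ω D) (hS : SameFix Ω D) {u v : G} (hu : orderOf u = 2)
    (hv : orderOf v = 2) (hc : Commute u v) {x y : Ω} (hxy : x ≠ y) (hux : u • x = x)
    (huy : u • y = y) (hvx : v • x = x) (hvy : v • y = y) : fixedBy Ω u = fixedBy Ω v := by
  by_cases hne : u = v
  · rw [hne]
  · exact hS u v x y (quad_of_pair htwo hu hv hc hne hxy ⟨hux, hvx⟩ ⟨huy, hvy⟩)

/-- An involution fixing all fixed points of a bad involution fixes no other point. -/
theorem fixedBy_eq_of_fixing [Finite G] (htwo : AllRankTwo Ω D) (hS : SameFix Ω D) {u t : G}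
    (hu : orderOf u = 2) {x y : Ω} (hxy : x ≠ y) (hx : u • x = x) (hy : u • y = y)
    (ht : orderOf t = 2) (htK : t ∈ fixingSubgroup G (fixedBy Ω u)) :
    fixedBy Ω t = fixedBy Ω u := by
  haveI : Fact (Nat.Prime 2) := ⟨Nat.prime_two⟩
  set K := fixingSubgroup G (fixedBy Ω u) with hK
  have huK : u ∈ K := mem_fixing_iff.mpr fun p hp => hp
  obtain ⟨P, hP⟩ := (IsPGroup.of_card (n := 1) (by
    rw [Nat.card_zpowers, ← Subgroup.orderOf_coe, ht]; rfl) :
      IsPGroup 2 (zpowers (⟨t, htK⟩ : K))).exists_le_sylow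
  have htP : (⟨t, htK⟩ : K) ∈ P := hP (mem_zpowers _)
  obtain ⟨P', hP'⟩ := (IsPGroup.of_card (n := 1) (by
    rw [Nat.card_zpowers, ← Subgroup.orderOf_coe, hu]; rfl) :
      IsPGroup 2 (zpowers (⟨u, huK⟩ : K))).exists_le_sylow
  obtain ⟨k, rfl⟩ := MulAction.exists_smul_eq K P' P
  have hu'P : k * ⟨u, huK⟩ * k⁻¹ ∈ ((k • P' : Sylow 2 K) : Subgroup K) :=
    Subgroup.smul_mem_pointwise_smul _ (MulAut.conj k) _ (hP' (mem_zpowers _))
  set P := ((k • P' : Sylow 2 K) : Subgroup K)
  have hPp : IsPGroup 2 P := (k • P').isPGroup'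
  haveI : Nontrivial P := ⟨⟨⟨_, htP⟩, 1, fun e =>
    ne_one_of_orderOf_eq_two ht (congrArg (fun g : P => ((g : K) : G)) e)⟩⟩
  obtain ⟨z, hz⟩ := exists_prime_orderOf_dvd_card' (G := center P) 2 (by
    haveI := hPp.center_nontrivial
    obtain ⟨n, hn⟩ := IsPGroup.iff_card.mp (hPp.to_subgroup (center P))
    rw [hn]
    refine dvd_pow_self 2 fun e => ?_
    rw [e, pow_zero] at hn
    exact absurd hn (Finite.one_lt_card (α := center P)).ne')
  set zG : G := (((z : P) : K) : G) with hzG
  have hz2 : orderOf zG = 2 := by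
    rw [hzG, Subgroup.orderOf_coe, Subgroup.orderOf_coe, Subgroup.orderOf_coe, hz]
  have hzc : ∀ g : P, Commute zG ((g : K) : G) := fun g =>
    congrArg (fun h : P => ((h : K) : G)) (Subgroup.mem_center_iff.mp z.2 g).symm
  have hzK : ∀ p ∈ fixedBy Ω u, zG • p = p := mem_fixing_iff.mp ((z : P) : K).2
  have hu'fix : ∀ p : Ω, ((k : G) * u * (k : G)⁻¹) • p = p ↔ p ∈ fixedBy Ω u := by
    intro p
    have hk := mem_fixing_iff.mp k.2
    constructor
    · intro e
      rw [mul_smul, mul_smul] at e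
      have e' : u • (k : G)⁻¹ • p = (k : G)⁻¹ • p := eq_inv_smul_iff.mpr e
      have := hk _ e'
      rw [smul_inv_smul] at this
      rwa [← this] at e'
    · intro hp
      rw [mul_smul, mul_smul, inv_smul_eq_iff.mpr (hk p hp).symm, show u • p = p from hp, hk p hp]
  have h1 : fixedBy Ω ((k : G) * u * (k : G)⁻¹) = fixedBy Ω u := Set.ext hu'fix
  have h2 : fixedBy Ω zG = fixedBy Ω ((k : G) * u * (k : G)⁻¹) :=
    same_fix htwo hS hz2 (by rw [orderOf_conj, hu]) (hzc ⟨_, hu'P⟩) hxy (hzK x hx) (hzK y hy)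
      ((hu'fix x).mpr hx) ((hu'fix y).mpr hy)
  rw [← h1, ← h2]
  exact same_fix htwo hS ht hz2 (hzc ⟨_, htP⟩).symm hxy (mem_fixing_iff.mp htK x hx)
    (mem_fixing_iff.mp htK y hy) (hzK x hx) (hzK y hy)

/-- An element commuting with `u` normalises the fixing group of its fixed points. -/
theorem conj_mem_fixing {g u k : G} (hg : Commute g u) (hk : k ∈ fixingSubgroup G (fixedBy Ω u)) :
    g * k * g⁻¹ ∈ fixingSubgroup G (fixedBy Ω u) := by
  refine mem_fixing_iff.mpr fun p hp => ?_
  rw [mul_smul, mul_smul, mem_fixing_iff.mp hk _ (smul_fixed_of_commute hg.inv_left hp),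
    smul_inv_smul]

theorem conj_mem_lineGroup_of_commute [Finite G] (h : Crit G Ω D) {g t b : G} (hg : Commute g t)
    (hb : b ∈ lineGroup D t) : g * b * g⁻¹ ∈ lineGroup D t := by
  induction hb using Subgroup.closure_induction with
  | mem d hd =>
    refine mem_lineGroup (h.conj_mem hd.1 g) ?_
    exact (hg.mul_left (mem_centralizer_singleton_iff.mp hd.2 : Commute d t)).mul_left hg.inv_left
  | one => simp
  | mul a b _ _ iha ihb =>
    rw [show g * (a * b) * g⁻¹ = (g * a * g⁻¹) * (g * b * g⁻¹) by group]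
    exact mul_mem iha ihb
  | inv a _ iha =>
    rw [show g * a⁻¹ * g⁻¹ = (g * a * g⁻¹)⁻¹ by group]
    exact inv_mem iha

/-- The number of involutions of a group of even order is odd. -/
theorem odd_card_orderTwo {H : Type*} [Group H] [Finite H] (h2 : 2 ∣ Nat.card H) :
    Odd (Nat.card {z : H // orderOf z = 2}) := by
  classical
  haveI := Fintype.ofFinite H
  let σ : Equiv.Perm H := Equiv.inv H
  have hσ : σ ^ 2 ^ 1 = 1 := by ext g; simp [σ, pow_two]
  have hs := Equiv.Perm.two_dvd_card_support (σ := σ) (by simpa using hσ)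
  have hsupp : σ.support = Finset.univ \ insert 1 (Finset.univ.filter fun z : H => orderOf z = 2) := by
    ext g
    simp only [σ, Equiv.Perm.mem_support, Equiv.inv_apply, Finset.mem_sdiff, Finset.mem_univ,
      Finset.mem_insert, Finset.mem_filter, true_and]
    constructor
    · rintro h (rfl | h2)
      · exact h inv_one
      · exact h (H39.inv_eq_of_orderOf_eq_two h2)
    · intro h he
      push Not at h
      refine h.2 (H39.orderOf_eq_two_of_mul_self ?_ h.1)
      nth_rw 1 [← he]
      exact inv_mul_cancel g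
  have hc : σ.support.card + (Nat.card {z : H // orderOf z = 2} + 1) = Nat.card H := by
    rw [hsupp, Nat.card_eq_fintype_card, Fintype.card_subtype, Nat.card_eq_fintype_card,
      ← Finset.card_univ]
    have hn : (1 : H) ∉ Finset.univ.filter fun z : H => orderOf z = 2 := by simp
    rw [← Finset.card_insert_of_notMem hn]
    exact Finset.card_sdiff_add_card_eq_card (Finset.subset_univ _)
  rw [Nat.odd_iff]
  omega

variable [Finite G] [Finite Ω]

/-- A pair of lines through the point `g`: `u * a` and `v' * b` have the same fixed points. -/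
structure Cover (D : Set G) (u v' a b : G) (g c : Ω) : Prop where
  fixing : v' ∈ fixingSubgroup G (fixedBy Ω u)
  two : orderOf v' = 2
  comm : Commute u v'
  ne : u ≠ v'
  mem_a : a ∈ pairMembers D u v'
  mem_b : b ∈ pairMembers D u v'
  commute : Commute a b
  smul_a : a • g = g
  smul_b : b • g = g
  moved : u • c ≠ c
  fix_c : (u * a) • c = c
  fixedBy_eq : fixedBy Ω (v' * b) = fixedBy Ω (u * a)

/-- **COVER**: every point moved by `u` is fixed by a second four group meeting the fixed points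
of the first in one point; `v'` is a conjugate of `v` under the line of `u`. -/
theorem exists_cover_conj (h : Crit G Ω D) (htwo : AllRankTwo Ω D) (hS : SameFix Ω D) {u v : G}
    {x y : Ω} (hq : Quad Ω D u v x y) {c : Ω} (huc : u • c ≠ c) :
    ∃ (v' a b : G) (g : Ω) (l : G), l ∈ lineGroup D u ∧ v' = l * v * l⁻¹ ∧
      Cover D u v' a b g c := by
  haveI : Fact (Nat.Prime 2) := ⟨Nat.prime_two⟩
  have hu2 : orderOf u = 2 := hq.bu.1
  have huu := mul_self_of_orderOf_eq_two hu2
  have hF := hS u v x y hq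
  obtain ⟨d, hd, hdc⟩ := h.exists_at c
  obtain ⟨a, ⟨haD, hau⟩, hac, -⟩ := h.exists_middle hu2 hd hdc huc
  obtain ⟨g, hag, -⟩ := h.unique haD
  have hug : u • g = g := h.fix_of_commute haD hau.symm hag
  have hg2 : g ∈ fix2 Ω u v := ⟨hug, (Set.ext_iff.mp hF g).mp hug⟩
  obtain ⟨a₀, ha₀D, ha₀u, ha₀v, -⟩ :=
    (se_pair h hu2 hq.bv.1 hq.comm hq.ne hq.hx hq.hy).2 g hg2
  obtain ⟨l, hl, hla⟩ := (h.line hu2 hq.ne hq.hx.1 hq.hy.1).exists_conj
    (mem_lineGroup ha₀D ha₀u) (mem_lineGroup haD hau) (h.inv ha₀D) (h.inv haD)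
  have hlu : Commute l u := commute_of_mem_lineGroup hl
  set v' := l * v * l⁻¹ with hv'
  have huv' : Commute u v' := by
    have := commute_conj hq.comm l
    rwa [conj_eq_of_commute hlu] at this
  have hav' : Commute a v' := hla ▸ commute_conj ha₀v l
  have hv'K : v' ∈ fixingSubgroup G (fixedBy Ω u) :=
    conj_mem_fixing hlu (mem_fixing_iff.mpr fun p hp => (Set.ext_iff.mp hF p).mp hp)
  have hv'2 : orderOf v' = 2 := by rw [hv', orderOf_conj, hq.bv.1]
  have hv'fix := fixedBy_eq_of_fixing htwo hS hu2 hq.ne hq.hx.1 hq.hy.1 hv'2 hv'K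
  have huv'ne : u ≠ v' := fun e => by
    have e2 : l * u * l⁻¹ = l * v * l⁻¹ := (conj_eq_of_commute hlu).trans e
    have huv := mul_left_cancel (mul_right_cancel e2)
    have h1 := hq.bw.1
    rw [huv, mul_self_of_orderOf_eq_two hq.bv.1, orderOf_one] at h1
    omega
  set t := u * a with ht
  have ht2 : orderOf t = 2 := orderOf_mul_two hu2 (h.inv haD) hau.symm fun e =>
    hq.ne (h.eq_of_fixed haD (e ▸ hq.hx.1) (e ▸ hq.hy.1))
  have htc : t • c = c := by rw [ht, mul_smul, hac, ← mul_smul, huu, one_smul]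
  have htg : t • g = g := by rw [ht, mul_smul, hag, hug]
  have hcg : c ≠ g := fun e => huc (e ▸ hug)
  have hv't : Commute v' t := huv'.symm.mul_right hav'.symm
  set L := lineGroup D t with hL'
  have hSL : SE L (fixedBy Ω t) := h.line ht2 hcg htc htg
  set M := L ⊔ zpowers v' with hM
  have hv'n : v' ∈ normalizer (L : Set G) :=
    mem_normalizer_of_conj_mem fun b hb => conj_mem_lineGroup_of_commute h hv't hb
  have hMcases : ∀ m ∈ M, m ∈ L ∨ m * v' ∈ L := by
    intro m hm
    have hm' : m ∈ (L : Set G) * (zpowers v' : Set G) := by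
      rw [← Subgroup.coe_mul_of_right_le_normalizer_left L (zpowers v') (zpowers_le.mpr hv'n)]
      exact hm
    obtain ⟨b, hb, e, he, rfl⟩ := hm'
    rcases eq_one_or_eq_of_sq hv'2 (mem_zpowers v') he (by
      obtain ⟨i, rfl⟩ := he
      rw [← zpow_add, zpow_even_of_orderOf_two hv'2 ⟨i, rfl⟩]) with rfl | rfl
    · exact Or.inl (by simpa using hb)
    · exact Or.inr (by simpa [mul_assoc, mul_self_of_orderOf_eq_two hv'2] using hb)
  have hMt : ∀ m ∈ M, Commute m t := by
    intro m hm
    have : M ≤ centralizer ({t} : Set G) := sup_le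
      (fun g hg => mem_centralizer_singleton_iff.mpr (commute_of_mem_lineGroup hg).eq)
      (zpowers_le.mpr (mem_centralizer_singleton_iff.mpr hv't.eq))
    exact mem_centralizer_singleton_iff.mp (this hm)
  -- an involution of `M` fixing all fixed points of `t`
  have hk : ∃ k ∈ M, orderOf k = 2 ∧ k ∈ fixingSubgroup G (fixedBy Ω t) := by
    by_contra hno
    push Not at hno
    have hSM : SE M (fixedBy Ω t) :=
    { smul_mem := fun hm _ hp => smul_fixed_of_commute (hMt _ hm) hp
      trans := fun hp hp' => by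
        obtain ⟨b, hb, e⟩ := hSL.trans hp hp'
        exact ⟨b, mem_sup_left hb, e⟩
      exists_fix := fun {j} hjM hj2 => by
        obtain ⟨p, hp⟩ := (isPGroup_closure_pair (mul_self_of_orderOf_eq_two hj2)
          (mul_self_of_orderOf_eq_two ht2) (hMt j hjM)).nonempty_fixed_point_of_prime_not_dvd_card
            Ω h.odd_card.not_two_dvd_nat
        exact ⟨p, hp ⟨t, subset_closure (by simp)⟩, hp ⟨j, subset_closure (by simp)⟩⟩
      fix_unique := fun {j} hjM hj2 {p q} hp hq' hjp hjq => by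
        by_contra hpq
        have e := same_fix htwo hS hj2 ht2 (hMt j hjM) hpq hjp hjq hp hq'
        exact hno j hjM hj2 (mem_fixing_iff.mpr fun r hr => (Set.ext_iff.mp e r).mpr hr)
      exists_ne := hSL.exists_ne
      exists_inv := ⟨v', mem_sup_right (mem_zpowers v'), hv'2⟩ }
    have hat : Commute a t := hau.mul_right (Commute.refl a)
    obtain ⟨m, -, hma⟩ := hSM.exists_conj (mem_sup_left (mem_lineGroup haD hat))
      (mem_sup_right (mem_zpowers v')) (h.inv haD) hv'2
    have hv'D : v' ∈ D := hma ▸ h.conj_mem haD m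
    exact hq.ne (h.eq_of_fixed hv'D ((Set.ext_iff.mp hv'fix x).mpr hq.hx.1)
      ((Set.ext_iff.mp hv'fix y).mpr hq.hy.1))
  obtain ⟨k₀, hk₀M, hk₀2, hk₀K⟩ := hk
  set N := M ⊓ fixingSubgroup G (fixedBy Ω t) with hN
  have hNeven : 2 ∣ Nat.card N := hk₀2 ▸ Subgroup.orderOf_dvd_natCard N ⟨hk₀M, hk₀K⟩
  set X := closure ({u, v'} : Set G) with hX
  set P := X ⊔ zpowers a with hP
  have hPp : IsPGroup 2 P := by
    refine IsPGroup.to_sup_of_normal_left' (isPGroup_closure_pair huu
      (mul_self_of_orderOf_eq_two hv'2) huv') (IsPGroup.of_card (n := 1)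
        (by rw [Nat.card_zpowers, h.inv haD]; rfl)) ?_
    refine zpowers_le.mpr (mem_normalizer_of_conj_mem fun b hb => ?_)
    have : X ≤ centralizer ({a} : Set G) := (closure_le _).mpr (by
      rintro g (rfl | rfl)
      · exact mem_centralizer_singleton_iff.mpr hau.symm.eq
      · exact mem_centralizer_singleton_iff.mpr hav'.symm.eq)
    rwa [conj_eq_of_commute (mem_centralizer_singleton_iff.mp (this hb) : Commute b a).symm]
  have hPt : ∀ p ∈ P, Commute p t ∧ Commute p v' := by
    intro p hp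
    have : P ≤ centralizer ({t} : Set G) ⊓ centralizer ({v'} : Set G) := by
      refine sup_le ((closure_le _).mpr ?_) (zpowers_le.mpr ⟨?_, ?_⟩)
      · rintro g (rfl | rfl)
        · exact ⟨mem_centralizer_singleton_iff.mpr ((Commute.refl _).mul_right hau.symm).eq,
            mem_centralizer_singleton_iff.mpr huv'.eq⟩
        · exact ⟨mem_centralizer_singleton_iff.mpr hv't.eq,
            mem_centralizer_singleton_iff.mpr rfl⟩
      · exact mem_centralizer_singleton_iff.mpr (hau.mul_right (Commute.refl a)).eq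
      · exact mem_centralizer_singleton_iff.mpr hav'.eq
    exact ⟨mem_centralizer_singleton_iff.mp (this hp).1, mem_centralizer_singleton_iff.mp (this hp).2⟩
  have hPN : ∀ p ∈ P, ∀ k ∈ N, p * k * p⁻¹ ∈ N := by
    intro p hp k hk
    refine ⟨?_, conj_mem_fixing (hPt p hp).1 hk.2⟩
    rcases hMcases k hk.1 with hkL | hkL
    · exact mem_sup_left (conj_mem_lineGroup_of_commute h (hPt p hp).1 hkL)
    · rw [show p * k * p⁻¹ = (p * (k * v') * p⁻¹) * (p * v' * p⁻¹)⁻¹ by group,
        conj_eq_of_commute (hPt p hp).2]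
      exact mul_mem (mem_sup_left (conj_mem_lineGroup_of_commute h (hPt p hp).1 hkL))
        (M.inv_mem (mem_sup_right (mem_zpowers v')))
  set I := {k : G | k ∈ N ∧ orderOf k = 2}
  have hIodd : Odd (Nat.card I) := by
    have := odd_card_orderTwo hNeven
    let e : {z : N // orderOf z = 2} ≃ I :=
      { toFun := fun z => ⟨((z : N) : G), z.1.2, by rw [Subgroup.orderOf_coe]; exact z.2⟩
        invFun := fun k => ⟨⟨k, k.2.1⟩, by rw [← Subgroup.orderOf_coe]; exact k.2.2⟩
        left_inv := fun z => rfl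
        right_inv := fun k => rfl }
    rwa [Nat.card_congr e] at this
  letI : MulAction P I :=
    { smul := fun p k => ⟨(p : G) * k * (p : G)⁻¹, hPN p p.2 k k.2.1, by
        rw [orderOf_conj]; exact k.2.2⟩
      one_smul := fun k => Subtype.ext (show ((1 : P) : G) * k * ((1 : P) : G)⁻¹ = k by simp)
      mul_smul := fun a b k => Subtype.ext (show ((a * b : P) : G) * k * ((a * b : P) : G)⁻¹ =
        (a : G) * ((b : G) * k * (b : G)⁻¹) * (a : G)⁻¹ by simp [mul_assoc]) }
  obtain ⟨⟨k, hkN, hk2⟩, hkfix⟩ :=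
    hPp.nonempty_fixed_point_of_prime_not_dvd_card I hIodd.not_two_dvd_nat
  have hkc : ∀ p ∈ P, Commute p k := fun p hp =>
    mul_inv_eq_iff_eq_mul.mp (congrArg Subtype.val (hkfix ⟨p, hp⟩))
  have huP : u ∈ P := mem_sup_left (subset_closure (by simp))
  have hv'P : v' ∈ P := mem_sup_left (subset_closure (by simp))
  have hv'v' := mul_self_of_orderOf_eq_two hv'2
  have hkt := mem_fixing_iff.mp hkN.2
  have hkL : k * v' ∈ L := (hMcases k hkN.1).resolve_left fun hkL =>
    hcg (hSL.fix_unique hkL hk2 htc htg (hkt c htc) (hkt g htg))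
  have hkv'ne : k ≠ v' := fun e => huc <| by
    have := hkt c htc
    rw [e] at this
    exact (Set.ext_iff.mp hv'fix c).mp this
  have hb2 : orderOf (k * v') = 2 := orderOf_mul_two hk2 hv'2 (hkc v' hv'P).symm hkv'ne
  have hbD : k * v' ∈ D := h.mem_of_mem_lineGroup ht2 hcg htc htg hb2 hkL
  refine ⟨v', a, k * v', g, l, hl, hv', hv'K, hv'2, huv', huv'ne, ⟨haD, hau, hav'⟩,
    ⟨hbD, (hkc u huP).symm.mul_left huv'.symm, (hkc v' hv'P).symm.mul_left (Commute.refl v')⟩,
    (hkc a (mem_sup_right (mem_zpowers a))).mul_right hav', hag, ?_, huc, htc, ?_⟩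
  · rw [mul_smul, mem_fixing_iff.mp hv'K g hug, hkt g htg]
  · rw [← mul_assoc, ← (hkc v' hv'P).symm.eq, mul_assoc, hv'v', mul_one]
    exact fixedBy_eq_of_fixing htwo hS ht2 hcg htc htg hk2 hkN.2

/-- COVER without the conjugating element. -/
theorem exists_cover (h : Crit G Ω D) (htwo : AllRankTwo Ω D) (hS : SameFix Ω D) {u v : G}
    {x y : Ω} (hq : Quad Ω D u v x y) {c : Ω} (huc : u • c ≠ c) :
    ∃ (v' a b : G) (g : Ω), Cover D u v' a b g c := by
  obtain ⟨v', a, b, g, -, -, -, hc⟩ := exists_cover_conj h htwo hS hq huc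
  exact ⟨v', a, b, g, hc⟩

end Cfsg.Agent.H30.Asch
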