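import Cfsg.Agent.H30.Asch.NoneProperKill
import Cfsg.Agent.H6.Asch.LineFixed
import Cfsg.Agent.H29.Asch.SameFix
import Cfsg.Agent.H72.Asch.Torus

/-!
The rank theorem: two commuting involutions with two common fixed points are equal.  It is reduced
here to lines of the second shape (squaring injective modulo `E`).
-/

set_option autoImplicit false
set_option linter.style.haveILetI false

namespace Cfsg.Agent.H30.Asch

open Subgroup MulAction
open Cfsg.Agent.H14.Asch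
open Cfsg.Agent.H39
open scoped commutatorElement
open Cfsg.Agent.H73.Asch (RankTwoBad Line2 HasLines2 RankOnePairs)

universe u v

variable {G : Type u} [Group G] [Finite G] {Ω : Type v} [MulAction G Ω] [Finite Ω] {D : Set G}

/-- No four group without proper elements has a line of the second shape. -/
def ShapeTwoNone (G : Type u) [Group G] [Finite G] (Ω : Type v) [MulAction G Ω] [Finite Ω]
    (D : Set G) : Prop :=
  NPCtx G Ω D → ∀ (u v : G) (x y : Ω) (E Q A : Subgroup G), Quad Ω D u v x y →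
    Line2 D u x E Q → Q ≠ E → A ≤ lineGroup D u ⊓ pairStab G x y → Odd (Nat.card A) →
    A ≤ normalizer (Q : Set G) → IsCyclic A →
    (∀ a ∈ E, ∀ b ∈ E, a ≠ 1 → b ≠ 1 → ∃ k ∈ A, k * a * k⁻¹ = b) →
    (∀ g ∈ Q, ∀ k ∈ Q, g * g = k * k → g * k⁻¹ ∈ E) →
    (∀ g ∈ Q, g ∉ E → ∃ k ∈ Q, ∃ l ∈ Q, ⁅g, k⁆ ≠ 1 ∧ ⁅g, l⁆ ≠ 1 ∧ ⁅g, k⁆ ≠ ⁅g, l⁆) → False

/-- With no element of a four group proper, every line of a four group has the second shape. -/
theorem exists_shapeTwo_data (hc : NPCtx G Ω D) {u v : G} {x y : Ω} {E Q : Subgroup G}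
    (hq : Quad Ω D u v x y) (hl : Line2 D u x E Q) :
    Q ≠ E ∧ ∃ A : Subgroup G, A ≤ lineGroup D u ⊓ pairStab G x y ∧ Odd (Nat.card A) ∧
      A ≤ normalizer (Q : Set G) ∧ IsCyclic A ∧
      (∀ a ∈ E, ∀ b ∈ E, a ≠ 1 → b ≠ 1 → ∃ k ∈ A, k * a * k⁻¹ = b) ∧
      (∀ g ∈ Q, ∀ k ∈ Q, g * g = k * k → g * k⁻¹ ∈ E) ∧
      ∀ g ∈ Q, g ∉ E → ∃ k ∈ Q, ∃ l ∈ Q, ⁅g, k⁆ ≠ 1 ∧ ⁅g, l⁆ ≠ 1 ∧ ⁅g, k⁆ ≠ ⁅g, l⁆ := by
  have hN := H6.Asch.lineNormal hc
  have hF : LineFixed Ω D := H6.Asch.lineFixed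
  obtain ⟨A, hA, hAodd, hAn, hAcyc, hAtr, -, hshape⟩ :=
    hl.torus y hq.hy.1 hq.ne.symm ⊥ (IsPGroup.of_card (n := 0) (by simp)) bot_le
      (fun e _ t ht => by rw [Subgroup.mem_bot.mp ht]; exact Commute.one_right e) bot_le
  haveI := hAcyc
  have hAc : IsMulCommutative A := IsCyclic.commutative
  have mk : ∀ {a₀ : G}, a₀ ∈ A → (∀ e ∈ E, Commute a₀ e) →
      (∀ r ∈ Q, Commute a₀ r → r ∈ E) → False := fun {a₀} h1 h2 h3 =>
    (NPLine.mk ⟨hq, hl, hA, hAodd, hAn, hAc, hAtr, h1, h2⟩ h3 :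
      NPLine D u v x y E Q A a₀).false_of_line hc hN hF
  have hQE : Q ≠ E := fun e =>
    mk (one_mem A) (fun e _ => Commute.one_left e) fun r hr _ => e ▸ hr
  rcases hshape with h1 | ⟨h2, h2'⟩ | ⟨a, ha, hae, haQ⟩
  · exact absurd h1 hQE
  · exact ⟨hQE, A, hA, hAodd, hAn, hAcyc, hAtr, h2, h2'⟩
  · exact (mk ha hae fun r hr hc => haQ r hr hc).elim

/-- With no element of a four group proper, the lines have the second shape, or none exist. -/
theorem false_of_quad (hc : NPCtx G Ω D) (htwo : ShapeTwoNone G Ω D) {u v : G} {x y : Ω}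
    (hq : Quad Ω D u v x y) : False := by
  obtain ⟨E, Q, hl⟩ := hc.lines u x hq.bu hq.hx.1
  obtain ⟨hQE, A, hA, hAodd, hAn, hAcyc, hAtr, h2, h2'⟩ := exists_shapeTwo_data hc hq hl
  exact htwo hc u v x y E Q A hq hl hQE hA hAodd hAn hAcyc hAtr h2 h2'

/-- **The rank theorem**, modulo lines of the second shape. -/
theorem rankOnePairs_of_shapeTwo (h : Crit G Ω D) (htwo : ShapeTwoNone G Ω D)
    (hall : AllRankTwo Ω D) : RankOnePairs (G := G) Ω := by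
  intro u w x y hu hw hcomm hxy hux huy hwx hwy
  by_contra hne
  have hL := H72.Asch.hasLines2 h
  exact false_of_quad ⟨h, hL, hall, H29.Asch.sameFix h hL⟩ htwo
    (quad_of_pair hall hu hw hcomm hne hxy ⟨hux, hwx⟩ ⟨huy, hwy⟩)

end Cfsg.Agent.H30.Asch
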