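import Cfsg.Agent.H3.Asch.ShapeTwoTrans
import Cfsg.Agent.Cores.GlaubermanZStar

/-!
No element proper, lines of shape two, CASE I of notes/helper26_asch_shape2.md: when all involutions
of the translations commute with `u`, the centraliser of `E` consists of translations.
-/

set_option autoImplicit false
set_option linter.style.haveILetI false
set_option linter.unusedSectionVars false

namespace Cfsg.Agent.H3.Asch

open Subgroup MulAction
open Cfsg.Agent.H14.Asch
open Cfsg.Agent.H39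
open Cfsg.Agent.H73.Asch (RankTwoBad Line2 HasLines2)
open Cfsg.Agent.H30.Asch
open scoped Pointwise

universe u v

/-- A finite group with two fixed-point-free involutions whose product is fixed-point-free is
trivial; internal form for a normal subgroup. -/
theorem eq_bot_of_three_fpf {H : Type*} [Group H] [Finite H] {O : Subgroup H} [O.Normal] {a b : H}
    (ha : a * a = 1) (hb : b * b = 1) (hfa : ∀ o ∈ O, Commute a o → o = 1)
    (hfb : ∀ o ∈ O, Commute b o → o = 1) (hfab : ∀ o ∈ O, Commute (a * b) o → o = 1) : O = ⊥ := by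
  have key : ∀ w : H, w * w = 1 → (∀ o ∈ O, Commute w o → o = 1) → ∀ o ∈ O, w * o * w⁻¹ = o⁻¹ := by
    intro w hw hf
    let f : O → O := fun o => ⟨(o : H)⁻¹ * (w * o * w⁻¹),
      mul_mem (inv_mem o.2) (Subgroup.Normal.conj_mem inferInstance _ o.2 w)⟩
    have hinj : Function.Injective f := by
      intro o o' e
      have e' : (o : H)⁻¹ * (w * o * w⁻¹) = (o' : H)⁻¹ * (w * o' * w⁻¹) := congrArg Subtype.val e
      have h1 : w * ((o' : H) * (o : H)⁻¹) * w⁻¹ = (o' : H) * (o : H)⁻¹ := by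
        calc w * ((o' : H) * (o : H)⁻¹) * w⁻¹
            = (o' : H) * ((o' : H)⁻¹ * (w * o' * w⁻¹)) * (w * o * w⁻¹)⁻¹ := by group
          _ = (o' : H) * ((o : H)⁻¹ * (w * o * w⁻¹)) * (w * o * w⁻¹)⁻¹ := by rw [e']
          _ = _ := by group
      have h2 := hf _ (mul_mem o'.2 (inv_mem o.2)) (mul_inv_eq_iff_eq_mul.mp h1)
      exact Subtype.ext (mul_inv_eq_one.mp h2).symm
    intro o ho
    obtain ⟨⟨p, hp⟩, e⟩ := (Finite.injective_iff_surjective.mp hinj) ⟨o, ho⟩
    have e' : p⁻¹ * (w * p * w⁻¹) = o := congrArg Subtype.val e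
    have hwi : w⁻¹ = w := inv_eq_of_mul_eq_one_right hw
    calc w * o * w⁻¹ = (w * p * w⁻¹)⁻¹ * ((w * w) * p * (w * w)⁻¹) := by rw [← e']; group
      _ = (w * p * w⁻¹)⁻¹ * p := by rw [hw, inv_one, mul_one, one_mul]
      _ = o⁻¹ := by rw [← e']; group
  refine (Subgroup.eq_bot_iff_forall O).mpr fun o ho => hfab o ho ?_
  refine mul_inv_eq_iff_eq_mul.mp ?_
  calc a * b * o * (a * b)⁻¹ = a * (b * o * b⁻¹) * a⁻¹ := by group
    _ = (a * o * a⁻¹)⁻¹ := by rw [key b hb hfb o ho]; group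
    _ = o := by rw [key a ha hfa o ho, inv_inv]

variable {G : Type u} [Group G] [Finite G] {Ω : Type v} [MulAction G Ω] [Finite Ω] {D : Set G}

namespace ShapeTwo

variable {u v : G} {x y : Ω} {E Q A : Subgroup G} (S : ShapeTwo D u v x y E Q A) (hc : NPCtx G Ω D)
include S hc

theorem u_ne_one : u ≠ 1 := ne_one_of_orderOf_eq_two S.quad.bu.1

/-- An element of the torus centralising one non-trivial element of `E` centralises `E`. -/
theorem A_fpf {r a : G} (hr : r ∈ A) (hne : ¬ ∀ e ∈ E, Commute r e) (ha : a ∈ E)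
    (h : r * a * r⁻¹ = a) : a = 1 := by
  by_contra ha1
  refine hne fun b hb => ?_
  by_cases hb1 : b = 1
  · rw [hb1]; exact Commute.one_right r
  obtain ⟨β, hβ, rfl⟩ := S.A_trans a ha b hb ha1 hb1
  have h1 := commute_conj (mul_inv_eq_iff_eq_mul.mp h : Commute r a) β
  rwa [conj_eq_of_commute (S.A_comm hβ hr)] at h1

/-- The translations are the same seen from any involution of the kernel. -/
theorem moveGroup_eq {k : G} (hk : k ∈ lineKer Ω u) (hk1 : k ≠ 1) : moveGroup k E = moveGroup u E := by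
  by_cases hku : k = u
  · rw [hku]
  obtain ⟨α, hα, hαs⟩ := S.exists_scalar_ker hc hk hk1
  have hle : moveGroup u E ≤ moveGroup k E := fun t ht => by
    obtain ⟨htE, a, ha, hta⟩ := id ht
    exact ⟨htE, _, S.conj_A_E hc hα ha, S.conj_ker hc ht ha hta hk hk1 hα hαs⟩
  refine (Subgroup.eq_of_le_of_card_ge hle (le_of_eq ?_)).symm
  rw [(S.swap_ker hc hk hk1 hku).card_moveGroup hc, S.lineKer_eq hc hk hk1, S.card_moveGroup hc]

/-- An element centralising `E` and carrying `u` into the kernel times `E` carries it into `u E`. -/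
theorem eq_u_of_conj (hno : ∀ z ∈ moveGroup u E, z * z = 1 → Commute z u) {g k e : G}
    (hgE : ∀ a ∈ E, Commute g a) (hk : k ∈ lineKer Ω u) (he : e ∈ E)
    (hgu : g * u * g⁻¹ = k * e) : k = u := by
  have hu := S.u_mem_ker hc
  have hu1 := S.u_ne_one hc
  have hk1 : k ≠ 1 := fun e1 => S.not_mem_E_of_fix hu hu1 (by
    rw [e1, one_mul] at hgu
    have : u = e := by
      calc u = g⁻¹ * (g * u * g⁻¹) * g := by group
        _ = e := by rw [hgu, mul_assoc, ← (hgE e he).eq, inv_mul_cancel_left]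
    rw [this]; exact he)
  by_contra hku
  obtain ⟨δ, hδ, hδs⟩ := S.exists_scalar_ker hc hk hk1
  obtain ⟨a₁, ha₁, ha₁1, -⟩ := line2_exists_ne S.line (a := 1)
  have hδne : ¬ ∀ b ∈ E, Commute δ b := fun hall => hku (by
    have h1 := hδs a₁ ha₁
    rw [conj_eq_of_commute (hall a₁ ha₁)] at h1
    exact S.pair_inj hc hk hu S.uu ha₁ ha₁1 ha₁ h1 rfl)
  set s := δ * g with hs
  set σ : G → G := fun t => s * t * s⁻¹ with hσ
  -- `s` moves translations over the same element of `E`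
  have hmove : ∀ {t a : G}, t ∈ moveGroup u E → a ∈ E → t * u * t⁻¹ = u * a →
      σ t ∈ moveGroup u E ∧ σ t * u * (σ t)⁻¹ = u * a := by
    intro t a ht ha hta
    set t' := g * t * g⁻¹ with ht'
    have ht'E : ∀ b ∈ E, Commute t' b := fun b hb =>
      ((hgE b hb).mul_left (ht.1 b hb)).mul_left (hgE b hb).inv_left
    have ht'k : t' * k * t'⁻¹ = k * a := by
      have h1 : t' * (k * e) * t'⁻¹ = k * e * a := by
        rw [← hgu, show t' * (g * u * g⁻¹) * t'⁻¹ = g * (t * u * t⁻¹) * g⁻¹ by rw [ht']; group, hta,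
          show g * (u * a) * g⁻¹ = g * u * g⁻¹ * (g * a * g⁻¹) by group,
          conj_eq_of_commute (hgE a ha)]
      rw [show t' * (k * e) * t'⁻¹ = t' * k * t'⁻¹ * (t' * e * t'⁻¹) by group,
        conj_eq_of_commute (ht'E e he), mul_assoc k e a, (S.E_comm he ha).eq, ← mul_assoc] at h1
      exact mul_right_cancel h1
    have ht'T : t' ∈ moveGroup u E := S.moveGroup_eq hc hk hk1 ▸ ⟨ht'E, a, ha, ht'k⟩
    obtain ⟨-, a', ha', hta'⟩ := id ht'T
    have h2 := S.conj_ker hc ht'T ha' hta' hk hk1 hδ hδs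
    rw [ht'k] at h2
    have h3 := S.conj_mem_moveGroup hc hδ ht'T ha' hta'
    rw [← mul_left_cancel h2] at h3
    have : δ * t' * δ⁻¹ = σ t := by simp only [hσ, hs, ht']; group
    rwa [this] at h3
  set M := moveGroup u E ⊓ centralizer ({u} : Set G) with hM
  have hMmem : ∀ {m : G}, m ∈ M ↔ m ∈ moveGroup u E ∧ Commute m u := fun {m} => by
    rw [hM, mem_inf, mem_centralizer_singleton_iff]; rfl
  have hσM : ∀ m ∈ M, σ m ∈ M := fun m hm => by
    obtain ⟨hmT, hmu⟩ := hMmem.mp hm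
    obtain ⟨h1, h2⟩ := hmove hmT (one_mem E) (by rw [mul_one]; exact conj_eq_of_commute hmu)
    rw [mul_one] at h2
    exact hMmem.mpr ⟨h1, commute_of_conj_eq h2⟩
  -- `s` fixes no element of `M`
  have hfpf : ∀ m ∈ M, σ m = m → m = 1 := by
    intro m hm hfix
    obtain ⟨hmT, hmu⟩ := hMmem.mp hm
    obtain ⟨q, hq, k', hk', rfl⟩ := S.mem_cent hc hmT.1 hmu
    have hsq : q * k' * (q * k') = q * q := by
      rw [mul_assoc q k', ← mul_assoc k' q k', ← (S.ker_commute_Q hc hk' hq).eq, mul_assoc q k',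
        S.ker_mul_self hc hk', mul_one]
    have hqq : q * q = 1 := by
      refine S.A_fpf hc hδ hδne (S.line.sq_mem q hq) ?_
      have h1 : σ (q * k') * σ (q * k') = s * (q * q) * s⁻¹ := by
        rw [← hsq]; simp only [hσ]; group
      rw [hfix, hsq, hs, show δ * g * (q * q) * (δ * g)⁻¹ = δ * (g * (q * q) * g⁻¹) * δ⁻¹ by group,
        conj_eq_of_commute (hgE _ (S.line.sq_mem q hq))] at h1
      exact h1.symm
    have hqE : q ∈ E := by
      by_cases hq1 : q = 1
      · exact hq1 ▸ one_mem E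
      · exact S.line.omega q hq (orderOf_eq_two_of_mul_self hqq hq1)
    have hfix' : δ * q * δ⁻¹ * (δ * (g * k' * g⁻¹) * δ⁻¹) = q * k' := by
      calc δ * q * δ⁻¹ * (δ * (g * k' * g⁻¹) * δ⁻¹)
          = δ * ((g * q * g⁻¹) * (g * k' * g⁻¹)) * δ⁻¹ := by
            rw [conj_eq_of_commute (hgE q hqE)]; group
        _ = σ (q * k') := by simp only [hσ, hs]; group
        _ = q * k' := hfix
    by_cases hk'1 : k' = 1
    · rw [hk'1] at hfix' ⊢
      rw [mul_one]
      refine S.A_fpf hc hδ hδne hqE ?_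
      simpa using hfix'
    exfalso
    obtain ⟨γ, hγ, hγs⟩ := S.exists_scalar_ker hc hk' hk'1
    obtain ⟨k'', hk'', -, e', he', hgk, hk''s⟩ :=
      S.conj_ker_stab hc hgE hk he hgu hδ hδs hk' hk'1 hγ hγs
    rw [hgk, show δ * (k'' * e') * δ⁻¹ = δ * k'' * δ⁻¹ * (δ * e' * δ⁻¹) by group,
      conj_eq_of_commute (S.ker_commute_A hc hk'' hδ),
      ← (S.ker_commute_E hc hk'' (S.conj_A_E hc hδ he')).eq, ← mul_assoc] at hfix'
    obtain ⟨-, rfl⟩ := S.decomp_unique hc
      (mul_mem (S.line.E_le (S.conj_A_E hc hδ hqE)) (S.line.E_le (S.conj_A_E hc hδ he')))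
      hq hk'' hk' hfix'
    refine hδne fun b hb => commute_of_conj_eq ?_
    have h1 := S.pair_unique hc (k := k'') hb (S.conj_A_E hc (mul_mem hγ hδ) hb) (S.conj_A_E hc hγ hb)
      (hk''s b hb) (hγs b hb)
    calc δ * b * δ⁻¹ = γ⁻¹ * (γ * δ * b * (γ * δ)⁻¹) * γ := by group
      _ = b := by rw [h1]; group
  -- so it centralises a translation
  obtain ⟨t, ht, htu⟩ := S.exists_move hc ha₁
  let f : M → M := fun m => ⟨(m : G) * (σ m)⁻¹, mul_mem m.2 (inv_mem (hσM m m.2))⟩
  have hinj : Function.Injective f := by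
    intro m m' e1
    have e2 : (m : G) * (σ m)⁻¹ = (m' : G) * (σ m')⁻¹ := congrArg Subtype.val e1
    have h1 := hfpf _ (mul_mem (inv_mem m'.2) m.2) (by
      calc σ ((m' : G)⁻¹ * m) = (σ m')⁻¹ * σ m := by simp only [hσ]; group
        _ = (m' : G)⁻¹ * ((m' : G) * (σ m')⁻¹) * σ m := by group
        _ = (m' : G)⁻¹ * m := by rw [← e2]; group)
    exact Subtype.ext (inv_mul_eq_one.mp h1).symm
  obtain ⟨hσt, hσtu⟩ := hmove ht ha₁ htu
  have hm₁ : t⁻¹ * σ t ∈ M := by
    refine hMmem.mpr ⟨mul_mem (inv_mem ht) hσt, commute_of_conj_eq ?_⟩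
    calc t⁻¹ * σ t * u * (t⁻¹ * σ t)⁻¹ = t⁻¹ * (σ t * u * (σ t)⁻¹) * t := by group
      _ = u := by rw [hσtu, ← htu]; group
  obtain ⟨⟨m, hm⟩, hfm⟩ := (Finite.injective_iff_surjective.mp hinj) ⟨_, hm₁⟩
  have hfm' : m * (σ m)⁻¹ = t⁻¹ * σ t := congrArg Subtype.val hfm
  set w := t * m with hw
  have hwfix : σ w = w := by
    calc σ w = t * (t⁻¹ * σ t) * σ m := by simp only [hw, hσ]; group
      _ = w := by rw [← hfm', hw]; group
  obtain ⟨hmT, hmu⟩ := hMmem.mp hm
  have hwT : w ∈ moveGroup u E := mul_mem ht hmT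
  have hwu : w * u * w⁻¹ = u * a₁ := by
    calc w * u * w⁻¹ = t * (m * u * m⁻¹) * t⁻¹ := by rw [hw]; group
      _ = u * a₁ := by rw [conj_eq_of_commute hmu, htu]
  have hww : w * w = 1 := by
    refine hfpf _ (hMmem.mpr ⟨mul_mem hwT hwT, commute_of_conj_eq ?_⟩) ?_
    · calc w * w * u * (w * w)⁻¹ = w * (w * u * w⁻¹) * w⁻¹ := by group
        _ = (w * u * w⁻¹) * (w * a₁ * w⁻¹) := by
          conv_lhs => rw [hwu]
          group
        _ = u := by
          rw [hwu, conj_eq_of_commute (hwT.1 a₁ ha₁), mul_assoc, S.E_sq hc ha₁, mul_one]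
    · calc σ (w * w) = σ w * σ w := by simp only [hσ]; group
        _ = w * w := by rw [hwfix]
  refine ha₁1 ?_
  have h1 := conj_eq_of_commute (hno w hwT hww)
  rw [hwu] at h1
  exact mul_eq_left.mp h1

/-- A translation is only moved to translations by translations. -/
theorem mem_move_of_conj (hno : ∀ z ∈ moveGroup u E, z * z = 1 → Commute z u) {g : G}
    (hgE : ∀ a ∈ E, Commute g a) (hg : g * u * g⁻¹ ∈ moveGroup u E) : g ∈ moveGroup u E := by
  have hz : g * u * g⁻¹ * (g * u * g⁻¹) = 1 := by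
    rw [show g * u * g⁻¹ * (g * u * g⁻¹) = g * (u * u) * g⁻¹ by group, S.uu]; group
  obtain ⟨e, he, k, hk, -, hgu⟩ := S.mem_cent_invol hc hg.1 (hno _ hg hz) hz
  rw [(S.ker_commute_E hc hk he).eq] at hgu
  obtain rfl := S.eq_u_of_conj hc hno hgE hk he hgu
  exact ⟨hgE, e, he, hgu⟩

/-- The same for every involution of the kernel. -/
theorem mem_move_of_conj_ker (hno : ∀ z ∈ moveGroup u E, z * z = 1 → Commute z u) {g k : G}
    (hk : k ∈ lineKer Ω u) (hk1 : k ≠ 1) (hgE : ∀ a ∈ E, Commute g a)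
    (hg : g * k * g⁻¹ ∈ moveGroup u E) : g ∈ moveGroup u E := by
  by_cases hku : k = u
  · exact S.mem_move_of_conj hc hno hgE (hku ▸ hg)
  have hT := S.moveGroup_eq hc hk hk1
  rw [← hT] at hg ⊢
  refine (S.swap_ker hc hk hk1 hku).mem_move_of_conj hc (fun z hz hzz => ?_) hgE hg
  rw [hT] at hz
  obtain ⟨e, he, k', hk', -, rfl⟩ := S.mem_cent_invol hc hz.1 (hno z hz hzz) hzz
  exact (S.ker_commute_E hc hk he).mul_left (S.ker_comm hc hk' hk)

/-- **CASE I**: if all involutions among the translations commute with `u`, the centraliser of `E`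
consists of translations. -/
theorem centralizer_le_move
    (hmax : ∀ P : Subgroup G, IsPGroup 2 P → moveGroup u E ≤ P → P ≤ centralizer (E : Set G) →
      P = moveGroup u E)
    (hno : ∀ z ∈ moveGroup u E, z * z = 1 → Commute z u) :
    centralizer (E : Set G) ≤ moveGroup u E := by
  haveI : Fact (Nat.Prime 2) := ⟨Nat.prime_two⟩
  set X := centralizer (E : Set G) with hX
  set T := moveGroup u E with hT
  have hXmem : ∀ {g : G}, g ∈ X → ∀ e ∈ E, Commute g e := fun hg e he =>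
    (mem_centralizer_iff.mp hg e he).symm
  have hTX : T ≤ X := fun t ht => mem_centralizer_iff.mpr fun e he => (ht.1 e he).symm.eq
  set N := E.subgroupOf X with hN
  haveI : N.Normal := ⟨fun n hn g => by
    rw [hN, Subgroup.mem_subgroupOf] at hn ⊢
    simp only [Subgroup.coe_mul, Subgroup.coe_inv]
    rwa [conj_eq_of_commute (hXmem g.2 _ hn)]⟩
  set π := QuotientGroup.mk' N with hπ
  have hsurj : Function.Surjective π := QuotientGroup.mk'_surjective N
  let P₀ : Sylow 2 X := ⟨T.subgroupOf X,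
    (S.isPGroup_moveGroup hc).of_equiv (Subgroup.subgroupOfEquivOfLe hTX).symm,
    fun {P} hP hle => le_antisymm (fun p hp => by
      refine Subgroup.mem_subgroupOf.mpr ((hmax (P.map X.subtype) (hP.map _)
        (fun t ht => ⟨⟨t, hTX ht⟩, hle (Subgroup.mem_subgroupOf.mpr ht), rfl⟩) (map_subtype_le P)).le ?_)
      exact ⟨p, hp, rfl⟩) hle⟩
  set Pq : Sylow 2 (X ⧸ N) := P₀.mapSurjective hsurj with hPq
  -- membership in the image of `T`
  have hmemP : ∀ {g : X}, π g ∈ (Pq : Subgroup (X ⧸ N)) → (g : G) ∈ T := by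
    rintro g ⟨p, hp, hpg⟩
    have h1 : (p : G)⁻¹ * g ∈ E := by
      have := (QuotientGroup.eq.mp hpg)
      rw [hN, Subgroup.mem_subgroupOf] at this
      simpa using this
    have := T.mul_mem (Subgroup.mem_subgroupOf.mp hp) (S.E_le_move hc h1)
    rwa [mul_inv_cancel_left] at this
  have hmemP' : ∀ {g : X}, (g : G) ∈ T → π g ∈ (Pq : Subgroup (X ⧸ N)) := fun {g} hg =>
    ⟨g, Subgroup.mem_subgroupOf.mpr hg, rfl⟩
  have hkX : ∀ {k : G}, k ∈ lineKer Ω u → k ∈ X := fun hk => hTX (S.ker_le_move hc hk)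
  set O := Cfsg.oddCore (X ⧸ N) with hO
  haveI : O.Characteristic := Cores.pPrimeCore_characteristic
  -- an involution of the kernel fixes no element of the odd core
  have hfpf : ∀ {k : G} (hk : k ∈ lineKer Ω u), k ≠ 1 → ∀ o ∈ O,
      Commute (π ⟨k, hkX hk⟩) o → o = 1 := by
    intro k hk hk1 o ho hco
    obtain ⟨g, rfl⟩ := hsurj o
    have hgT : (g : G) ∈ T := by
      refine S.mem_move_of_conj_ker hc hno hk hk1 (hXmem g.2) ?_
      have h1 : π (g * ⟨k, hkX hk⟩ * g⁻¹) = π ⟨k, hkX hk⟩ := by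
        rw [map_mul, map_mul, map_inv, ← hco.eq, mul_inv_cancel_right]
      exact hmemP (g := g * ⟨k, hkX hk⟩ * g⁻¹) (h1 ▸ hmemP' (S.ker_le_move hc hk))
    obtain ⟨n, hn⟩ := IsPGroup.iff_orderOf.mp Pq.isPGroup' ⟨π g, hmemP' hgT⟩
    rw [Subgroup.orderOf_mk] at hn
    have hodd : Odd (orderOf (π g)) :=
      Cores.odd_card_oddCore.of_dvd_nat (Subgroup.orderOf_dvd_natCard O ho)
    rw [hn] at hodd
    rcases n with _ | n
    · exact orderOf_eq_one_iff.mp (by rw [hn, pow_zero])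
    · exact absurd hodd (by rw [Nat.not_odd_iff_even, Nat.even_pow]; exact ⟨even_two, by omega⟩)
  have hu := S.u_mem_ker hc
  have hv := S.v_mem_ker hc
  have hsq : ∀ {k : G} (hk : k ∈ lineKer Ω u), π ⟨k, hkX hk⟩ * π ⟨k, hkX hk⟩ = 1 := fun {k} hk => by
    rw [← map_mul, show (⟨k, hkX hk⟩ : X) * ⟨k, hkX hk⟩ = 1 from
      Subtype.ext (S.ker_mul_self hc hk), map_one]
  have hbot : O = ⊥ := eq_bot_of_three_fpf (hsq hu) (hsq hv)
    (hfpf hu (S.u_ne_one hc)) (hfpf hv (ne_one_of_orderOf_eq_two S.quad.bv.1))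
    (fun o ho h1 => hfpf (mul_mem hu hv) (ne_one_of_orderOf_eq_two S.quad.bw.1) o ho
      (by rwa [← map_mul] at h1))
  set ub := π ⟨u, hkX hu⟩ with hub
  have hub2 : orderOf ub = 2 := orderOf_eq_two_of_mul_self (hsq hu) fun e =>
    S.not_mem_E_of_fix hu (S.u_ne_one hc) (by
      have := (QuotientGroup.eq_one_iff _).mp e
      rwa [hN, Subgroup.mem_subgroupOf] at this)
  intro g hg
  refine S.mem_move_of_conj hc hno (hXmem hg) ?_
  have hz := Cores.glaubermanZStar Pq hub2 (hmemP' (S.ker_le_move hc hu)) (fun b hb => ?_) (π ⟨g, hg⟩)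
  · rw [← hO, hbot, Subgroup.mem_bot, mul_inv_eq_one, mul_inv_eq_iff_eq_mul] at hz
    have h1 : π (⟨g, hg⟩ * ⟨u, hkX hu⟩ * ⟨g, hg⟩⁻¹) = ub := by
      rw [map_mul, map_mul, map_inv, ← hub, ← hz, mul_inv_cancel_right]
    exact hmemP (g := ⟨g, hg⟩ * ⟨u, hkX hu⟩ * ⟨g, hg⟩⁻¹) (h1 ▸ hmemP' (S.ker_le_move hc hu))
  · obtain ⟨b, rfl⟩ := hsurj b
    rw [hub, ← map_inv, ← map_mul, ← map_mul] at hb ⊢
    obtain ⟨-, a, ha, hba⟩ := S.mem_move_of_conj hc hno (hXmem b.2) (hmemP hb)
    refine QuotientGroup.eq.mpr ?_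
    rw [hN, Subgroup.mem_subgroupOf]
    simp only [Subgroup.coe_mul, Subgroup.coe_inv]
    rw [hba, mul_inv_rev, S.E_inv hc ha, mul_assoc, inv_mul_cancel, mul_one]
    exact ha

end ShapeTwo

end Cfsg.Agent.H3.Asch
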