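import Cfsg.Agent.H30.Asch.NoneProperOrbit

/-!
No element proper: two translation involutions moving `u` to the same `u * a` differ on the fixed
points of the auxiliary element only by an element of `E`.
-/

set_option autoImplicit false
set_option linter.style.haveILetI false

namespace Cfsg.Agent.H30.Asch

open Subgroup MulAction
open Cfsg.Agent.H14.Asch
open Cfsg.Agent.H39
open Cfsg.Agent.H73.Bender (SE points)
open Cfsg.Agent.H73.Asch (RankTwoBad Line2 HasLines2)
open scoped Pointwise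

universe u v

variable {G : Type u} [Group G] [Finite G] {Ω : Type v} [MulAction G Ω] [Finite Ω] {D : Set G}

namespace NPLine

variable {u v : G} {x y : Ω} {E Q A : Subgroup G} {a₀ : G} (S : NPLine D u v x y E Q A a₀)
  (hc : NPCtx G Ω D)
include S hc

/-- The torus normalises the translations. -/
theorem conj_trans {r g : G} (hr : r ∈ A) (hg : g ∈ transGroup u v E a₀) :
    r * g * r⁻¹ ∈ transGroup u v E a₀ := by
  obtain ⟨hgE, hga0, ⟨b, hb, hgu⟩, b', hb', hgv⟩ := hg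
  have hrx := (S.A_smul hr).1
  have hru := S.A_commute hr
  have hrv := S.A_commute_fixing hc hr (S.v_fixing hc)
  refine ⟨fun e he => ?_, ((S.A_commute_a₀ hr).mul_left hga0).mul_left (S.A_commute_a₀ hr).inv_left,
    ⟨r * b * r⁻¹, S.conj_mem_E hc hrx hb, ?_⟩, r * b' * r⁻¹, S.conj_mem_E hc hrx hb', ?_⟩
  · have := commute_conj (hgE _ (S.conj_mem_E hc (inv_smul_eq_iff.mpr hrx.symm) he)) r
    rwa [show r * (r⁻¹ * e * r⁻¹⁻¹) * r⁻¹ = e by group] at this
  · calc r * g * r⁻¹ * u * (r * g * r⁻¹)⁻¹ = r * (g * (r⁻¹ * u * r⁻¹⁻¹) * g⁻¹) * r⁻¹ := by group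
      _ = (r * u * r⁻¹) * (r * b * r⁻¹) := by
        rw [conj_eq_of_commute hru.inv_left, hgu]; group
      _ = u * (r * b * r⁻¹) := by rw [conj_eq_of_commute hru]
  · calc r * g * r⁻¹ * v * (r * g * r⁻¹)⁻¹ = r * (g * (r⁻¹ * v * r⁻¹⁻¹) * g⁻¹) * r⁻¹ := by group
      _ = (r * v * r⁻¹) * (r * b' * r⁻¹) := by
        rw [conj_eq_of_commute hrv.inv_left, hgv]; group
      _ = v * (r * b' * r⁻¹) := by rw [conj_eq_of_commute hrv]

/-- The members at a fixed point of `u` and `a₀` commute with `a₀`. -/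
theorem commute_a₀_of_fixed (hN : LineNormal Ω D) {p : Ω} (hup : u • p = p) (hap : a₀ • p = p)
    {d : G} (hd : d ∈ swappers D p p) : Commute d a₀ := by
  obtain ⟨l, -, hla, hlx⟩ := S.exists_carrier hc hN hup hap
  have he : l⁻¹ * d * l⁻¹⁻¹ ∈ E := (S.mem_E hc).mpr (Or.inr ⟨hc.crit.conj_mem hd.1 _, by
    have := H73.Bender.conj_smul_of_smul (g := l⁻¹) hd.2
    rwa [inv_smul_eq_iff.mpr hlx.symm] at this⟩)
  have := commute_conj (S.central _ he).symm l
  rwa [conj_eq_of_commute hla, show l * (l⁻¹ * d * l⁻¹⁻¹) * l⁻¹ = d by group] at this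

/-- An element of the kernel fixing `y` centralises the members at the fixed points of `u` and
`a₀`. -/
theorem commute_of_kernel (hN : LineNormal Ω D) {g : G} (hgE : ∀ e ∈ E, Commute g e)
    (hgu : Commute g u) (hgy : g • y = y) {p : Ω} (hup : u • p = p) (hap : a₀ • p = p) {d : G}
    (hd : d ∈ swappers D p p) : Commute g d := by
  have h := hc.crit
  have hfix : ∀ {r : Ω}, u • r = r → a₀ • r = r → g • r = r := by
    intro r hur har
    by_cases hrx : r = x
    · obtain ⟨e, he, he1, -⟩ := line2_exists_ne S.line (a := 1)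
      rw [hrx]
      exact h.fix_of_commute (line2_member S.line he he1).1 (hgE e he) (S.E_smul he)
    · obtain ⟨f, hf, rfl⟩ := S.exists_smul_eq_of_fixed hc hur hrx har
      rw [← mul_smul, (hgE f hf).eq, mul_smul, hgy]
  by_cases hpx : p = x
  · exact hgE d ((S.mem_E hc).mpr (Or.inr ⟨hd.1, hpx ▸ hd.2⟩))
  have hgp := hfix hup hap
  have hdu : Commute d u := commute_of_mem_swappers h hc.lines hc.two hc.same S.quad hup hd
  have hd' : g * d * g⁻¹ ∈ swappers D p p := by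
    refine ⟨h.conj_mem hd.1 g, ?_⟩
    have := H73.Bender.conj_smul_of_smul (g := g) hd.2
    rwa [hgp] at this
  have hcomm : Commute d (g * d * g⁻¹) :=
    commute_members h hc.lines hc.two hc.same S.quad hd hd'
  have hux : u • d • x = d • x := smul_fixed_of_commute hdu S.quad.hx.1
  have hax : a₀ • d • x = d • x :=
    smul_fixed_of_commute (S.commute_a₀_of_fixed hc hN hup hap hd) (S.A_smul S.mem).1
  have hgx := hfix S.quad.hx.1 (S.A_smul S.mem).1
  have h1 : (g * d * g⁻¹) • x = d • x := by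
    rw [mul_smul, mul_smul, inv_smul_eq_iff.mpr hgx.symm, hfix hux hax]
  refine commute_of_conj_eq ?_
  by_contra hne
  have h2 : (g * d * g⁻¹ * d) • (d • x) = d • x := by
    rw [mul_smul, ← mul_smul d, mul_self_of_orderOf_eq_two (h.inv hd.1), one_smul, h1]
  have h3 := (h.eq_of_commute_mul hd.1 hd'.1 (Ne.symm hne) hcomm hd.2).mp h2
  exact hpx (MulAction.injective d (h3.trans hd.2.symm)).symm

/-- Two translation involutions with the same image of `u` agree up to `E` on the fixed points of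
`a₀`. -/
theorem exists_agree (hN : LineNormal Ω D) (_hF : LineFixed Ω D) {t₁ z a₁ : G}
    (ht₁T : t₁ ∈ transGroup u v E a₀) (ht₁ : orderOf t₁ = 2) (ha₁ : a₁ ∈ E) (ha₁1 : a₁ ≠ 1)
    (ht₁u : t₁ * u * t₁⁻¹ = u * a₁) (hzT : z ∈ transGroup u v E a₀)
    (hz : orderOf z = 2 ∧ z * u * z⁻¹ = u * a₁) :
    ∃ f ∈ E, ∀ d ∈ auxPts Ω x a₀, z • d = (t₁ * f) • d := by
  have h := hc.crit
  have htt := mul_self_of_orderOf_eq_two ht₁
  have hzz := mul_self_of_orderOf_eq_two hz.1
  set g := t₁ * z with hg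
  have hgT : g ∈ transGroup u v E a₀ := mul_mem ht₁T hzT
  have hgu : Commute g u := by
    refine commute_of_conj_eq ?_
    calc g * u * g⁻¹ = t₁ * (z * u * z⁻¹) * t₁⁻¹ := by rw [hg]; group
      _ = (t₁ * u * t₁⁻¹) * (t₁ * a₁ * t₁⁻¹) := by rw [hz.2]; group
      _ = u := by
        rw [ht₁u, conj_eq_of_commute (ht₁T.1 a₁ ha₁), mul_assoc, line2_mul_self S.line h ha₁,
          mul_one]
  have hgY := S.trans_mapsTo hc hgT (⟨S.quad.ne.symm, (S.A_smul S.mem).2⟩ : y ∈ auxPts Ω x a₀)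
  obtain ⟨f, hf, hfy⟩ := S.exists_smul_eq_of_fixed hc
    (smul_fixed_of_commute hgu S.quad.hy.1) hgY.1 hgY.2
  have hff := line2_mul_self S.line h hf
  set g' := f * g with hg'
  have hg'T : g' ∈ transGroup u v E a₀ := mul_mem (S.E_le_trans hc hf) hgT
  have hfu : Commute f u :=
    (S.fixing_commute_E hc (mem_fixing_iff.mpr fun p hp => hp) hf).symm
  have hg'u : Commute g' u := hfu.mul_left hgu
  have hg'y : g' • y = y := by rw [hg', mul_smul, ← hfy, ← mul_smul, hff, one_smul]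
  have hzeq : z = t₁ * f * g' := by
    rw [hg', hg, show t₁ * f * (f * (t₁ * z)) = t₁ * (f * f) * t₁ * z by group, hff, mul_one, htt,
      one_mul]
  have hft : Commute f t₁ := (ht₁T.1 f hf).symm
  -- `g'` fixes the line of `u * a₁`
  have hinv : g' * t₁ * g' = t₁ := by
    have hfg : Commute f g' := (hg'T.1 f hf).symm
    have h1 : (t₁ * f * g') * (t₁ * f * g') = 1 := by rw [← hzeq]; exact hzz
    rw [show (t₁ * f * g') * (t₁ * f * g') = t₁ * (f * g') * (t₁ * f) * g' by group, hfg.eq,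
      ← hft.eq, show t₁ * (g' * f) * (f * t₁) * g' = t₁ * (g' * (f * f) * t₁ * g') by group, hff,
      mul_one] at h1
    have := eq_inv_of_mul_eq_one_right h1
    rwa [inv_eq_of_orderOf_eq_two ht₁] at this
  have hline : g' • t₁ • y = t₁ • y :=
    calc g' • t₁ • y = g' • t₁ • g' • y := by rw [hg'y]
      _ = (g' * t₁ * g') • y := by rw [mul_smul (g' * t₁) g' y, mul_smul g' t₁ (g' • y)]
      _ = t₁ • y := by rw [hinv]
  refine ⟨f, hf, fun d hd => ?_⟩
  rw [hzeq, mul_smul]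
  congr 1
  by_cases hud : u • d = d
  · obtain ⟨r, hr, rfl⟩ := S.exists_smul_eq_of_fixed hc hud hd.1 hd.2
    rw [← mul_smul, (hg'T.1 r hr).eq, mul_smul, hg'y]
  obtain ⟨b, p, hb, hbp, hup, hap, hbd⟩ := S.exists_middle_fixed hc hd hud
  have hswap : b ∈ swappers D p p := ⟨hb.1, hbp⟩
  obtain ⟨dy, hdy, hdyy⟩ := h.exists_at y
  have hdys : dy ∈ swappers D y y := ⟨hdy, hdyy⟩
  set L := lineGroup D u ⊓ centralizer ({a₀} : Set G) ⊓ centralizer ({g'} : Set G) with hLdef
  have hmemL : ∀ {p : Ω} {r : G}, u • p = p → a₀ • p = p → r ∈ swappers D p p → r ∈ L :=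
    fun hup hap hr => ⟨⟨mem_lineGroup hr.1
        (commute_of_mem_swappers h hc.lines hc.two hc.same S.quad hup hr),
      mem_centralizer_singleton_iff.mpr (S.commute_a₀_of_fixed hc hN hup hap hr).eq⟩,
      mem_centralizer_singleton_iff.mpr
        (S.commute_of_kernel hc hN hg'T.1 hg'u hg'y hup hap hr).symm.eq⟩
  have hSL : SE (lineGroup D u) (fixedBy Ω u) :=
    h.line S.quad.bu.1 S.quad.ne S.quad.hx.1 S.quad.hy.1
  have hLle : L ≤ lineGroup D u := inf_le_left.trans inf_le_left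
  have ha₁m := line2_member S.line ha₁ ha₁1
  have ha₁L : a₁ ∈ L := hmemL S.quad.hx.1 (S.A_smul S.mem).1 ⟨ha₁m.1, ha₁m.2.2⟩
  obtain ⟨l, hl, hlb⟩ := (hSL.line hLle
    ⟨S.quad.hx.1, a₁, ha₁L, h.inv ha₁m.1, ha₁m.2.2⟩
    ⟨S.quad.hy.1, dy, hmemL S.quad.hy.1 (S.A_smul S.mem).2 hdys, h.inv hdy, hdyy⟩ S.quad.ne).exists_conj
    ha₁L (hmemL hup hap hswap) (h.inv ha₁m.1) (h.inv hb.1)
  have hlu : Commute l u := commute_of_mem_lineGroup hl.1.1
  have hla : Commute l a₀ := mem_centralizer_singleton_iff.mp hl.1.2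
  have hlg : Commute l g' := mem_centralizer_singleton_iff.mp hl.2
  have hd' : (u * a₁) • l⁻¹ • d = l⁻¹ • d := by
    have h1 := H73.Bender.conj_smul_of_smul (g := l⁻¹) hbd
    rwa [← hlb, show l⁻¹ * (u * (l * a₁ * l⁻¹)) * l⁻¹⁻¹ = (l⁻¹ * u * l⁻¹⁻¹) * a₁ by group,
      conj_eq_of_commute hlu.inv_left] at h1
  have hdx : l⁻¹ • d ≠ x := fun e => hud (by
    have h1 : u • l⁻¹ • d = l⁻¹ • d := by rw [e]; exact S.quad.hx.1
    have := smul_fixed_of_commute hlu h1
    rwa [smul_inv_smul] at this)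
  obtain ⟨r, hr, hrd⟩ := S.eq_translate hc ha₁ ht₁T ht₁u
    ⟨hdx, smul_fixed_of_commute hla.inv_left hd.2⟩ hd'
  have hfixd : g' • l⁻¹ • d = l⁻¹ • d := by
    have e1 : t₁ • r • y = r • t₁ • y := by
      rw [← mul_smul t₁ r y, (ht₁T.1 r hr).eq, mul_smul r t₁ y]
    rw [← hrd, e1, ← mul_smul g' r (t₁ • y), (hg'T.1 r hr).eq, mul_smul r g' (t₁ • y), hline]
  have := congrArg (l • ·) hfixd
  rw [← mul_smul, hlg.eq, mul_smul, smul_inv_smul] at this
  exact this

end NPLine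

end Cfsg.Agent.H30.Asch
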