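import Cfsg.Agent.H30.Asch.NoneProperCore

/-!
No element proper: the members at the fixed points of `u` centralise the fixing group of these
points, all members at such a point commute with `u`, members at one point commute, and `E` is
`1` with all members at the point.
-/

set_option autoImplicit false
set_option linter.style.haveILetI false

namespace Cfsg.Agent.H30.Asch

open Subgroup MulAction
open Cfsg.Agent.H14.Asch
open Cfsg.Agent.H39
open Cfsg.Agent.H73.Bender (SE)
open Cfsg.Agent.H73.Asch (RankTwoBad Line2 HasLines2)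
open scoped Pointwise

universe u v

variable {G : Type u} [Group G] [Finite G] {Ω : Type v} [MulAction G Ω] [Finite Ω] {D : Set G}
  (h : Crit G Ω D) (hL : HasLines2 Ω D) (htwo : AllRankTwo Ω D) (hS : SameFix Ω D)
  {u v : G} {x y : Ω} (hq : Quad Ω D u v x y)
include h hL htwo hS hq

/-- An odd normal subgroup of the fixing group is trivial. -/
theorem eq_bot_of_normal_fixing {N : Subgroup G} (hNK : N ≤ fixingSubgroup G (fixedBy Ω u))
    (hodd : Odd (Nat.card N))
    (hn : ∀ k ∈ fixingSubgroup G (fixedBy Ω u), ∀ r ∈ N, k * r * k⁻¹ ∈ N) : N = ⊥ := by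
  set K := fixingSubgroup G (fixedBy Ω u)
  haveI : (Cfsg.oddCore K).Characteristic := Cores.pPrimeCore_characteristic
  set J := (Cfsg.oddCore K).map K.subtype with hJ
  have hJK : J ≤ K := map_subtype_le _
  have hJodd : Odd (Nat.card J) := by
    rw [hJ, Subgroup.card_map_of_injective (Subgroup.subtype_injective _)]
    exact Cores.odd_card_oddCore
  have hle : ∀ N : Subgroup G, N ≤ K → Odd (Nat.card N) →
      (∀ k ∈ K, ∀ r ∈ N, k * r * k⁻¹ ∈ N) → N ≤ J := by
    intro N hNK hodd hn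
    haveI : (N.subgroupOf K).Normal := ⟨fun r hr k => by
      rw [Subgroup.mem_subgroupOf] at hr ⊢; exact hn k k.2 r hr⟩
    have h1 : N.subgroupOf K ≤ Cfsg.oddCore K := Cores.le_oddCore (by
      rw [Nat.card_congr (Subgroup.subgroupOfEquivOfLe hNK).toEquiv]; exact hodd)
    exact fun r hr => ⟨⟨r, hNK hr⟩, h1 (Subgroup.mem_subgroupOf.mpr hr), rfl⟩
  have hJn : ∀ k ∈ K, ∀ r ∈ J, k * r * k⁻¹ ∈ J := by
    rintro k hk _ ⟨r, hr, rfl⟩
    exact ⟨⟨k, hk⟩ * r * ⟨k, hk⟩⁻¹, Subgroup.Normal.conj_mem inferInstance r hr _, rfl⟩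
  have hJbot : J = ⊥ := by
    refine eq_bot_of_odd h hL htwo hS hq hJK hJodd fun g hg => ?_
    have hgu : Commute g u := mem_centralizer_singleton_iff.mp hg
    refine mem_normalizer_of_conj_mem fun r hr => ?_
    refine hle (J.map (MulAut.conj g).toMonoidHom) ?_ ?_ ?_ ⟨r, hr, rfl⟩
    · rintro _ ⟨r, hr, rfl⟩
      exact conj_mem_fixing hgu (hJK hr)
    · rw [Subgroup.card_map_of_injective (MulAut.conj g).injective]; exact hJodd
    · rintro k hk _ ⟨r, hr, rfl⟩
      refine ⟨(g⁻¹ * k * g⁻¹⁻¹) * r * (g⁻¹ * k * g⁻¹⁻¹)⁻¹,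
        hJn _ (conj_mem_fixing hgu.inv_left hk) r hr, ?_⟩
      simp [mul_assoc]
  exact (Subgroup.eq_bot_iff_forall N).mpr fun r hr =>
    Subgroup.mem_bot.mp (hJbot ▸ hle N hNK hodd hn hr)

/-- A swapper of two fixed points commuting with `u` centralises the fixing group. -/
theorem commute_fixing_of_swapper {p q : Ω} (hpq : p ≠ q) (hp : u • p = p) (hq' : u • q = q) {w : G}
    (hw : w ∈ commSwap D u p q) {k : G} (hk : k ∈ fixingSubgroup G (fixedBy Ω u)) :
    Commute w k := by
  set K := fixingSubgroup G (fixedBy Ω u)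
  have hKp : K ≤ pairStab G p q := fun g hg =>
    mem_pairStab.mpr ⟨mem_fixing_iff.mp hg p hp, mem_fixing_iff.mp hg q hq'⟩
  have hbot : pairCore G p q ⊓ K = ⊥ := by
    refine eq_bot_of_normal_fixing h hL htwo hS hq inf_le_right
      ((odd_card_pairCore p q).of_dvd_nat (card_dvd_of_le inf_le_left)) ?_
    rintro g hg r ⟨hrO, hrK⟩
    refine ⟨?_, K.mul_mem (K.mul_mem hg hrK) (K.inv_mem hg)⟩
    obtain ⟨m, hm, rfl⟩ := hrO
    haveI : (Cfsg.oddCore (pairStab G p q)).Characteristic := Cores.pPrimeCore_characteristic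
    exact ⟨⟨g, hKp hg⟩ * m * ⟨g, hKp hg⟩⁻¹, Subgroup.Normal.conj_mem inferInstance m hm _, rfl⟩
  have hmem : w * k * w⁻¹ * k⁻¹ ∈ pairCore G p q ⊓ K :=
    ⟨h.commutator_mem_pairCore hpq ⟨hw.1, hw.2.2⟩ (pairStab_le_edgeStab p q (hKp hk)),
      K.mul_mem (conj_mem_fixing hw.2.1 hk) (K.inv_mem hk)⟩
  rw [hbot, Subgroup.mem_bot, mul_inv_eq_one] at hmem
  exact mul_inv_eq_iff_eq_mul.mp hmem

/-- The line of `u` centralises the fixing group. -/
theorem commute_fixing_of_lineGroup {l : G} (hl : l ∈ lineGroup D u) {k : G}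
    (hk : k ∈ fixingSubgroup G (fixedBy Ω u)) : Commute l k := by
  have hu := hq.bu.1
  induction hl using Subgroup.closure_induction generalizing k with
  | mem a ha =>
    have hau : Commute a u := mem_centralizer_singleton_iff.mp ha.2
    obtain ⟨w, hw⟩ : (commSwap D u x y).Nonempty := by
      have h1 := h.card_commSwap hu hq.ne hq.hx.1 hq.hy.1 hq.hx.1 hq.hy.1 hq.hx.1
      obtain ⟨d, hd, hdx, hdu⟩ := h.comm hu hq.hx.1
      have : Nonempty (commSwap D u x x) := ⟨⟨d, hd, hdu.symm, hdx⟩⟩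
      obtain ⟨⟨w, hw⟩⟩ := (Nat.card_pos_iff.mp
        (show 0 < Nat.card (commSwap D u x y) by rw [h1]; exact Nat.card_pos)).1
      exact ⟨w, hw⟩
    obtain ⟨l, hl, hla⟩ := (h.line hu hq.ne hq.hx.1 hq.hy.1).exists_conj
      (mem_lineGroup hw.1 hw.2.1) (mem_lineGroup ha.1 hau) (h.inv hw.1) (h.inv ha.1)
    have hlu : Commute l⁻¹ u := (commute_of_mem_lineGroup hl).inv_left
    have := commute_conj (commute_fixing_of_swapper h hL htwo hS hq hq.ne hq.hx.1 hq.hy.1 hw
      (conj_mem_fixing hlu hk)) l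
    rwa [hla, show l * (l⁻¹ * k * l⁻¹⁻¹) * l⁻¹ = k by group] at this
  | one => exact Commute.one_left _
  | mul a b _ _ iha ihb => exact (iha hk).mul_left (ihb hk)
  | inv a _ iha => exact (iha hk).inv_left

/-- A member commuting with `u` commutes with every element of the fixing group. -/
theorem commute_fixing_of_member {a : G} (ha : a ∈ commMembers D u) {k : G}
    (hk : k ∈ fixingSubgroup G (fixedBy Ω u)) : Commute a k :=
  commute_fixing_of_lineGroup h hL htwo hS hq (mem_lineGroup ha.1 ha.2) hk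

/-- All members at a fixed point of `u` commute with `u`. -/
theorem commute_of_mem_swappers {z : Ω} (hz : u • z = z) {a : G} (ha : a ∈ swappers D z z) :
    Commute a u := by
  have hFv : fixedBy Ω u = fixedBy Ω v := hS u v x y hq
  have hvz : v • z = z := (Set.ext_iff.mp hFv z).mp hz
  obtain ⟨p, hp, hpz⟩ : ∃ p ∈ fix2 Ω u v, p ≠ z := by
    rcases eq_or_ne x z with e | e
    · exact ⟨y, hq.hy, fun e' => hq.ne (e.trans e'.symm)⟩
    · exact ⟨x, hq.hx, e⟩
  have hq' : Quad Ω D u v z p :=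
    ⟨hq.bu, hq.bv, hq.bw, hq.comm, hpz.symm, ⟨hz, hvz⟩, hp⟩
  have huK : u ∈ fixingSubgroup G (fixedBy Ω u) := mem_fixing_iff.mpr fun p hp => hp
  have hvK : v ∈ fixingSubgroup G (fixedBy Ω u) :=
    mem_fixing_iff.mpr fun p hp => (Set.ext_iff.mp hFv p).mp hp
  have hFw : fixedBy Ω (u * v) = fixedBy Ω u :=
    (hS _ _ _ _ hq.rot).trans hFv.symm
  have hwK : u * v ∈ fixingSubgroup G (fixedBy Ω u) := mul_mem huK hvK
  have e1 : ∀ {s : G}, RankTwoBad Ω D s → fixedBy Ω s = fixedBy Ω u →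
      s ∈ fixingSubgroup G (fixedBy Ω u) → (∀ r ∈ fixingSubgroup G (fixedBy Ω u),
        ∀ d ∈ commSwap D s z z, Commute d r) → commSwap D s z z = pairSwap D u v z z := by
    intro s _ _ hsK hc
    ext d
    exact ⟨fun hd => ⟨hd.1, hc u huK d hd, hc v hvK d hd, hd.2.2⟩, fun hd =>
      ⟨hd.1, commute_fixing_of_member h hL htwo hS hq ⟨hd.1, hd.2.1⟩ hsK, hd.2.2.2⟩⟩
  have eu : commSwap D u z z = pairSwap D u v z z := e1 hq.bu rfl huK fun r hr d hd =>
    commute_fixing_of_member h hL htwo hS hq ⟨hd.1, hd.2.1⟩ hr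
  have ev : commSwap D v z z = pairSwap D u v z z := e1 hq.bv hFv.symm hvK fun r hr d hd =>
    commute_fixing_of_member h hL htwo hS hq.symm ⟨hd.1, hd.2.1⟩ (hFv ▸ hr)
  have ew : commSwap D (u * v) z z = pairSwap D u v z z := e1 hq.bw hFw hwK fun r hr d hd =>
    commute_fixing_of_member h hL htwo hS hq.rot ⟨hd.1, hd.2.1⟩ (hFw.symm ▸ hr)
  have hW := hq'.wielandt h
  rw [eu, ev, ew] at hW
  have hM := hq'.pos h
  have heq : Nat.card (swappers D z z) = Nat.card (pairSwap D u v z z) := by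
    have hM' : (0 : ℤ) < Nat.card (pairSwap D u v z z) := by exact_mod_cast hM
    have : (Nat.card (swappers D z z) : ℤ) = Nat.card (pairSwap D u v z z) :=
      mul_right_cancel₀ (pow_ne_zero 2 hM'.ne') (by rw [hW]; ring)
    exact_mod_cast this
  have hset : pairSwap D u v z z = swappers D z z :=
    Set.eq_of_subset_of_ncard_le (fun d hd => ⟨hd.1, hd.2.2.2⟩)
      (by rw [← Nat.card_coe_set_eq, ← Nat.card_coe_set_eq, heq]) (Set.toFinite _)
  exact ((Set.ext_iff.mp hset a).mpr ha).2.1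

/-- Members at one point commute. -/
theorem commute_members {z : Ω} {a b : G} (ha : a ∈ swappers D z z) (hb : b ∈ swappers D z z) :
    Commute a b := by
  haveI := h.trans
  obtain ⟨g₀, hg₀⟩ := exists_smul_eq G x z
  -- a conjugate of the four group at `z`
  suffices key : ∀ {z : Ω} {a b : G}, u • z = z → a ∈ swappers D z z → b ∈ swappers D z z →
      Commute a b by
    have hx0 : g₀⁻¹ • z = x := inv_smul_eq_iff.mpr hg₀.symm
    have hmem : ∀ {a : G}, a ∈ swappers D z z → g₀⁻¹ * a * g₀⁻¹⁻¹ ∈ swappers D x x := fun ha =>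
      ⟨h.conj_mem ha.1 _, by rw [inv_inv, mul_smul, mul_smul, hg₀, ha.2, hx0]⟩
    have := commute_conj (key hq.hx.1 (hmem ha) (hmem hb)) g₀
    rwa [show g₀ * (g₀⁻¹ * a * g₀⁻¹⁻¹) * g₀⁻¹ = a by group,
      show g₀ * (g₀⁻¹ * b * g₀⁻¹⁻¹) * g₀⁻¹ = b by group] at this
  intro z a b hz ha hb
  have hau : Commute a u := commute_of_mem_swappers h hL htwo hS hq hz ha
  obtain ⟨s, hs⟩ := exists_conj_mul_member h hL hq.bu ⟨ha.1, hau⟩
  have hFv := hS u v x y hq
  have hq' : Quad Ω D (u * a) (s * v * s⁻¹) (s • x) (s • y) := by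
    refine quad_of_pair htwo ?_ (by rw [orderOf_conj, hq.bv.1]) ?_ ?_
      (fun e => hq.ne (MulAction.injective s e)) ⟨?_, H73.Bender.conj_smul_of_smul hq.hx.2⟩
      ⟨?_, H73.Bender.conj_smul_of_smul hq.hy.2⟩
    · rw [← hs, orderOf_conj, hq.bu.1]
    · rw [← hs]; exact commute_conj hq.comm s
    · intro e
      rw [← hs] at e
      have huv := mul_left_cancel (mul_right_cancel e)
      have h1 := hq.bw.1
      rw [huv, mul_self_of_orderOf_eq_two hq.bv.1, orderOf_one] at h1
      omega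
    · rw [← hs]; exact H73.Bender.conj_smul_of_smul hq.hx.1
    · rw [← hs]; exact H73.Bender.conj_smul_of_smul hq.hy.1
  have hbu : Commute b u := commute_of_mem_swappers h hL htwo hS hq hz hb
  have hbua : Commute b (u * a) :=
    commute_of_mem_swappers h hL htwo hS hq' (by rw [mul_smul, ha.2, hz]) hb
  have := hbu.mul_right hbua
  rw [← mul_assoc, mul_self_of_orderOf_eq_two hq.bu.1, one_mul] at this
  exact this.symm

/-- `E` is `1` with all members at the point. -/
theorem mem_E_iff {z : Ω} (hz : u • z = z) {E Q : Subgroup G} (hl : Line2 D u z E Q) {g : G} :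
    g ∈ E ↔ g = 1 ∨ g ∈ swappers D z z := by
  haveI : Fact (Nat.Prime 2) := ⟨Nat.prime_two⟩
  have hsub : ∀ e ∈ E, e = 1 ∨ e ∈ swappers D z z := fun e he =>
    (hl.mem_E e he).imp_right fun h' => ⟨h'.1, h'.2.2⟩
  refine ⟨hsub g, ?_⟩
  rintro (rfl | hg)
  · exact one_mem E
  -- the members at the point generate a 2-group
  set P := closure (swappers D z z) with hP
  haveI : IsMulCommutative P := Subgroup.isMulCommutative_closure fun a ha b hb =>
    (commute_members h hL htwo hS hq ha hb).eq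
  have hcomm : ∀ {a b : G}, a ∈ P → b ∈ P → Commute a b := fun ha hb =>
    PGroups.comm_of_isMulCommutative inferInstance ha hb
  have hsq : ∀ r ∈ P, r * r = 1 := by
    intro r hr
    induction hr using Subgroup.closure_induction with
    | mem a ha => exact mul_self_of_orderOf_eq_two (h.inv ha.1)
    | one => exact one_mul 1
    | mul a b ha hb iha ihb =>
      calc a * b * (a * b) = a * (b * a) * b := by group
        _ = (a * a) * (b * b) := by rw [(hcomm hb ha).eq]; group
        _ = 1 := by rw [iha, ihb, mul_one]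
    | inv a _ iha => rw [← mul_inv_rev, iha, inv_one]
  have hPp : IsPGroup 2 P := fun r => ⟨1, Subtype.ext (by
    rw [Subgroup.coe_pow, pow_one, pow_two, hsq r r.2, Subgroup.coe_one])⟩
  obtain ⟨s, -, hle⟩ := hl.sylow P hPp ((closure_le _).mpr fun a ha =>
    ⟨mem_lineGroup ha.1 (commute_of_mem_swappers h hL htwo hS hq hz ha),
      mem_stabilizer_iff.mpr ha.2⟩)
  have hPE : P ≤ MulAut.conj s • E := by
    intro r hr
    refine (mem_conj_smul_subgroup E).mpr ?_
    by_cases hr1 : r = 1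
    · rw [hr1]; simp
    · refine hl.omega _ ((mem_conj_smul_subgroup Q).mp (hle hr)) ?_
      rw [show s⁻¹ * r * s = s⁻¹ * r * s⁻¹⁻¹ by rw [inv_inv], orderOf_conj]
      exact orderOf_eq_two_of_mul_self (hsq r hr) hr1
  have hEP : E ≤ P := fun e he => by
    rcases hsub e he with rfl | he'
    · exact one_mem P
    · exact subset_closure he'
  have hcard : Nat.card P ≤ Nat.card E := (Subgroup.card_le_of_le hPE).trans
    (Nat.card_congr (Subgroup.equivSMul (MulAut.conj s) E).toEquiv).ge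
  rw [Subgroup.eq_of_le_of_card_ge hEP hcard]
  exact subset_closure hg

end Cfsg.Agent.H30.Asch
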