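import Cfsg.Agent.H30.Asch.NoneProperCover
import Cfsg.Agent.Coprime.Generation

/-!
No element proper: the odd core of the fixing group of the fixed points of `u` is trivial, so the
members at these points centralise the fixing group, all members at one point commute with `u`,
and with each other.
-/

set_option autoImplicit false
set_option linter.style.haveILetI false

namespace Cfsg.Agent.H30.Asch

open Subgroup MulAction
open Cfsg.Agent.H14.Asch
open Cfsg.Agent.H39
open Cfsg.Agent.H73.Bender (SE)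
open Cfsg.Agent.H73.Asch (RankTwoBad Line2 HasLines2)
open scoped Pointwise

universe u v

variable {G : Type u} [Group G] [Finite G] {Ω : Type v} [MulAction G Ω] [Finite Ω] {D : Set G}

/-- An odd group fixes `c` when a 2-group normalising it is regular on the orbit of `c`. -/
theorem smul_eq_of_normalized {C Q : Subgroup G} (hC : Odd (Nat.card C)) (hQ : IsPGroup 2 Q)
    (hn : ∀ q ∈ Q, ∀ j ∈ C, q * j * q⁻¹ ∈ C) {c : Ω} (hfree : ∀ q ∈ Q, q • c = c → q = 1)
    (htr : ∀ j ∈ C, ∃ q ∈ Q, q • c = j • c) : ∀ j ∈ C, j • c = c := by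
  let W : Subgroup G :=
  { carrier := {q | q ∈ Q ∧ ∃ j ∈ C, q • c = j • c}
    one_mem' := ⟨one_mem _, 1, one_mem _, rfl⟩
    mul_mem' := by
      rintro q r ⟨hq, j, hj, ej⟩ ⟨hr, i, hi, ei⟩
      refine ⟨mul_mem hq hr, q * i * q⁻¹ * j, mul_mem (hn q hq i hi) hj, ?_⟩
      rw [mul_smul, ei, mul_smul, ← ej, mul_smul, mul_smul, inv_smul_smul]
    inv_mem' := by
      rintro q ⟨hq, j, hj, ej⟩
      refine ⟨inv_mem hq, (q⁻¹ * j * q⁻¹⁻¹)⁻¹, inv_mem (hn _ (inv_mem hq) j hj), ?_⟩
      rw [eq_inv_smul_iff, inv_inv, mul_smul, mul_smul, smul_inv_smul, ← ej, inv_smul_smul] }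
  have hWQ : W ≤ Q := fun q hq => hq.1
  let f : W → MulAction.orbit C c := fun q => ⟨(q : G) • c, by
    obtain ⟨-, j, hj, ej⟩ := q.2
    exact ⟨⟨j, hj⟩, ej.symm⟩⟩
  have hf : Function.Bijective f := by
    constructor
    · intro q r e
      have e' : (q : G) • c = (r : G) • c := congrArg Subtype.val e
      have h1 := hfree _ (mul_mem (inv_mem (hWQ r.2)) (hWQ q.2))
        (by rw [mul_smul, e', inv_smul_smul])
      exact Subtype.ext (inv_mul_eq_one.mp h1).symm
    · rintro ⟨_, ⟨j, hj⟩, rfl⟩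
      obtain ⟨q, hq, e⟩ := htr j hj
      exact ⟨⟨q, hq, j, hj, e⟩, Subtype.ext e⟩
  have hdvd : Nat.card (MulAction.orbit C c) ∣ Nat.card C := by
    rw [Nat.card_congr (MulAction.orbitEquivQuotientStabilizer C c)]
    exact Subgroup.index_dvd_card _
  rw [← Nat.card_congr (Equiv.ofBijective f hf)] at hdvd
  haveI : Fact (Nat.Prime 2) := ⟨Nat.prime_two⟩
  obtain ⟨n, hn2⟩ := IsPGroup.iff_card.mp (hQ.to_le hWQ)
  have hW1 : W = ⊥ := by
    refine Subgroup.eq_bot_of_card_eq _ ?_
    rw [hn2] at hdvd ⊢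
    rcases n with _ | n
    · rfl
    · exact absurd (hC.of_dvd_nat hdvd) (by rw [Nat.not_odd_iff_even, Nat.even_pow]; exact ⟨even_two, by omega⟩)
  intro j hj
  obtain ⟨q, hq, e⟩ := htr j hj
  have : q = 1 := Subgroup.mem_bot.mp (hW1 ▸ (show q ∈ W from ⟨hq, j, hj, e⟩))
  rw [← e, this, one_smul]

/-- **J = 1**: an odd subgroup of the fixing group normalised by `C(u)` is trivial. -/
theorem eq_bot_of_odd (h : Crit G Ω D) (hL : HasLines2 Ω D) (htwo : AllRankTwo Ω D)
    (hS : SameFix Ω D) {u v : G} {x y : Ω} (hq : Quad Ω D u v x y) {J : Subgroup G}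
    (hJK : J ≤ fixingSubgroup G (fixedBy Ω u)) (hodd : Odd (Nat.card J))
    (hnorm : centralizer ({u} : Set G) ≤ normalizer (J : Set G)) : J = ⊥ := by
  haveI : Fact (Nat.Prime 2) := ⟨Nat.prime_two⟩
  suffices hall : ∀ j ∈ J, ∀ c : Ω, j • c = c by
    refine (Subgroup.eq_bot_iff_forall J).mpr fun j hj => ?_
    haveI := h.faithful
    exact FaithfulSMul.eq_of_smul_eq_smul (α := Ω) fun c => by rw [hall j hj c, one_smul]
  intro j₀ hj₀ c
  by_cases huc : u • c = c
  · exact mem_fixing_iff.mp (hJK hj₀) c huc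
  obtain ⟨v', a, b, g, hc⟩ := exists_cover h htwo hS hq huc
  have hu2 := hq.bu.1
  have huu := mul_self_of_orderOf_eq_two hu2
  have hug : u • g = g := h.fix_of_commute hc.mem_a.1 hc.mem_a.2.1.symm hc.smul_a
  set t := u * a with ht
  set τ := v' * b with hτ
  have hne : ∀ {s d : G}, orderOf s = 2 → d ∈ D → s • x = x → s • y = y → s ≠ d :=
    fun hs hd hx hy e => hq.ne (h.eq_of_fixed hd (e ▸ hx) (e ▸ hy))
  have ht2 : orderOf t = 2 :=
    orderOf_mul_two hu2 (h.inv hc.mem_a.1) hc.mem_a.2.1.symm (hne hu2 hc.mem_a.1 hq.hx.1 hq.hy.1)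
  have hv'F := mem_fixing_iff.mp hc.fixing
  have hτ2 : orderOf τ = 2 :=
    orderOf_mul_two hc.two (h.inv hc.mem_b.1) hc.mem_b.2.2.symm
      (hne hc.two hc.mem_b.1 (hv'F x hq.hx.1) (hv'F y hq.hy.1))
  have hcg : c ≠ g := fun e => huc (e ▸ hug)
  have htc : t • c = c := hc.fix_c
  have htg : t • g = g := by rw [ht, mul_smul, hc.smul_a, hug]
  have hτu : Commute τ u := hc.comm.symm.mul_left hc.mem_b.2.1
  have hτt : Commute τ t :=
    hτu.mul_right (hc.mem_a.2.2.symm.mul_left hc.commute.symm)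
  have hτfix := hc.fixedBy_eq
  have hτK : τ ∈ fixingSubgroup G (fixedBy Ω t) :=
    mem_fixing_iff.mpr fun p hp => (Set.ext_iff.mp hτfix p).mpr hp
  have htu : Commute t u := (Commute.refl u).mul_left hc.mem_a.2.1
  -- a line of `t` at `g` whose 2-group contains `a` and `b` and is normalised by `τ`
  obtain ⟨E, Q, hl⟩ := hL t g (htwo t ht2 c g hcg htc htg) htg
  set X := lineGroup D t ⊓ stabilizer G g with hX
  set X' := X ⊔ zpowers τ with hX'
  have hτg : τ • g = g := mem_fixing_iff.mp hτK g htg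
  have hτX : ∀ r ∈ X, τ * r * τ⁻¹ ∈ X := fun r hr =>
    ⟨conj_mem_lineGroup_of_commute h hτt hr.1, mem_stabilizer_iff.mpr (by
      rw [mul_smul, mul_smul, inv_smul_eq_iff.mpr hτg.symm, mem_stabilizer_iff.mp hr.2, hτg])⟩
  have hnX : X' ≤ normalizer (X : Set G) :=
    sup_le Subgroup.le_normalizer (zpowers_le.mpr (mem_normalizer_of_conj_mem hτX))
  have hX't : ∀ r ∈ X', Commute r t ∧ r • g = g := by
    intro r hr
    have : X' ≤ centralizer ({t} : Set G) ⊓ stabilizer G g := sup_le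
      (le_inf (fun r hr => mem_centralizer_singleton_iff.mpr (commute_of_mem_lineGroup hr.1).eq)
        inf_le_right)
      (zpowers_le.mpr ⟨mem_centralizer_singleton_iff.mpr hτt.eq, mem_stabilizer_iff.mpr hτg⟩)
    exact ⟨mem_centralizer_singleton_iff.mp (this hr).1, mem_stabilizer_iff.mp (this hr).2⟩
  set F : Set (Subgroup G) := {P | IsPGroup 2 P ∧ P ≤ X' ∧ Q ≤ P}
  obtain ⟨P, ⟨hPp, hPX', hQP⟩, hPmax⟩ := F.exists_max_image (fun P => Nat.card P) (Set.toFinite F)
    ⟨Q, hl.isPGroup, le_trans hl.Q_le le_sup_left, le_rfl⟩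
  have hmax : ∀ P' : Subgroup G, IsPGroup 2 P' → P' ≤ X' → P ≤ P' → P' ≤ P := fun P' h1 h2 h3 =>
    (Subgroup.eq_of_le_of_card_ge h3 (hPmax P' ⟨h1, h2, hQP.trans h3⟩)).ge
  have hat : Commute a t := hc.mem_a.2.1.mul_right (Commute.refl a)
  have hbt : Commute b t := hc.mem_b.2.1.mul_right hc.commute.symm
  have haX : a ∈ X := ⟨mem_lineGroup hc.mem_a.1 hat, mem_stabilizer_iff.mpr hc.smul_a⟩
  have hbX : b ∈ X := ⟨mem_lineGroup hc.mem_b.1 hbt, mem_stabilizer_iff.mpr hc.smul_b⟩
  set R := closure ({a, b} : Set G) ⊔ zpowers τ with hR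
  have hRp : IsPGroup 2 R := by
    refine IsPGroup.to_sup_of_normal_left' (isPGroup_closure_pair
      (mul_self_of_orderOf_eq_two (h.inv hc.mem_a.1)) (mul_self_of_orderOf_eq_two (h.inv hc.mem_b.1))
      hc.commute) (IsPGroup.of_card (n := 1) (by rw [Nat.card_zpowers, hτ2]; rfl)) ?_
    refine zpowers_le.mpr (mem_normalizer_of_conj_mem fun r hr => ?_)
    have : closure ({a, b} : Set G) ≤ centralizer ({τ} : Set G) := (closure_le _).mpr (by
      rintro r (rfl | rfl)
      · exact mem_centralizer_singleton_iff.mpr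
          (hc.mem_a.2.2.mul_right hc.commute).eq
      · exact mem_centralizer_singleton_iff.mpr
          (hc.mem_b.2.2.mul_right (Commute.refl _)).eq)
    rwa [conj_eq_of_commute (mem_centralizer_singleton_iff.mp (this hr) : Commute r τ).symm]
  have hRX' : R ≤ X' := sup_le ((closure_le _).mpr (by
    rintro r (rfl | rfl)
    · exact mem_sup_left haX
    · exact mem_sup_left hbX)) le_sup_right
  obtain ⟨k, hk, hkP⟩ := exists_conj_le_of_maximal hPp hPX' hmax hRp hRX'
  obtain ⟨hkt, hkg⟩ := hX't k hk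
  have hPX : P ⊓ X ≤ Q := by
    obtain ⟨s, -, hs⟩ := hl.sylow (P ⊓ X) (hPp.to_le inf_le_left) inf_le_right
    refine (Subgroup.eq_of_le_of_card_ge (le_inf hQP hl.Q_le) ?_).ge
    exact (Subgroup.card_le_of_le hs).trans
      (Nat.card_congr (Subgroup.equivSMul (MulAut.conj s) Q).toEquiv).ge
  have hconjX : ∀ {p r : G}, p ∈ X' → r ∈ X → p * r * p⁻¹ ∈ X := fun hp hr =>
    (Subgroup.mem_normalizer_iff.mp (hnX hp) _).mp hr
  have hmemQ : ∀ {r : G}, r ∈ R → r ∈ X → k * r * k⁻¹ ∈ Q := fun hr hrX =>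
    hPX ⟨hkP _ hr, hconjX hk hrX⟩
  have hcenE : ∀ {d : G}, d ∈ R → d ∈ X → d ∈ D → ∀ q ∈ Q, Commute (k * d * k⁻¹) q :=
    fun hd hdX hdD => hl.central _ (hl.omega _ (hmemQ hd hdX) (by rw [orderOf_conj, h.inv hdD]))
  have hτR : τ ∈ R := mem_sup_right (mem_zpowers τ)
  -- the conjugate `Q'` of `Q`
  set Q' : Subgroup G := MulAut.conj k⁻¹ • Q with hQ'
  have hQ'mem : ∀ {q : G}, q ∈ Q' ↔ k * q * k⁻¹ ∈ Q := fun {q} => by
    rw [hQ', mem_conj_smul_subgroup, inv_inv]
  have hQ'X : ∀ q ∈ Q', q ∈ X := fun q hq => by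
    have := hconjX (inv_mem hk) (hl.Q_le (hQ'mem.mp hq))
    rwa [show k⁻¹ * (k * q * k⁻¹) * k⁻¹⁻¹ = q by group] at this
  have hfree : ∀ q ∈ Q', ∀ p : Ω, t • p = p → p ≠ g → q • p = p → q = 1 := by
    intro q hq p hp hpg hqp
    have h1 : k * q * k⁻¹ = 1 := hl.free _ (hQ'mem.mp hq) (k • p) (smul_fixed_of_commute hkt hp)
      (fun e => hpg (MulAction.injective k (e.trans hkg.symm)))
      (by rw [mul_smul, mul_smul, inv_smul_smul, hqp])
    exact conj_eq_one_iff.mp h1
  have hQ't : ∀ q ∈ Q', Commute q t := fun q hq => commute_of_mem_lineGroup (hQ'X q hq).1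
  have hQ'g : ∀ q ∈ Q', q • g = g := fun q hq => mem_stabilizer_iff.mp (hQ'X q hq).2
  have hQ'τ : ∀ q ∈ Q', Commute q τ := by
    intro q hq
    set q₁ := τ * q * τ⁻¹ * q⁻¹ with hq₁
    have hq₁X : q₁ ∈ X := mul_mem (hτX q (hQ'X q hq)) (inv_mem (hQ'X q hq))
    have hq₁Q : q₁ ∈ Q' := by
      refine hQ'mem.mpr (hPX ⟨?_, hconjX hk hq₁X⟩)
      have h1 := hkP τ hτR
      have h2 := hQP (hQ'mem.mp hq)
      rw [show k * q₁ * k⁻¹ = (k * τ * k⁻¹) * (k * q * k⁻¹) * (k * τ * k⁻¹)⁻¹ * (k * q * k⁻¹)⁻¹ by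
        rw [hq₁]; group]
      exact P.mul_mem (P.mul_mem (P.mul_mem h1 h2) (P.inv_mem h1)) (P.inv_mem h2)
    have h1 : q₁ = 1 := by
      refine hfree q₁ hq₁Q c htc hcg ?_
      have hqi : t • q⁻¹ • c = q⁻¹ • c := smul_fixed_of_commute (hQ't q hq).inv_left htc
      have hτi := mem_fixing_iff.mp (inv_mem hτK) _ hqi
      rw [hq₁, mul_smul, mul_smul, mul_smul, hτi, smul_inv_smul, mem_fixing_iff.mp hτK c htc]
    rw [hq₁, mul_inv_eq_one, mul_inv_eq_iff_eq_mul] at h1
    exact h1.symm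
  have hQ'E : ∀ d, d ∈ R → d ∈ X → d ∈ D → ∀ q ∈ Q', Commute q d := fun d hd hdX hdD q hq => by
    have := commute_conj (hcenE hd hdX hdD _ (hQ'mem.mp hq)) k⁻¹
    rw [show k⁻¹ * (k * d * k⁻¹) * k⁻¹⁻¹ = d by group,
      show k⁻¹ * (k * q * k⁻¹) * k⁻¹⁻¹ = q by group] at this
    exact this.symm
  have hQ'u : ∀ q ∈ Q', Commute q u := fun q hq => by
    have := (hQ't q hq).mul_right
      (hQ'E a (mem_sup_left (subset_closure (by simp))) haX hc.mem_a.1 q hq)
    rwa [ht, mul_assoc, mul_self_of_orderOf_eq_two (h.inv hc.mem_a.1), mul_one] at this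
  -- the four group `T`
  set T := closure ({t, τ} : Set G) with hT
  have htT : t ∈ T := subset_closure (by simp)
  have hτT : τ ∈ T := subset_closure (by simp)
  haveI : IsMulCommutative T := by
    refine Subgroup.isMulCommutative_closure ?_
    rintro r (rfl | rfl) s (rfl | rfl)
    exacts [rfl, hτt.symm.eq, hτt.eq, rfl]
  have hTle : T ≤ centralizer ({u} : Set G) := (closure_le _).mpr (by
    rintro r (rfl | rfl)
    · exact mem_centralizer_singleton_iff.mpr htu.eq
    · exact mem_centralizer_singleton_iff.mpr hτu.eq)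
  have htne : t ≠ τ := by
    intro e
    have e1 : a * b = u * v' := by
      have e0 : u * a * b = v' * (b * b) := by rw [← mul_assoc, ← hτ, ← e, ht]
      rw [mul_self_of_orderOf_eq_two (h.inv hc.mem_b.1), mul_one] at e0
      rw [← e0, ← mul_assoc u, ← mul_assoc u, huu, one_mul]
    have hab : a ≠ b := fun e2 => hc.ne <| by
      rw [e2, mul_self_of_orderOf_eq_two (h.inv hc.mem_b.1)] at e1
      rw [eq_inv_of_mul_eq_one_left e1.symm, inv_eq_of_orderOf_eq_two hc.two]
    have hfix : ∀ {p : Ω}, u • p = p → (a * b) • p = p := fun hp => by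
      rw [e1, mul_smul, hv'F _ hp, hp]
    exact hq.ne (((h.eq_of_commute_mul hc.mem_b.1 hc.mem_a.1 hab.symm hc.commute.symm hc.smul_b).mp
      (hfix hq.hx.1)).trans ((h.eq_of_commute_mul hc.mem_b.1 hc.mem_a.1 hab.symm hc.commute.symm
      hc.smul_b).mp (hfix hq.hy.1)).symm)
  have hTnc : ¬ IsCyclic T := by
    intro hcy
    obtain ⟨z, hz⟩ := hcy.exists_generator
    exact htne ((eq_one_or_eq_of_sq (S := T) (a := z) (z := ⟨τ, hτT⟩)
      (x := ⟨t, htT⟩) (by rw [← Subgroup.orderOf_coe]; exact hτ2) (hz _) (hz _)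
      (Subtype.ext (mul_self_of_orderOf_eq_two ht2))).resolve_left
        (fun e => ne_one_of_orderOf_eq_two ht2 (congrArg Subtype.val e)) |> congrArg Subtype.val)
  have hTp : IsPGroup 2 T :=
    isPGroup_closure_pair (mul_self_of_orderOf_eq_two ht2) (mul_self_of_orderOf_eq_two hτ2) hτt.symm
  have hcop : (Nat.card T).Coprime (Nat.card J) := by
    obtain ⟨n, hn⟩ := IsPGroup.iff_card.mp hTp
    rw [hn]
    exact (Nat.coprime_two_left.mpr hodd).pow_left n
  have hTfix : T ≤ fixingSubgroup G (fixedBy Ω t) := (closure_le _).mpr (by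
    rintro r (rfl | rfl)
    · exact mem_fixing_iff.mpr fun p hp => hp
    · exact hτK)
  refine mem_stabilizer_iff.mp (Coprime.le_of_centralizer_noncyclic_le (A := T) (K := J)
    (M := stabilizer G c) hTnc (hTle.trans hnorm) hcop (fun s hs hs1 => ?_) hj₀)
  have hs2 : orderOf s = 2 := by
    refine orderOf_eq_two_of_mul_self ?_ hs1
    induction hs using Subgroup.closure_induction with
    | mem r hr =>
      rcases hr with rfl | rfl
      exacts [mul_self_of_orderOf_eq_two ht2, mul_self_of_orderOf_eq_two hτ2]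
    | one => exact one_mul 1
    | mul r r' hr hr' ihr ihr' =>
      have hcr : Commute r r' := PGroups.comm_of_isMulCommutative inferInstance hr hr'
      calc r * r' * (r * r') = r * (r' * r) * r' := by group
        _ = (r * r) * (r' * r') := by rw [hcr.symm.eq]; group
        _ = 1 := by
          by_cases hr1 : r = 1
          · by_cases hr1' : r' = 1
            · rw [hr1, hr1']; simp
            · rw [hr1, ihr' hr1']; simp
          · by_cases hr1' : r' = 1
            · rw [hr1', ihr hr1]; simp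
            · rw [ihr hr1, ihr' hr1', mul_one]
    | inv r _ ihr =>
      rw [← mul_inv_rev, ihr (fun e => hs1 (by rw [e, inv_one])), inv_one]
  have hsfix := fixedBy_eq_of_fixing htwo hS ht2 hcg htc htg hs2 (hTfix hs)
  have hJc : ∀ r ∈ J ⊓ centralizer ({s} : Set G), Commute r s := fun r hr =>
    mem_centralizer_singleton_iff.mp hr.2
  refine fun r hr => mem_stabilizer_iff.mpr (smul_eq_of_normalized
    (C := J ⊓ centralizer ({s} : Set G)) (Q := Q') (hodd.of_dvd_nat (card_dvd_of_le inf_le_left))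
    (hl.isPGroup.map _) ?_ (fun q hq e => hfree q hq c htc hcg e) ?_ r hr)
  · intro q hq r hr
    have hqs : Commute q s := by
      have : T ≤ centralizer ({q} : Set G) := (closure_le _).mpr (by
        rintro r (rfl | rfl)
        · exact mem_centralizer_singleton_iff.mpr (hQ't q hq).symm.eq
        · exact mem_centralizer_singleton_iff.mpr (hQ'τ q hq).symm.eq)
      exact (mem_centralizer_singleton_iff.mp (this hs) : Commute s q).symm
    refine ⟨(Subgroup.mem_normalizer_iff.mp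
      (hnorm (mem_centralizer_singleton_iff.mpr (hQ'u q hq).eq)) r).mp hr.1,
      mem_centralizer_singleton_iff.mpr ?_⟩
    exact ((hqs.mul_left (hJc r hr)).mul_left hqs.inv_left).eq
  · intro r hr
    have hrg : r • g = g := mem_fixing_iff.mp (hJK hr.1) g hug
    have hrc : t • r • c = r • c := (Set.ext_iff.mp hsfix _).mp
      (smul_fixed_of_commute (hJc r hr) ((Set.ext_iff.mp hsfix c).mpr htc))
    have hne' : k • r • c ≠ g := fun e => hcg (MulAction.injective r
      ((MulAction.injective k (e.trans hkg.symm)).trans hrg.symm))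
    obtain ⟨q, hq, e⟩ := hl.trans (k • c) (k • r • c) (smul_fixed_of_commute hkt htc)
      (smul_fixed_of_commute hkt hrc) (fun e => hcg (MulAction.injective k (e.trans hkg.symm))) hne'
    refine ⟨k⁻¹ * q * k, hQ'mem.mpr (by rwa [show k * (k⁻¹ * q * k) * k⁻¹ = q by group]), ?_⟩
    rw [mul_smul, mul_smul, e, inv_smul_smul]

end Cfsg.Agent.H30.Asch
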