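import Cfsg.Agent.H30.Asch.NoneProperAgree

/-!
No element proper, lines whose `2`-group is `E` or has a torus element centralising exactly `E`:
contradiction.  Two commuting translations with a common point give `q` lines permuted by an
element of the torus, which therefore fixes a moved point; but it fixes none.
-/

set_option autoImplicit false
set_option linter.style.haveILetI false

namespace Cfsg.Agent.H30.Asch

open Subgroup MulAction
open Cfsg.Agent.H14.Asch
open Cfsg.Agent.H39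
open Cfsg.Agent.H73.Bender (SE)
open Cfsg.Agent.H73.Asch (RankTwoBad Line2 HasLines2)
open scoped Pointwise

universe u v

variable {G : Type u} [Group G] [Finite G] {Ω : Type v} [MulAction G Ω] [Finite Ω] {D : Set G}

namespace NPLine

variable {u v : G} {x y : Ω} {E Q A : Subgroup G} {a₀ : G} (S : NPLine D u v x y E Q A a₀)
  (hc : NPCtx G Ω D)
include S hc

/-- A torus element acting non-trivially on `E` centralises no non-trivial element of `E`. -/
theorem fpf_E {α : G} (hα : α ∈ A) (hne : ¬ ∀ e ∈ E, Commute α e) {e : G} (he : e ∈ E)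
    (hαe : Commute α e) : e = 1 := by
  by_contra he1
  refine hne fun f hf => ?_
  by_cases hf1 : f = 1
  · rw [hf1]; exact Commute.one_right α
  · obtain ⟨r, hr, rfl⟩ := S.A_trans e he f hf he1 hf1
    have := commute_conj hαe r
    rwa [show r * α * r⁻¹ = α from conj_eq_of_commute (PGroups.comm_of_isMulCommutative S.A_comm hr hα)] at this

/-- A torus element acting non-trivially on `E` fixes no point moved by `u`. -/
theorem not_fixed_moved {α : G} (hα : α ∈ A) (hne : ¬ ∀ e ∈ E, Commute α e) {d : Ω}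
    (hd : α • d = d) (hud : u • d ≠ d) : False := by
  have h := hc.crit
  have hq := S.quad
  have hαu := S.A_commute hα
  obtain ⟨hαx, hαy⟩ := S.A_smul hα
  obtain ⟨b, b', g, hcov⟩ := hc.exists_cover_self hq hud
  have hb : b ∈ commMembers D u := ⟨hcov.mem_a.1, hcov.mem_a.2.1⟩
  have hb' : α * b * α⁻¹ ∈ commMembers D u := by
    refine ⟨h.conj_mem hb.1 α, ?_⟩
    have := commute_conj hb.2 α
    rwa [conj_eq_of_commute hαu] at this
  have hd' : (u * (α * b * α⁻¹)) • d = d := by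
    have := H73.Bender.conj_smul_of_smul (g := α) hcov.fix_c
    rwa [hd, show α * (u * b) * α⁻¹ = (α * u * α⁻¹) * (α * b * α⁻¹) by group,
      conj_eq_of_commute hαu] at this
  have hαb : Commute α b := commute_of_conj_eq (hc.middle_unique hq hud hb' hb hd' hcov.fix_c)
  have hαg : α • g = g := h.fix_of_commute hb.1 hαb hcov.smul_a
  have hug : u • g = g := h.fix_of_commute hb.1 hb.2.symm hcov.smul_a
  have honly : ∀ {p : Ω}, u • p = p → p ≠ x → α • p = p → p = y := by
    intro p hup hpx hap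
    obtain ⟨r, hr, hry⟩ := S.line.trans y p hq.hy.1 hup hq.ne.symm hpx
    have h1 : r⁻¹ * (α * r * α⁻¹) ∈ Q :=
      mul_mem (inv_mem hr) ((Subgroup.mem_normalizer_iff.mp (S.A_norm hα) r).mp hr)
    have h2 : (r⁻¹ * (α * r * α⁻¹)) • y = y := by
      rw [mul_smul, mul_smul, mul_smul, inv_smul_eq_iff.mpr hαy.symm, hry, hap, ← hry,
        inv_smul_smul]
    have h3 := S.line.free _ h1 y hq.hy.1 hq.ne.symm h2
    rw [inv_mul_eq_one] at h3
    have hαr : Commute α r := mul_inv_eq_iff_eq_mul.mp h3.symm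
    have hrr : r * r = 1 := S.fpf_E hc hα hne (S.line.sq_mem r hr) (hαr.mul_right hαr)
    have hr1 : r = 1 := by
      by_contra hr1
      exact hr1 (S.fpf_E hc hα hne (S.line.omega r hr (orderOf_eq_two_of_mul_self hrr hr1)) hαr)
    rw [← hry, hr1, one_smul]
  by_cases hgx : g = x
  · have hbE : b ∈ E := (S.mem_E hc).mpr (Or.inr ⟨hb.1, hgx ▸ hcov.smul_a⟩)
    exact ne_one_of_orderOf_eq_two (h.inv hb.1) (S.fpf_E hc hα hne hbE hαb)
  · have hgy : g = y := honly hug hgx hαg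
    have hby : b • y = y := hgy ▸ hcov.smul_a
    have hbx : b • x ≠ x := fun e => hq.ne (h.eq_of_fixed hb.1 e hby)
    have h1 : b • x = y := honly (smul_fixed_of_commute hb.2 hq.hx.1) hbx
      (by rw [← mul_smul, hαb.eq, mul_smul, hαx])
    exact hq.ne (MulAction.injective b (h1.trans hby.symm))

/-- The kill for lines with an auxiliary torus element. -/
theorem false_of_line (hN : LineNormal Ω D) (hF : LineFixed Ω D) : False := by
  classical
  haveI : Fact (Nat.Prime 2) := ⟨Nat.prime_two⟩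
  have h := hc.crit
  obtain ⟨t, t₁, c, a, a₁, htT, ht₁T, ht, ht₁, htt, hcY, htc, ht₁c, ha, ha₁, ha1, ha₁1, haa₁, htu,
    ht₁u⟩ := S.exists_four_translations hc hN hF
  have haa := line2_mul_self S.line h ha
  have ha₁₁ := line2_mul_self S.line h ha₁
  have htx := S.trans_smul hc htT
  have ht₁x := S.trans_smul hc ht₁T
  have htne : t ≠ t₁ := fun e => haa₁ (by
    rw [e, ht₁u] at htu
    exact (mul_left_cancel htu).symm)
  have hqt : Quad Ω D t t₁ x c :=
    quad_of_pair hc.two ht ht₁ htt htne hcY.1.symm ⟨htx, ht₁x⟩ ⟨htc, ht₁c⟩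
  obtain ⟨Et, Qt, hlt⟩ := hc.lines t x hqt.bu htx
  have hEt : ∀ {g : G}, g ∈ Et ↔ g ∈ E := fun {g} =>
    (mem_E_iff h hc.lines hc.two hc.same hqt htx hlt).trans (S.mem_E hc).symm
  have ha₀x := (S.A_smul S.mem).1
  have ha₀odd := S.odd_a₀
  -- the points of `t * e` fixed by `a₀`
  set L : E → Set Ω := fun e => {d | d ∈ auxPts Ω x a₀ ∧ (t * (e : G)) • d = d} with hLdef
  have hEcomm : ∀ (e : E), Commute (e : G) t := fun e => (htT.1 e e.2).symm
  have hLne : ∀ e : E, (L e).Nonempty ∧ ∃ i : ℕ, Nat.card (L e) = 2 ^ i := by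
    intro e
    obtain ⟨w, p, hqe⟩ : ∃ (w : G) (p : Ω), Quad Ω D (t * (e : G)) w x p := by
      by_cases he1 : (e : G) = 1
      · exact ⟨t₁, c, by rw [he1, mul_one]; exact hqt⟩
      · obtain ⟨s, hs⟩ := hc.quad_mul_member hqt
          ⟨(line2_member S.line e.2 he1).1, hEcomm e⟩
        have hex : (t * (e : G)) • x = x := by rw [mul_smul, S.E_smul e.2, htx]
        have hvx : (s * t₁ * s⁻¹) • x = x :=
          (Set.ext_iff.mp (hc.same _ _ _ _ hs) x).mp hex
        rcases eq_or_ne (s • x) x with e' | e'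
        · exact ⟨_, s • c, ⟨hs.bu, hs.bv, hs.bw, hs.comm, fun e'' => hs.ne (e'.trans e''),
            ⟨hex, hvx⟩, hs.hy⟩⟩
        · exact ⟨_, s • x, ⟨hs.bu, hs.bv, hs.bw, hs.comm, Ne.symm e', ⟨hex, hvx⟩, hs.hx⟩⟩
    obtain ⟨Ee, Qe, hle⟩ := hc.lines _ x hqe.bu hqe.hx.1
    have hEe : ∀ f ∈ Ee, Commute a₀ f := fun f hf => S.central f ((S.mem_E hc).mpr
      ((mem_E_iff h hc.lines hc.two hc.same hqe hqe.hx.1 hle).mp hf))
    have ha₀w : Commute a₀ (t * (e : G)) := htT.2.1.symm.mul_right (S.central e e.2)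
    have hQe := hN _ w x p Ee Qe hqe hle a₀ ha₀w ha₀x
    obtain ⟨⟨d, hd, hdx, had⟩, htrans⟩ := hF _ x Ee Qe hle a₀ ha₀odd ha₀x ha₀w hEe hQe
    refine ⟨⟨d, ⟨hdx, had⟩, hd⟩, ?_⟩
    let W : Subgroup G := Qe ⊓ centralizer ({a₀} : Set G)
    obtain ⟨i, hi⟩ := IsPGroup.iff_card.mp (hle.isPGroup.to_le (inf_le_left : W ≤ Qe))
    refine ⟨i, hi ▸ (Nat.card_congr ?_).symm⟩
    have hWfix : ∀ r ∈ W, r • d ≠ x := fun r hr e' => hdx (MulAction.injective r
      (e'.trans (mem_stabilizer_iff.mp (hle.Q_le hr.1).2).symm))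
    refine Equiv.ofBijective (fun r : W => (⟨(r : G) • d, ⟨hWfix r r.2,
      smul_fixed_of_commute (mem_centralizer_singleton_iff.mp r.2.2) had⟩,
      smul_fixed_of_commute (commute_of_mem_lineGroup (hle.Q_le r.2.1).1) hd⟩ : L e)) ⟨?_, ?_⟩
    · intro r r' e'
      have e'' : (r : G) • d = (r' : G) • d := congrArg Subtype.val e'
      have := hle.free _ (mul_mem (inv_mem r'.2.1) r.2.1) d hd hdx
        (by rw [mul_smul, e'', inv_smul_smul])
      exact Subtype.ext (inv_mul_eq_one.mp this).symm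
    · rintro ⟨d', ⟨hd'x, had'⟩, hd'⟩
      obtain ⟨r, hr, hra, hrd⟩ := htrans d d' hd hdx had hd' hd'x had'
      exact ⟨⟨r, hr, mem_centralizer_singleton_iff.mpr hra.eq⟩, Subtype.ext hrd⟩
  have hLdisj : ∀ {e e' : E} {d : Ω}, d ∈ L e → d ∈ L e' → e = e' := by
    intro e e' d hd hd'
    have h1 := hd.2
    have h2 := hd'.2
    rw [mul_smul] at h1 h2
    have h3 := S.E_fixed hc (mul_mem (inv_mem e'.2) e.2) hd.1.1
      (by rw [mul_smul, MulAction.injective t (h1.trans h2.symm), inv_smul_smul])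
    exact Subtype.ext (inv_mul_eq_one.mp h3).symm
  -- the torus element carrying `a` to `a₁` permutes the lines
  obtain ⟨α₀, hα₀, hαa⟩ := S.A_trans a ha a₁ ha₁ ha1 ha₁1
  have hα₀ne : ¬ ∀ e ∈ E, Commute α₀ e := fun hall =>
    haa₁ (by rw [← hαa, conj_eq_of_commute (hall a ha)])
  obtain ⟨hα₀x, -⟩ := S.A_smul hα₀
  have hα₀E : ∀ {e : G}, e ∈ E → α₀ * e * α₀⁻¹ ∈ E := fun he => S.conj_mem_E hc hα₀x he
  have hstep : ∀ e : E, ∃ e' : E, ∀ d ∈ L e, α₀ • d ∈ L e' := by
    intro e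
    set z := α₀ * t * α₀⁻¹ with hz
    -- `z` agrees with `t₁ * f` on the fixed points of `a₀`
    have hzT : z ∈ transGroup u v E a₀ := S.conj_trans hc hα₀ htT
    have hzu : orderOf z = 2 ∧ z * u * z⁻¹ = u * a₁ := by
      refine ⟨by rw [hz, orderOf_conj, ht], ?_⟩
      have hαu := S.A_commute hα₀
      calc z * u * z⁻¹ = α₀ * (t * (α₀⁻¹ * u * α₀⁻¹⁻¹) * t⁻¹) * α₀⁻¹ := by rw [hz]; group
        _ = (α₀ * u * α₀⁻¹) * (α₀ * a * α₀⁻¹) := by
          rw [conj_eq_of_commute hαu.inv_left, htu]; group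
        _ = u * a₁ := by rw [conj_eq_of_commute hαu, hαa]
    obtain ⟨f, hf, hfz⟩ : ∃ f ∈ E, ∀ d ∈ auxPts Ω x a₀, z • d = (t₁ * f) • d :=
      S.exists_agree hc hN hF ht₁T ht₁ ha₁ ha₁1 ht₁u hzT hzu
    -- the member of `t` on the line of `t₁ * g`
    set g : G := f * (α₀ * (e : G) * α₀⁻¹) with hg
    have hgE : g ∈ E := mul_mem hf (hα₀E e.2)
    have hd' : ∀ d ∈ L e, α₀ • d ∈ auxPts Ω x a₀ ∧ (t₁ * g) • α₀ • d = α₀ • d := by
      intro d hd
      have hαd : α₀ • d ∈ auxPts Ω x a₀ :=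
        ⟨fun e' => hd.1.1 (MulAction.injective α₀ (e'.trans hα₀x.symm)),
          smul_fixed_of_commute (S.A_commute_a₀ hα₀) hd.1.2⟩
      refine ⟨hαd, ?_⟩
      have h1 := H73.Bender.conj_smul_of_smul (g := α₀) hd.2
      rw [show α₀ * (t * (e : G)) * α₀⁻¹ = z * (α₀ * (e : G) * α₀⁻¹) by rw [hz]; group,
        mul_smul] at h1
      rw [hg, ← mul_assoc, mul_smul, ← hfz _ (S.trans_mapsTo hc (S.E_le_trans hc (hα₀E e.2)) hαd)]
      exact h1
    by_cases hg1 : g = 1
    · refine ⟨1, fun d hd => ?_⟩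
      obtain ⟨hαd, hfix⟩ := hd' d hd
      rw [hg1, mul_one] at hfix
      refine ⟨hαd, ?_⟩
      rw [Subgroup.coe_one, mul_one]
      exact (Set.ext_iff.mp (hc.same t t₁ x c hqt) _).mpr hfix
    · have hqt' := hqt.symm
      obtain ⟨Et₁, Qt₁, hlt₁⟩ := hc.lines t₁ x hqt'.bu ht₁x
      have hEt₁ : ∀ {g : G}, g ∈ Et₁ ↔ g ∈ E := fun {g} =>
        (mem_E_iff h hc.lines hc.two hc.same hqt' ht₁x hlt₁).trans (S.mem_E hc).symm
      have hmoved : ∀ d ∈ L e, t₁ • α₀ • d ≠ α₀ • d := by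
        intro d hd e'
        obtain ⟨hαd, hfix⟩ := hd' d hd
        rw [mul_smul] at hfix
        exact hg1 (S.E_fixed hc hgE hαd.1 (MulAction.injective t₁ (hfix.trans e'.symm)))
      obtain ⟨d₀, hd₀⟩ := (hLne e).1
      obtain ⟨b, hb, -, hbf⟩ := hc.exists_partner hqt' hlt₁ (hEt₁.mpr hgE) (hmoved d₀ hd₀)
        (hd' d₀ hd₀).2
      refine ⟨⟨b, hEt₁.mp hb⟩, fun d hd => ⟨(hd' d hd).1, ?_⟩⟩
      exact (Set.ext_iff.mp hbf _).mpr (hd' d hd).2
  have hiter : ∀ (n : ℕ) (e : E), ∃ e' : E, ∀ d ∈ L e, (α₀ ^ n) • d ∈ L e' := by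
    intro n
    induction n with
    | zero => exact fun e => ⟨e, fun d hd => by rwa [pow_zero, one_smul]⟩
    | succ n ih =>
      intro e
      obtain ⟨e₁, h1⟩ := hstep e
      obtain ⟨e₂, h2⟩ := ih e₁
      exact ⟨e₂, fun d hd => by rw [pow_succ, mul_smul]; exact h2 _ (h1 d hd)⟩
  -- an element of prime power order
  obtain ⟨m, p, j, hp, hp2, hpow, hαne⟩ : ∃ m p j : ℕ, p.Prime ∧ p ≠ 2 ∧
      (α₀ ^ m) ^ p ^ j = 1 ∧ ¬ ∀ e ∈ E, Commute (α₀ ^ m) e := by
    have hodd : Odd (orderOf α₀) :=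
      S.A_odd.of_dvd_nat (Subgroup.orderOf_dvd_natCard _ hα₀)
    set k := Nat.find (p := fun k => 0 < k ∧ ∀ e ∈ E, Commute (α₀ ^ k) e)
      ⟨orderOf α₀, orderOf_pos α₀, fun e _ => by rw [pow_orderOf_eq_one]; exact Commute.one_left e⟩
      with hk
    obtain ⟨hkpos, hkall⟩ := Nat.find_spec (p := fun k => 0 < k ∧ ∀ e ∈ E, Commute (α₀ ^ k) e)
      ⟨orderOf α₀, orderOf_pos α₀, fun e _ => by rw [pow_orderOf_eq_one]; exact Commute.one_left e⟩
    rw [← hk] at hkpos hkall
    have hdiv : ∀ n : ℕ, (∀ e ∈ E, Commute (α₀ ^ n) e) → k ∣ n := by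
      intro n hn
      by_contra hcon
      have hr : 0 < n % k := Nat.pos_of_ne_zero fun e => hcon (Nat.dvd_of_mod_eq_zero e)
      have hlt := Nat.mod_lt n hkpos
      refine Nat.find_min (p := fun k => 0 < k ∧ ∀ e ∈ E, Commute (α₀ ^ k) e) _
        (m := n % k) (by rw [← hk]; exact hlt) ⟨hr, fun e he => ?_⟩
      have h1 := hn e he
      rw [← Nat.mod_add_div n k, pow_add, pow_mul] at h1
      have h2 := h1.mul_left ((hkall e he).pow_left (n / k)).inv_left
      rwa [mul_inv_cancel_right] at h2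
    have hk1 : k ≠ 1 := fun e => hα₀ne (by simpa [e] using hkall)
    have hkN : k ∣ orderOf α₀ := hdiv _ fun e _ => by
      rw [pow_orderOf_eq_one]; exact Commute.one_left e
    set p := k.minFac
    have hp : p.Prime := Nat.minFac_prime hk1
    have hpN : p ∣ orderOf α₀ := (Nat.minFac_dvd k).trans hkN
    refine ⟨ordCompl[p] (orderOf α₀), p, (orderOf α₀).factorization p, hp, fun e => ?_, ?_, ?_⟩
    · exact hodd.not_two_dvd_nat (e ▸ hpN)
    · rw [← pow_mul, mul_comm, Nat.ordProj_mul_ordCompl_eq_self, pow_orderOf_eq_one]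
    · intro hall
      exact Nat.not_dvd_ordCompl hp (orderOf_pos α₀).ne' ((Nat.minFac_dvd k).trans (hdiv _ hall))
  set α := α₀ ^ m with hα
  haveI : Fact p.Prime := ⟨hp⟩
  choose π hπ using hiter m
  -- `π` is a permutation of order a power of `p`
  have hπiter : ∀ (i : ℕ) (e : E) (d : Ω), d ∈ L e → (α ^ i) • d ∈ L (π^[i] e) := by
    intro i
    induction i with
    | zero => exact fun e d hd => by rwa [pow_zero, one_smul]
    | succ i ih =>
      intro e d hd
      rw [pow_succ, mul_smul, Function.iterate_succ_apply]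
      exact ih _ _ (hπ e d hd)
  have hπid : ∀ e : E, π^[p ^ j] e = e := fun e => by
    obtain ⟨d, hd⟩ := (hLne e).1
    have := hπiter (p ^ j) e d hd
    rw [hpow, one_smul] at this
    exact hLdisj this hd
  have hppos : 0 < p ^ j := pow_pos hp.pos j
  let σ : Equiv.Perm E :=
    ⟨π, π^[p ^ j - 1], fun e => by
      rw [← Function.iterate_succ_apply, show (p ^ j - 1).succ = p ^ j by omega, hπid],
      fun e => by
      rw [← Function.iterate_succ_apply' π, show (p ^ j - 1).succ = p ^ j by omega, hπid]⟩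
  have hσ : σ ^ p ^ j = 1 := Equiv.ext fun e => by
    rw [Equiv.Perm.coe_pow]; exact hπid e
  haveI : Fintype E := Fintype.ofFinite E
  obtain ⟨n, hn⟩ := IsPGroup.iff_card.mp (S.line.isPGroup.to_le S.line.E_le)
  have hpE : ¬ p ∣ Fintype.card E := by
    rw [← Nat.card_eq_fintype_card, hn]
    exact fun hd => hp2 ((Nat.prime_dvd_prime_iff_eq hp Nat.prime_two).mp (hp.dvd_of_dvd_pow hd))
  obtain ⟨e₀, he₀⟩ := Equiv.Perm.exists_fixed_point_of_prime hpE hσ
  have he₀' : π e₀ = e₀ := he₀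
  -- a fixed point on the fixed line
  haveI : Finite (L e₀) := Finite.of_injective Subtype.val Subtype.val_injective
  haveI : Fintype (L e₀) := Fintype.ofFinite _
  have hmap : ∀ d : L e₀, α • (d : Ω) ∈ L e₀ := fun d => by
    have := hπ e₀ d d.2
    rwa [he₀'] at this
  let τ : Equiv.Perm (L e₀) := Equiv.ofBijective (fun d => ⟨α • (d : Ω), hmap d⟩)
    (Finite.injective_iff_bijective.mp fun d d' e =>
      Subtype.ext (MulAction.injective α (congrArg Subtype.val e)))
  have hτ : τ ^ p ^ j = 1 := Equiv.ext fun d => Subtype.ext (by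
    have : ∀ i : ℕ, (((τ ^ i) d : L e₀) : Ω) = (α ^ i) • (d : Ω) := fun i => by
      induction i with
      | zero => rw [pow_zero, pow_zero, one_smul]; rfl
      | succ i ih =>
        rw [pow_succ', pow_succ', Equiv.Perm.mul_apply, mul_smul, ← ih]; rfl
    rw [this, hpow, one_smul]; rfl)
  obtain ⟨i, hi⟩ := (hLne e₀).2
  have hpL : ¬ p ∣ Fintype.card (L e₀) := by
    rw [← Nat.card_eq_fintype_card, hi]
    exact fun hd => hp2 ((Nat.prime_dvd_prime_iff_eq hp Nat.prime_two).mp (hp.dvd_of_dvd_pow hd))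
  obtain ⟨d, hd⟩ := Equiv.Perm.exists_fixed_point_of_prime hpL hτ
  have hαd : α • (d : Ω) = d := congrArg Subtype.val hd
  refine S.not_fixed_moved hc (pow_mem hα₀ m) hαne hαd fun hud => ?_
  -- `u` moves the points of the lines of `t`
  have hd2 := d.2.2
  have hdx := d.2.1.1
  have h1 : (t * a * (e₀ : G)) • (d : Ω) = d := by
    have h2 := H73.Bender.conj_smul_of_smul (g := u) hd2
    rw [hud] at h2
    have hui := inv_eq_of_orderOf_eq_two S.quad.bu.1
    have htt' := mul_self_of_orderOf_eq_two ht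
    have hte : u * t * u⁻¹ = t * a :=
      calc u * t * u⁻¹ = u * (t * u * t⁻¹) * t := by rw [hui]; group
        _ = a * t := by
          rw [htu, ← mul_assoc u u a, mul_self_of_orderOf_eq_two S.quad.bu.1, one_mul]
        _ = t * a := (htT.1 a ha).symm.eq
    have heu : u * (e₀ : G) * u⁻¹ = e₀ :=
      conj_eq_of_commute (S.fixing_commute_E hc (mem_fixing_iff.mpr fun p hp => hp) e₀.2)
    rwa [show u * (t * (e₀ : G)) * u⁻¹ = (u * t * u⁻¹) * (u * (e₀ : G) * u⁻¹) by group, hte, heu]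
      at h2
  have hd2' := hd2
  rw [mul_assoc, mul_smul, mul_smul] at h1
  rw [mul_smul] at hd2'
  exact ha1 (S.E_fixed hc ha (fun e => hdx (MulAction.injective (e₀ : G)
    (e.trans (S.E_smul e₀.2).symm))) (MulAction.injective t (h1.trans hd2'.symm)))

end NPLine

end Cfsg.Agent.H30.Asch
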