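import Cfsg.Agent.H30.Asch.NoneProperTranslation

/-!
No element proper: the fixed points of the auxiliary element of the torus.  There are `q ^ 3` of
them besides `x`, so some orbit of a Sylow 2-subgroup of the translations is short, and its
stabiliser is a four group of translations.
-/

set_option autoImplicit false
set_option linter.style.haveILetI false

namespace Cfsg.Agent.H30.Asch

open Subgroup MulAction
open Cfsg.Agent.H14.Asch
open Cfsg.Agent.H39
open Cfsg.Agent.H73.Bender (SE points)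
open Cfsg.Agent.H73.Asch (RankTwoBad Line2 HasLines2)
open scoped Pointwise

universe u v

variable {G : Type u} [Group G] [Finite G] {Ω : Type v} [MulAction G Ω] [Finite Ω] {D : Set G}

/-- The points other than `x` fixed by `a₀`. -/
def auxPts (Ω : Type v) [MulAction G Ω] (x : Ω) (a₀ : G) : Set Ω := {c | c ≠ x ∧ a₀ • c = c}

/-- The points of the lines at `x` perpendicular to that of `u`, fixed by `a₀`. -/
def perpPts (u : G) (x : Ω) (E : Subgroup G) (a₀ : G) : Set Ω :=
  {c | c ∈ auxPts Ω x a₀ ∧ ∃ e ∈ E, (u * e) • c = c}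

namespace NPLine

variable {u v : G} {x y : Ω} {E Q A : Subgroup G} {a₀ : G} (S : NPLine D u v x y E Q A a₀)
  (hc : NPCtx G Ω D)
include S hc

omit hc in
theorem E_smul {e : G} (he : e ∈ E) : e • x = x := by
  by_cases he1 : e = 1
  · rw [he1, one_smul]
  · exact (line2_member S.line he he1).2.2

theorem E_fixed {e : G} (he : e ∈ E) {c : Ω} (hcx : c ≠ x) (hec : e • c = c) : e = 1 := by
  by_contra he1
  exact hcx (hc.crit.eq_of_fixed (line2_member S.line he he1).1 hec (S.E_smul he))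

theorem E_le_trans : E ≤ transGroup u v E a₀ := fun e he => by
  refine ⟨fun e' he' => S.line.central e he e' (S.line.E_le he'), (S.central e he).symm,
    ⟨1, one_mem E, ?_⟩, 1, one_mem E, ?_⟩
  · rw [mul_one]
    by_cases he1 : e = 1
    · simp [he1]
    · exact conj_eq_of_commute (line2_member S.line he he1).2.1
  · rw [mul_one]
    exact conj_eq_of_commute (S.fixing_commute_E hc (S.v_fixing hc) he).symm

theorem trans_smul {h : G} (hh : h ∈ transGroup u v E a₀) : h • x = x := by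
  obtain ⟨e, he, he1, -⟩ := line2_exists_ne S.line (a := 1)
  exact hc.crit.fix_of_commute (line2_member S.line he he1).1 (hh.1 e he) (S.E_smul he)

theorem trans_mapsTo {h : G} (hh : h ∈ transGroup u v E a₀) {c : Ω} (hcY : c ∈ auxPts Ω x a₀) :
    h • c ∈ auxPts Ω x a₀ :=
  ⟨fun e => hcY.1 (MulAction.injective h (e.trans (S.trans_smul hc hh).symm)),
    smul_fixed_of_commute hh.2.1 hcY.2⟩

theorem trans_mapsTo_perp {h : G} (hh : h ∈ transGroup u v E a₀) {c : Ω}
    (hcZ : c ∈ perpPts u x E a₀) : h • c ∈ perpPts u x E a₀ := by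
  obtain ⟨a, ha, hua⟩ := hh.2.2.1
  obtain ⟨e, he, hec⟩ := hcZ.2
  refine ⟨S.trans_mapsTo hc hh hcZ.1, a * e, mul_mem ha he, ?_⟩
  have h1 := H73.Bender.conj_smul_of_smul (g := h) hec
  rwa [show h * (u * e) * h⁻¹ = (h * u * h⁻¹) * (h * e * h⁻¹) by group, hua,
    conj_eq_of_commute (hh.1 e he), mul_assoc] at h1

/-- The fixed points of `u` fixed by `a₀` other than `x` are one orbit of `E`. -/
theorem exists_smul_eq_of_fixed {g : Ω} (hug : u • g = g) (hgx : g ≠ x) (hag : a₀ • g = g) :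
    ∃ e ∈ E, e • y = g := by
  obtain ⟨r, hr, hry⟩ := S.line.trans y g S.quad.hy.1 hug S.quad.ne.symm hgx
  refine ⟨r, S.fix r hr ?_, hry⟩
  have h1 : r⁻¹ * (a₀ * r * a₀⁻¹) ∈ Q :=
    mul_mem (inv_mem hr) ((Subgroup.mem_normalizer_iff.mp (S.A_norm S.mem) r).mp hr)
  have h2 : (r⁻¹ * (a₀ * r * a₀⁻¹)) • y = y := by
    rw [mul_smul, mul_smul, mul_smul, inv_smul_eq_iff.mpr (S.A_smul S.mem).2.symm, hry, hag, ← hry,
      inv_smul_smul]
  have := S.line.free _ h1 y S.quad.hy.1 S.quad.ne.symm h2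
  rw [inv_mul_eq_one] at this
  exact mul_inv_eq_iff_eq_mul.mp this.symm

/-- An element of `C(a₀)` in the line of `u` carrying `x` to a given fixed point. -/
theorem exists_carrier (hN : LineNormal Ω D) {g : Ω} (hug : u • g = g) (hag : a₀ • g = g) :
    ∃ l, l ∈ lineGroup D u ∧ Commute l a₀ ∧ l • x = g := by
  have h := hc.crit
  have hq := S.quad
  -- a member at `y` commuting with `u` and `a₀`
  obtain ⟨Ec, Qc, hlc⟩ := hc.lines u y hq.bu hq.hy.1
  have hqc : Quad Ω D u v y x := ⟨hq.bu, hq.bv, hq.bw, hq.comm, hq.ne.symm, hq.hy, hq.hx⟩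
  have ha0u := S.A_commute S.mem
  obtain ⟨ha0x, ha0y⟩ := S.A_smul S.mem
  have hQc := hN u v y x Ec Qc hqc hlc a₀ ha0u ha0y
  obtain ⟨e, he, he1, -⟩ := line2_exists_ne S.line (a := 1)
  have heD := line2_member S.line he he1
  have huey : u • e • y = e • y := smul_fixed_of_commute heD.2.1 hq.hy.1
  have hey : e • y ≠ y := fun e' => hq.ne.symm (h.eq_of_fixed heD.1 e' heD.2.2)
  obtain ⟨r, hr, hrx⟩ := hlc.trans x (e • y) hq.hx.1 huey hq.ne hey
  have hra : Commute r a₀ := by
    have h1 : r⁻¹ * (a₀ * r * a₀⁻¹) ∈ Qc := mul_mem (inv_mem hr) (hQc r hr)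
    have h2 : (r⁻¹ * (a₀ * r * a₀⁻¹)) • x = x := by
      rw [mul_smul, mul_smul, mul_smul, inv_smul_eq_iff.mpr ha0x.symm, hrx, ← mul_smul a₀ e,
        (S.central e he).eq, mul_smul, ha0y, ← hrx, inv_smul_smul]
    have := hlc.free _ h1 x hq.hx.1 hq.ne h2
    rw [inv_mul_eq_one] at this
    exact (mul_inv_eq_iff_eq_mul.mp this.symm).symm
  have hr1 : r ≠ 1 := fun e1 => hq.ne (by
    have : x = e • y := by rw [← hrx, e1, one_smul]
    exact MulAction.injective e (heD.2.2.trans this))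
  obtain ⟨d, hdQ, hd2, hda⟩ : ∃ d ∈ Qc, orderOf d = 2 ∧ Commute d a₀ := by
    by_cases hrr : r * r = 1
    · exact ⟨r, hr, orderOf_eq_two_of_mul_self hrr hr1, hra⟩
    · exact ⟨r * r, mul_mem hr hr, orderOf_eq_two_of_mul_self
        (line2_mul_self hlc h (hlc.sq_mem r hr)) hrr, hra.mul_left hra⟩
  set L := lineGroup D u ⊓ centralizer ({a₀} : Set G) with hLdef
  have hSL : SE (lineGroup D u) (fixedBy Ω u) := h.line hq.bu.1 hq.ne hq.hx.1 hq.hy.1
  have heL : e ∈ L := ⟨mem_lineGroup heD.1 heD.2.1,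
    mem_centralizer_singleton_iff.mpr (S.central e he).symm.eq⟩
  have hdL : d ∈ L := ⟨(hlc.Q_le hdQ).1, mem_centralizer_singleton_iff.mpr hda.eq⟩
  have hxp : x ∈ points L (fixedBy Ω u) := ⟨hq.hx.1, e, heL, h.inv heD.1, heD.2.2⟩
  have hyp : y ∈ points L (fixedBy Ω u) :=
    ⟨hq.hy.1, d, hdL, hd2, mem_stabilizer_iff.mp (hlc.Q_le hdQ).2⟩
  have hgp : g ∈ points L (fixedBy Ω u) := by
    by_cases hgx : g = x
    · exact hgx ▸ hxp
    · obtain ⟨f, hf, rfl⟩ := S.exists_smul_eq_of_fixed hc hug hgx hag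
      by_cases hf1 : f = 1
      · rw [hf1, one_smul]; exact hyp
      · have hfL : f ∈ L := ⟨mem_lineGroup (line2_member S.line hf hf1).1
          (line2_member S.line hf hf1).2.1,
          mem_centralizer_singleton_iff.mpr (S.central f hf).symm.eq⟩
        exact H73.Bender.smul_mem_points hSL inf_le_left hfL.1 (Subgroup.le_normalizer hfL) hyp
  obtain ⟨l, hl, hlx⟩ := (hSL.line inf_le_left hxp hyp hq.ne).trans hxp hgp
  exact ⟨l, hl.1, mem_centralizer_singleton_iff.mp hl.2, hlx⟩

/-- The middle of a moved fixed point of `a₀`. -/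
theorem exists_middle_fixed {c : Ω} (hcY : c ∈ auxPts Ω x a₀) (hu : u • c ≠ c) :
    ∃ (b : G) (g : Ω), b ∈ commMembers D u ∧ b • g = g ∧ u • g = g ∧ a₀ • g = g ∧
      (u * b) • c = c := by
  have h := hc.crit
  obtain ⟨b, b', g, hcov⟩ := hc.exists_cover_self S.quad hu
  have hb : b ∈ commMembers D u := ⟨hcov.mem_a.1, hcov.mem_a.2.1⟩
  have ha0u := S.A_commute S.mem
  have hb' : a₀ * b * a₀⁻¹ ∈ commMembers D u := by
    refine ⟨h.conj_mem hb.1 a₀, ?_⟩
    have := commute_conj hb.2 a₀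
    rwa [conj_eq_of_commute ha0u] at this
  have hc' : (u * (a₀ * b * a₀⁻¹)) • c = c := by
    have := H73.Bender.conj_smul_of_smul (g := a₀) hcov.fix_c
    rwa [hcY.2, show a₀ * (u * b) * a₀⁻¹ = (a₀ * u * a₀⁻¹) * (a₀ * b * a₀⁻¹) by group,
      conj_eq_of_commute ha0u] at this
  have hfix := hc.middle_unique S.quad hu hb' hb hc' hcov.fix_c
  refine ⟨b, g, hb, hcov.smul_a, h.fix_of_commute hb.1 hb.2.symm hcov.smul_a, ?_, hcov.fix_c⟩
  exact h.fix_of_commute hb.1 (commute_of_conj_eq hfix) hcov.smul_a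

/-- A fixed point of `u * a` fixed by `a₀` is the image of one of `y`. -/
theorem eq_translate {a : G} (ha : a ∈ E) {h : G} (hh : h ∈ transGroup u v E a₀)
    (hhu : h * u * h⁻¹ = u * a) {c : Ω} (hcY : c ∈ auxPts Ω x a₀) (hac : (u * a) • c = c) :
    ∃ f ∈ E, h • f • y = c := by
  have h1 := S.trans_mapsTo hc ((transGroup u v E a₀).inv_mem hh) hcY
  have h2 : u • h⁻¹ • c = h⁻¹ • c := by
    rw [← hhu, mul_smul, mul_smul] at hac
    exact eq_inv_smul_iff.mpr hac
  obtain ⟨f, hf, hfy⟩ := S.exists_smul_eq_of_fixed hc h2 h1.1 h1.2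
  exact ⟨f, hf, by rw [hfy, smul_inv_smul]⟩

theorem smul_y_mem {f : G} (hf : f ∈ E) : f • y ∈ auxPts Ω x a₀ ∧ u • f • y = f • y := by
  refine ⟨S.trans_mapsTo hc (S.E_le_trans hc hf) ⟨S.quad.ne.symm, (S.A_smul S.mem).2⟩, ?_⟩
  refine smul_fixed_of_commute ?_ S.quad.hy.1
  by_cases hf1 : f = 1
  · rw [hf1]; exact Commute.one_left u
  · exact (line2_member S.line hf hf1).2.1

/-- There are `q ^ 2` perpendicular points and `q ^ 3` points altogether. -/
theorem card_pts (hN : LineNormal Ω D) (hF : LineFixed Ω D) :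
    Nat.card (perpPts u x E a₀) = Nat.card E * Nat.card E ∧
      Nat.card (auxPts Ω x a₀) = Nat.card E * Nat.card E * Nat.card E := by
  classical
  have h := hc.crit
  choose τ hτ hτu using fun a : E => S.exists_translation hc hN hF a.2
  have hEfree : ∀ {f f' : G}, f ∈ E → f' ∈ E → f • y = f' • y → f = f' := fun hf hf' e => by
    have := S.E_fixed hc (mul_mem (inv_mem hf') hf) S.quad.ne.symm
      (by rw [mul_smul, e, inv_smul_smul])
    exact (inv_mul_eq_one.mp this).symm
  have hfix : ∀ (a : E) {f : G}, f ∈ E → (u * (a : G)) • τ a • f • y = τ a • f • y := fun a f hf => by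
    rw [← hτu a]
    exact H73.Bender.conj_smul_of_smul (S.smul_y_mem hc hf).2
  have hY : ∀ (a : E) {f : G}, f ∈ E → τ a • f • y ∈ auxPts Ω x a₀ := fun a f hf =>
    S.trans_mapsTo hc (hτ a) (S.smul_y_mem hc hf).1
  have hmoved : ∀ (a : E) {f : G}, f ∈ E → (a : G) ≠ 1 → u • τ a • f • y ≠ τ a • f • y := by
    intro a f hf ha1 e
    refine ha1 (S.E_fixed hc a.2 (hY a hf).1 ?_)
    have := hfix a hf
    rw [mul_smul] at this
    exact MulAction.injective u (this.trans e.symm)
  have hinj : ∀ {a a' : E} {f f' : G}, f ∈ E → f' ∈ E → τ a • f • y = τ a' • f' • y →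
      a = a' ∧ f = f' := by
    intro a a' f f' hf hf' e
    have haa : a = a' := by
      have h1 := hfix a hf
      have h2 := hfix a' hf'
      rw [← e, mul_smul] at h2
      rw [mul_smul] at h1
      have h3 := S.E_fixed hc (mul_mem (inv_mem a'.2) a.2) (hY a hf).1
        (by rw [mul_smul, MulAction.injective u (h1.trans h2.symm), inv_smul_smul])
      exact Subtype.ext (inv_mul_eq_one.mp h3).symm
    subst haa
    exact ⟨rfl, hEfree hf hf' (MulAction.injective (τ a) e)⟩
  let φ : E × E → perpPts u x E a₀ := fun p =>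
    ⟨τ p.1 • (p.2 : G) • y, hY p.1 p.2.2, p.1, p.1.2, hfix p.1 p.2.2⟩
  have hφ : Function.Bijective φ := by
    constructor
    · rintro ⟨a, f⟩ ⟨a', f'⟩ e
      obtain ⟨h1, h2⟩ := hinj f.2 f'.2 (congrArg Subtype.val e)
      exact Prod.ext h1 (Subtype.ext h2)
    · rintro ⟨c, hcY, e, he, hec⟩
      obtain ⟨f, hf, hfc⟩ := S.eq_translate hc he (hτ ⟨e, he⟩) (hτu ⟨e, he⟩) hcY hec
      exact ⟨(⟨e, he⟩, ⟨f, hf⟩), Subtype.ext hfc⟩
  refine ⟨by rw [← Nat.card_congr (Equiv.ofBijective φ hφ), Nat.card_prod], ?_⟩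
  -- the fixed points of `a₀` among those of `u`
  set F₁ : Set Ω := {g | u • g = g ∧ a₀ • g = g} with hF₁
  choose l hl hla hlx using fun g : F₁ => S.exists_carrier hc hN g.2.1 g.2.2
  have hF₁card : Nat.card F₁ = Nat.card E + 1 := by
    let ι : Option E → F₁ := fun o => match o with
      | none => ⟨x, S.quad.hx.1, (S.A_smul S.mem).1⟩
      | some f => ⟨(f : G) • y, (S.smul_y_mem hc f.2).2, (S.smul_y_mem hc f.2).1.2⟩
    have hι : Function.Bijective ι := by
      constructor
      · rintro (_ | f) (_ | f') e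
        · rfl
        · exact absurd (congrArg Subtype.val e).symm (S.smul_y_mem hc f'.2).1.1
        · exact absurd (congrArg Subtype.val e) (S.smul_y_mem hc f.2).1.1
        · exact congrArg some (Subtype.ext (hEfree f.2 f'.2 (congrArg Subtype.val e)))
      · rintro ⟨g, hug, hag⟩
        by_cases hgx : g = x
        · exact ⟨none, Subtype.ext hgx.symm⟩
        · obtain ⟨f, hf, hfy⟩ := S.exists_smul_eq_of_fixed hc hug hgx hag
          exact ⟨some ⟨f, hf⟩, Subtype.ext hfy⟩
    rw [← Nat.card_congr (Equiv.ofBijective ι hι), Finite.card_option]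
  have hcard1 : Nat.card {a : E // (a : G) ≠ 1} + 1 = Nat.card E := by
    let ι : Option {a : E // (a : G) ≠ 1} → E := fun o => o.elim 1 (·.1)
    have hι : Function.Bijective ι := by
      constructor
      · rintro (_ | a) (_ | a') e
        · rfl
        · exact absurd (congrArg Subtype.val e).symm a'.2
        · exact absurd (congrArg Subtype.val e) a.2
        · exact congrArg some (Subtype.ext e)
      · intro a
        by_cases ha : (a : G) = 1
        · exact ⟨none, Subtype.ext ha.symm⟩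
        · exact ⟨some ⟨a, ha⟩, rfl⟩
    rw [← Nat.card_congr (Equiv.ofBijective ι hι), Finite.card_option]
  have hlu : ∀ g : F₁, Commute (l g) u := fun g => commute_of_mem_lineGroup (hl g)
  have hlY : ∀ (g : F₁) {c : Ω}, a₀ • c = c → u • c ≠ c → l g • c ∈ auxPts Ω x a₀ := fun g c hac huc =>
    ⟨fun e => huc (by
      have h1 : u • c = c := MulAction.injective (l g) (by
        show l g • u • c = l g • c
        rw [← mul_smul, (hlu g).eq, mul_smul, e, S.quad.hx.1])
      exact h1), smul_fixed_of_commute (hla g) hac⟩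
  let ψ : E ⊕ (F₁ × {a : E // (a : G) ≠ 1} × E) → auxPts Ω x a₀ := fun s => match s with
    | Sum.inl f => ⟨(f : G) • y, (S.smul_y_mem hc f.2).1⟩
    | Sum.inr (g, a, f) => ⟨l g • τ a.1 • (f : G) • y,
        hlY g (hY a.1 f.2).2 (hmoved a.1 f.2 a.2)⟩
  have humoved : ∀ (g : F₁) (a : {a : E // (a : G) ≠ 1}) (f : E),
      u • l g • τ a.1 • (f : G) • y ≠ l g • τ a.1 • (f : G) • y := fun g a f e =>
    hmoved a.1 f.2 a.2 (MulAction.injective (l g) (by
      show l g • u • _ = l g • _
      rw [← mul_smul, (hlu g).eq, mul_smul, e]))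
  have hψ : Function.Bijective ψ := by
    constructor
    · rintro (f | ⟨g, a, f⟩) (f' | ⟨g', a', f'⟩) e
      · exact congrArg Sum.inl (Subtype.ext (hEfree f.2 f'.2 (congrArg Subtype.val e)))
      · refine absurd ?_ (humoved g' a' f')
        rw [← show (f : G) • y = l g' • τ a'.1 • (f' : G) • y from congrArg Subtype.val e]
        exact (S.smul_y_mem hc f.2).2
      · refine absurd ?_ (humoved g a f)
        rw [show l g • τ a.1 • (f : G) • y = (f' : G) • y from congrArg Subtype.val e]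
        exact (S.smul_y_mem hc f'.2).2
      · have e' : l g • τ a.1 • (f : G) • y = l g' • τ a'.1 • (f' : G) • y :=
          congrArg Subtype.val e
        have hm : ∀ (g : F₁) (a : {a : E // (a : G) ≠ 1}) (f : E),
            l g * a.1 * (l g)⁻¹ ∈ commMembers D u ∧ (l g * a.1 * (l g)⁻¹) • (g : Ω) = g ∧
              (u * (l g * a.1 * (l g)⁻¹)) • l g • τ a.1 • (f : G) • y =
                l g • τ a.1 • (f : G) • y := by
          intro g a f
          have ham := line2_member S.line a.1.2 a.2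
          refine ⟨⟨h.conj_mem ham.1 _, ?_⟩, ?_, ?_⟩
          · have := commute_conj ham.2.1 (l g)
            rwa [conj_eq_of_commute (hlu g)] at this
          · rw [← hlx g]; exact H73.Bender.conj_smul_of_smul ham.2.2
          · have h1 := H73.Bender.conj_smul_of_smul (g := l g) (hfix a.1 f.2)
            rwa [show l g * (u * (a.1 : G)) * (l g)⁻¹ =
              (l g * u * (l g)⁻¹) * (l g * a.1 * (l g)⁻¹) by group,
              conj_eq_of_commute (hlu g)] at h1
        obtain ⟨m1, m2, m3⟩ := hm g a f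
        obtain ⟨n1, n2, n3⟩ := hm g' a' f'
        rw [← e'] at n3
        have hmid := hc.middle_unique S.quad (humoved g a f) m1 n1 m3 n3
        obtain rfl : g = g' := Subtype.ext (h.eq_of_fixed n1.1 (hmid ▸ m2) n2)
        obtain ⟨h1, h2⟩ := hinj f.2 f'.2 (MulAction.injective (l g) e')
        rw [Subtype.ext h1, Subtype.ext h2]
    · rintro ⟨c, hcY⟩
      by_cases hu : u • c = c
      · obtain ⟨f, hf, hfy⟩ := S.exists_smul_eq_of_fixed hc hu hcY.1 hcY.2
        exact ⟨Sum.inl ⟨f, hf⟩, Subtype.ext hfy⟩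
      · obtain ⟨b, g, hb, hbg, hug, hag, hbc⟩ := S.exists_middle_fixed hc hcY hu
        set g₁ : F₁ := ⟨g, hug, hag⟩
        set a := (l g₁)⁻¹ * b * (l g₁)⁻¹⁻¹ with hadef
        have hlix : (l g₁)⁻¹ • g = x := inv_smul_eq_iff.mpr (hlx g₁).symm
        have ha : a ∈ E := (S.mem_E hc).mpr (Or.inr ⟨h.conj_mem hb.1 _, by
          rw [← hlix]; exact H73.Bender.conj_smul_of_smul hbg⟩)
        have ha1 : a ≠ 1 := fun e => ne_one_of_orderOf_eq_two (h.inv hb.1) (conj_eq_one_iff.mp e)
        have huc : u • (l g₁)⁻¹ • c ≠ (l g₁)⁻¹ • c := fun e => hu (by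
          have := smul_fixed_of_commute (hlu g₁) e
          rwa [smul_inv_smul] at this)
        have hcx : (l g₁)⁻¹ • c ≠ x := fun e => huc (by rw [e]; exact S.quad.hx.1)
        have hac : (u * a) • (l g₁)⁻¹ • c = (l g₁)⁻¹ • c := by
          have h1 := H73.Bender.conj_smul_of_smul (g := (l g₁)⁻¹) hbc
          rwa [show (l g₁)⁻¹ * (u * b) * (l g₁)⁻¹⁻¹ =
            ((l g₁)⁻¹ * u * (l g₁)⁻¹⁻¹) * a by rw [hadef]; group,
            conj_eq_of_commute (hlu g₁).inv_left] at h1
        obtain ⟨f, hf, hfc⟩ := S.eq_translate hc ha (hτ ⟨a, ha⟩) (hτu ⟨a, ha⟩)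
          ⟨hcx, smul_fixed_of_commute (hla g₁).inv_left hcY.2⟩ hac
        refine ⟨Sum.inr (g₁, ⟨⟨a, ha⟩, ha1⟩, ⟨f, hf⟩), Subtype.ext ?_⟩
        show l g₁ • τ ⟨a, ha⟩ • f • y = c
        rw [hfc, smul_inv_smul]
  rw [← Nat.card_congr (Equiv.ofBijective ψ hψ), Nat.card_sum, Nat.card_prod, Nat.card_prod, hF₁card]
  obtain ⟨m, hm⟩ : ∃ m, Nat.card E = m + 1 := ⟨_, hcard1.symm⟩
  rw [show Nat.card {a : E // (a : G) ≠ 1} = m by omega, hm]
  ring

/-- A translation of a fixed four group: two translations with a common point. -/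
theorem exists_four_translations (hN : LineNormal Ω D) (hF : LineFixed Ω D) :
    ∃ (t t₁ : G) (c : Ω) (a a₁ : G), t ∈ transGroup u v E a₀ ∧ t₁ ∈ transGroup u v E a₀ ∧
      orderOf t = 2 ∧ orderOf t₁ = 2 ∧ Commute t t₁ ∧ c ∈ auxPts Ω x a₀ ∧ t • c = c ∧ t₁ • c = c ∧
      a ∈ E ∧ a₁ ∈ E ∧ a ≠ 1 ∧ a₁ ≠ 1 ∧ a ≠ a₁ ∧ t * u * t⁻¹ = u * a ∧ t₁ * u * t₁⁻¹ = u * a₁ := by
  classical
  haveI : Fact (Nat.Prime 2) := ⟨Nat.prime_two⟩
  have h := hc.crit
  set T := transGroup u v E a₀ with hT
  obtain ⟨hZ, hY⟩ := S.card_pts hc hN hF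
  set q := Nat.card E
  have hEp : IsPGroup 2 E := S.line.isPGroup.to_le S.line.E_le
  obtain ⟨n, hn⟩ := IsPGroup.iff_card.mp hEp
  -- `T` is transitive on the perpendicular points, and `u`, `v` fix `y`
  have hy : y ∈ perpPts u x E a₀ :=
    ⟨⟨S.quad.ne.symm, (S.A_smul S.mem).2⟩, 1, one_mem E, by rw [mul_one]; exact S.quad.hy.1⟩
  have horb : MulAction.orbit T y = perpPts u x E a₀ := by
    ext c
    constructor
    · rintro ⟨g, rfl⟩
      exact S.trans_mapsTo_perp hc g.2 hy
    · rintro ⟨hcY, e, he, hec⟩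
      obtain ⟨g, hg, hgu⟩ := S.exists_translation hc hN hF he
      obtain ⟨f, hf, hfc⟩ := S.eq_translate hc he hg hgu hcY hec
      exact ⟨⟨g * f, T.mul_mem hg (S.E_le_trans hc hf)⟩, by
        show (g * f) • y = c
        rw [mul_smul, hfc]⟩
  have hvu : ∀ {s : G}, s = u ∨ s = v → s ∈ T ∧ s • y = y := by
    intro s hs
    have hsE : ∀ e ∈ E, Commute s e := fun e he => by
      rcases hs with rfl | rfl
      · exact S.fixing_commute_E hc (mem_fixing_iff.mpr fun p hp => hp) he
      · exact S.fixing_commute_E hc (S.v_fixing hc) he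
    have hsa : Commute s a₀ := by
      rcases hs with rfl | rfl
      · exact (S.A_commute S.mem).symm
      · exact (S.A_commute_fixing hc S.mem (S.v_fixing hc)).symm
    refine ⟨⟨hsE, hsa, ⟨1, one_mem E, ?_⟩, 1, one_mem E, ?_⟩, ?_⟩
    · rw [mul_one]
      rcases hs with rfl | rfl
      · simp
      · exact conj_eq_of_commute S.quad.comm.symm
    · rw [mul_one]
      rcases hs with rfl | rfl
      · exact conj_eq_of_commute S.quad.comm
      · simp
    · rcases hs with rfl | rfl
      exacts [S.quad.hy.1, S.quad.hy.2]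
  set V := closure ({u, v} : Set G) with hV
  have hV4 : 4 ∣ Nat.card V := by
    obtain ⟨m, hm⟩ := IsPGroup.iff_card.mp (isPGroup_closure_pair
      (mul_self_of_orderOf_eq_two S.quad.bu.1) (mul_self_of_orderOf_eq_two S.quad.bv.1) S.quad.comm)
    rw [hm]
    refine (show (4 : ℕ) = 2 ^ 2 by norm_num) ▸ pow_dvd_pow 2 ?_
    by_contra hm2
    have h3 : 3 ≤ Nat.card V := by
      have hs : (({1, u, v} : Set G)).ncard = 3 := by
        rw [Set.ncard_eq_three]
        exact ⟨1, u, v, (ne_one_of_orderOf_eq_two S.quad.bu.1).symm,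
          (ne_one_of_orderOf_eq_two S.quad.bv.1).symm, fun e => by
            have h1 := S.quad.bw.1
            rw [e, mul_self_of_orderOf_eq_two S.quad.bv.1, orderOf_one] at h1
            omega, rfl⟩
      rw [← hs]
      show _ ≤ Nat.card (V : Set G)
      rw [Nat.card_coe_set_eq]
      refine Set.ncard_le_ncard ?_ (Set.toFinite _)
      rintro _ (rfl | rfl | rfl)
      exacts [one_mem V, subset_closure (by simp), subset_closure (by simp)]
    rw [hm] at h3
    have := Nat.pow_le_pow_right (show 1 ≤ 2 by norm_num) (show m ≤ 1 by omega)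
    omega
  have hVT : V.subgroupOf T ≤ stabilizer T y := by
    intro g hg
    have hVle : V ≤ stabilizer G y := (closure_le _).mpr (by
      rintro s (rfl | rfl)
      exacts [mem_stabilizer_iff.mpr S.quad.hy.1, mem_stabilizer_iff.mpr S.quad.hy.2])
    exact hVle hg
  have hTdvd : 4 * (q * q) ∣ Nat.card T := by
    have h1 : Nat.card (MulAction.orbit T y) = q * q := by rw [horb, hZ]
    rw [Nat.card_congr (MulAction.orbitEquivQuotientStabilizer T y)] at h1
    rw [← Subgroup.index_mul_card (stabilizer T y),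
      show (stabilizer T y).index = q * q from h1, mul_comm]
    refine Nat.mul_dvd_mul_left _ (hV4.trans ?_)
    rw [← Nat.card_congr (Subgroup.subgroupOfEquivOfLe (show V ≤ T from (closure_le _).mpr (by
      rintro s (rfl | rfl)
      exacts [(hvu (Or.inl rfl)).1, (hvu (Or.inr rfl)).1]))).toEquiv]
    exact Subgroup.card_dvd_of_le hVT
  obtain ⟨P⟩ : Nonempty (Sylow 2 T) := inferInstance
  have hPdvd : 4 * (q * q) ∣ Nat.card P := by
    have h4 : 4 * (q * q) = 2 ^ (2 + (n + n)) := by rw [show q = 2 ^ n from hn]; ring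
    rw [P.card_eq_multiplicity, h4]
    exact pow_dvd_pow 2 ((Nat.prime_two.pow_dvd_iff_le_factorization Nat.card_pos.ne').mp
      (h4 ▸ hTdvd))
  -- a short orbit
  set W : Set Ω := auxPts Ω x a₀ \ perpPts u x E a₀ with hW
  letI : MulAction P W :=
    { smul := fun g c => ⟨((g : T) : G) • (c : Ω), S.trans_mapsTo hc (g : T).2 c.2.1, fun hcon =>
        c.2.2 (by
          have := S.trans_mapsTo_perp hc (T.inv_mem (g : T).2) hcon
          rwa [inv_smul_smul] at this)⟩
      one_smul := fun c => Subtype.ext (one_smul G (c : Ω))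
      mul_smul := fun g g' c => Subtype.ext (mul_smul ((g : T) : G) ((g' : T) : G) (c : Ω)) }
  have hWcard : Nat.card W = q * q * (q - 1) := by
    have h1 : Nat.card W + Nat.card (perpPts u x E a₀) = Nat.card (auxPts Ω x a₀) := by
      rw [Nat.card_coe_set_eq, Nat.card_coe_set_eq, Nat.card_coe_set_eq]
      exact Set.ncard_sdiff_add_ncard_of_subset (fun c hc' => hc'.1) (Set.toFinite _)
    rw [hZ, hY] at h1
    rw [Nat.mul_sub_one]
    omega
  have hq4 := S.line.four_le
  obtain ⟨w, hw⟩ : ∃ w : W, 4 ≤ Nat.card (stabilizer P w) := by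
    by_contra hcon
    push Not at hcon
    have hdiv : ∀ w : W, 2 * (q * q) ∣ Nat.card (MulAction.orbit P w) := by
      intro w
      rw [Nat.card_congr (MulAction.orbitEquivQuotientStabilizer P w)]
      have h1 : (stabilizer P w).index * Nat.card (stabilizer P w) = Nat.card P :=
        Subgroup.index_mul_card _
      obtain ⟨k, hk⟩ := IsPGroup.iff_card.mp (P.isPGroup'.to_subgroup (stabilizer P w))
      obtain ⟨i, hi⟩ := P.isPGroup'.index (stabilizer P w)
      show 2 * (q * q) ∣ (stabilizer P w).index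
      have hk2 : k ≤ 1 := by
        by_contra hk2
        have := Nat.pow_le_pow_right (show 1 ≤ 2 by norm_num) (show 2 ≤ k by omega)
        have := hcon w
        omega
      rw [← h1, hk] at hPdvd
      have h2 : 4 * (q * q) ∣ (stabilizer P w).index * 2 :=
        hPdvd.trans (Nat.mul_dvd_mul_left _ (show 2 ^ k ∣ 2 from pow_dvd_pow 2 hk2))
      rw [show 4 * (q * q) = 2 * (q * q) * 2 by ring] at h2
      exact Nat.dvd_of_mul_dvd_mul_right two_pos h2
    haveI : Fintype (orbitRel.Quotient P W) := Fintype.ofFinite _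
    have hsum := Nat.card_congr (MulAction.selfEquivSigmaOrbits P W)
    rw [Nat.card_sigma] at hsum
    have h2 : 2 * (q * q) ∣ Nat.card W := by
      rw [hsum]
      exact Finset.dvd_sum fun ω _ => hdiv _
    rw [hWcard, mul_comm 2] at h2
    have h3 := Nat.dvd_of_mul_dvd_mul_left (by positivity) h2
    have hqe : 2 ∣ q := by
      rw [show q = 2 ^ n from hn]
      refine dvd_pow_self 2 fun e => ?_
      rw [e, pow_zero] at hn
      omega
    omega
  obtain ⟨c, ⟨hcY, hcZ⟩⟩ := w
  have huc : u • c ≠ c := fun e => hcZ ⟨hcY, 1, one_mem E, by rw [mul_one]; exact e⟩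
  set wW : W := ⟨c, hcY, hcZ⟩
  -- translations of `P` fixing `c` inject into `E`
  have hψ : ∀ g : stabilizer P wW, ∃ a ∈ E, ((g : P) : T).1 * u * ((g : P) : T).1⁻¹ = u * a :=
    fun g => ((g : P) : T).2.2.2.1
  have hfix : ∀ g : stabilizer P wW, ((g : P) : T).1 • c = c := fun g =>
    congrArg Subtype.val (mem_stabilizer_iff.mp g.2)
  have hker : ∀ g : stabilizer P wW, ((g : P) : T).1 * u * ((g : P) : T).1⁻¹ = u → g = 1 := by
    intro g hgu
    obtain ⟨b, p₀, hb, hbp, hup, hap, hbc⟩ := S.exists_middle_fixed hc hcY huc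
    set γ := ((g : P) : T).1 with hγ
    have hγu : Commute γ u := commute_of_conj_eq hgu
    by_contra hg1
    have hγ1 : γ ≠ 1 := fun e => hg1 (Subtype.ext (Subtype.ext (Subtype.ext e)))
    have hγb : γ * b * γ⁻¹ = b := by
      refine hc.middle_unique S.quad huc ⟨h.conj_mem hb.1 γ, ?_⟩ hb ?_ hbc
      · have := commute_conj hb.2 γ
        rwa [hgu] at this
      · have := H73.Bender.conj_smul_of_smul (g := γ) hbc
        rwa [show γ * (u * b) * γ⁻¹ = (γ * u * γ⁻¹) * (γ * b * γ⁻¹) by group, hgu, hfix g] at this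
    have hγp : γ • p₀ = p₀ := h.fix_of_commute hb.1 (commute_of_conj_eq hγb) hbp
    have hp₀x : p₀ ≠ x := fun e => hcZ ⟨hcY, b,
      (S.mem_E hc).mpr (Or.inr ⟨hb.1, e ▸ hbp⟩), hbc⟩
    obtain ⟨f, hf, hfy⟩ := S.exists_smul_eq_of_fixed hc hup hp₀x hap
    have hγy : γ • y = y := by
      have h1 := hγp
      rw [← hfy, ← mul_smul, (((g : P) : T).2.1 f hf).eq, mul_smul] at h1
      exact MulAction.injective f h1
    obtain ⟨k, hk⟩ := IsPGroup.iff_orderOf.mp P.isPGroup' (g : P)
    rw [← Subgroup.orderOf_coe, ← Subgroup.orderOf_coe, ← hγ] at hk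
    rcases k with _ | k
    · exact hγ1 (orderOf_eq_one_iff.mp (by rw [hk, pow_zero]))
    set z := γ ^ 2 ^ k with hz
    have hz2 : orderOf z = 2 := by
      rw [hz, orderOf_pow' _ (by positivity), hk,
        Nat.gcd_eq_right (Dvd.intro 2 (pow_succ 2 k).symm), pow_succ, Nat.mul_div_cancel_left _ (by positivity)]
    have hzu : Commute z u := hγu.pow_left _
    have hzfix : ∀ {p : Ω}, γ • p = p → z • p = p := fun hp =>
      mem_stabilizer_iff.mp ((stabilizer G _).pow_mem (mem_stabilizer_iff.mpr hp) _)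
    exact huc ((Set.ext_iff.mp (same_fix hc.two hc.same hz2 S.quad.bu.1 hzu S.quad.ne
      (hzfix (S.trans_smul hc ((g : P) : T).2)) (hzfix hγy) S.quad.hx.1 S.quad.hy.1) c).mp
        (hzfix (hfix g)))
  have hsq : ∀ g : stabilizer P wW, g * g = 1 := by
    intro g
    refine hker (g * g) ?_
    obtain ⟨a, ha, hga⟩ := hψ g
    set γ := ((g : P) : T).1 with hγ
    show γ * γ * u * (γ * γ)⁻¹ = u
    calc γ * γ * u * (γ * γ)⁻¹ = γ * (γ * u * γ⁻¹) * γ⁻¹ := by group
      _ = (γ * u * γ⁻¹) * (γ * a * γ⁻¹) := by conv_lhs => {rw [hga]}; group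
      _ = u := by
        rw [hga, conj_eq_of_commute (((g : P) : T).2.1 a ha), mul_assoc,
          line2_mul_self S.line h ha, mul_one]
  have hcomm : ∀ g g' : stabilizer P wW, g * g' = g' * g := fun g g' => by
    have e := hsq (g * g')
    calc g * g' = (g' * g') * (g * g') * (g * g) := by rw [hsq, hsq, one_mul, mul_one]
      _ = g' * (g' * g * g' * g) * g := by simp [mul_assoc]
      _ = g' * g := by
        have e' := hsq (g' * g)
        rw [← mul_assoc] at e'
        rw [e', mul_one]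
  haveI : Fintype (stabilizer P wW) := Fintype.ofFinite _
  obtain ⟨g, hg⟩ : ∃ g : stabilizer P wW, g ≠ 1 :=
    Fintype.exists_ne_of_one_lt_card (by rw [← Nat.card_eq_fintype_card]; omega) 1
  obtain ⟨g', hg'1, hg'g⟩ : ∃ g' : stabilizer P wW, g' ≠ 1 ∧ g' ≠ g := by
    by_contra hcon
    push Not at hcon
    have : (Finset.univ : Finset (stabilizer P wW)) ⊆ {1, g} := fun z _ => by
      by_cases hz : z = 1
      · simp [hz]
      · simp [hcon z hz]
    have := (Finset.card_le_card this).trans Finset.card_le_two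
    rw [Finset.card_univ, ← Nat.card_eq_fintype_card] at this
    omega
  obtain ⟨a, ha, hga⟩ := hψ g
  obtain ⟨a', ha', hga'⟩ := hψ g'
  have hord : ∀ z : stabilizer P wW, z ≠ 1 → orderOf ((z : P) : T).1 = 2 := fun z hz =>
    orderOf_eq_two_of_mul_self
      (congrArg (fun s : stabilizer P wW => ((s : P) : T).1) (hsq z))
      fun e => hz (Subtype.ext (Subtype.ext (Subtype.ext e)))
  refine ⟨((g : P) : T).1, ((g' : P) : T).1, c, a, a', ((g : P) : T).2, ((g' : P) : T).2, hord g hg,
    hord g' hg'1, congrArg (fun s : stabilizer P wW => ((s : P) : T).1) (hcomm g g'), hcY, hfix g,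
    hfix g', ha, ha', ?_, ?_, ?_, hga, hga'⟩
  · rintro rfl
    exact hg (hker g (by rwa [mul_one] at hga))
  · rintro rfl
    exact hg'1 (hker g' (by rwa [mul_one] at hga'))
  · rintro rfl
    refine hg'g (inv_mul_eq_one.mp (hker (g⁻¹ * g') ?_)).symm
    have hgi : g⁻¹ = g := inv_eq_of_mul_eq_one_right (hsq g)
    rw [hgi]
    set γ := ((g : P) : T).1
    set γ' := ((g' : P) : T).1
    show γ * γ' * u * (γ * γ')⁻¹ = u
    calc γ * γ' * u * (γ * γ')⁻¹ = γ * (γ' * u * γ'⁻¹) * γ⁻¹ := by group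
      _ = (γ * u * γ⁻¹) * (γ * a * γ⁻¹) := by rw [hga']; group
      _ = u := by
        rw [hga, conj_eq_of_commute (((g : P) : T).2.1 a ha), mul_assoc,
          line2_mul_self S.line h ha, mul_one]

end NPLine

end Cfsg.Agent.H30.Asch
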