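import Cfsg.Agent.H30.Asch.NoneProperPerp
import Cfsg.Agent.H73.Bender.Lines

/-!
No element proper: the translations of a line.  For an auxiliary element `a₀` of the torus
centralising `E`, the elements centralising `E` and `a₀` which move `u` inside `u E` and `v` inside
`v E` move `u` to every `u * a`.
-/

set_option autoImplicit false
set_option linter.style.haveILetI false

namespace Cfsg.Agent.H30.Asch

open Subgroup MulAction
open Cfsg.Agent.H14.Asch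
open Cfsg.Agent.H39
open Cfsg.Agent.H73.Bender (SE)
open Cfsg.Agent.H73.Asch (RankTwoBad Line2 HasLines2)
open scoped Pointwise

universe u v

variable {G : Type u} [Group G] [Finite G] {Ω : Type v} [MulAction G Ω] [Finite Ω] {D : Set G}

/-- Elements commuting with a bad involution and fixing its point normalise its `2`-group. -/
def LineNormal (Ω : Type v) [MulAction G Ω] (D : Set G) : Prop :=
  ∀ (t w : G) (p q : Ω) (E Q : Subgroup G), Quad Ω D t w p q → Line2 D t p E Q →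
    ∀ g : G, Commute g t → g • p = p → ∀ r ∈ Q, g * r * g⁻¹ ∈ Q

/-- An element of odd order centralising `E` fixes a second point of the line, and its fixed
points there are an orbit of its centraliser in `Q`. -/
def LineFixed (Ω : Type v) [MulAction G Ω] (D : Set G) : Prop :=
  ∀ (t : G) (p : Ω) (E Q : Subgroup G), Line2 D t p E Q → ∀ a₀ : G, Odd (orderOf a₀) →
    a₀ • p = p → Commute a₀ t → (∀ e ∈ E, Commute a₀ e) → (∀ r ∈ Q, a₀ * r * a₀⁻¹ ∈ Q) →
    (∃ c : Ω, t • c = c ∧ c ≠ p ∧ a₀ • c = c) ∧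
      ∀ c d : Ω, t • c = c → c ≠ p → a₀ • c = c → t • d = d → d ≠ p → a₀ • d = d →
        ∃ r ∈ Q, Commute r a₀ ∧ r • c = d

/-- The data of a line with an element of the torus centralising `E` (which may be trivial). -/
structure NPBase (D : Set G) (u v : G) (x y : Ω) (E Q A : Subgroup G) (a₀ : G) : Prop where
  quad : Quad Ω D u v x y
  line : Line2 D u x E Q
  A_le : A ≤ lineGroup D u ⊓ pairStab G x y
  A_odd : Odd (Nat.card A)
  A_norm : A ≤ normalizer (Q : Set G)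
  A_comm : IsMulCommutative A
  A_trans : ∀ a ∈ E, ∀ b ∈ E, a ≠ 1 → b ≠ 1 → ∃ k ∈ A, k * a * k⁻¹ = b
  mem : a₀ ∈ A
  central : ∀ e ∈ E, Commute a₀ e

/-- The data of a line with an auxiliary element of the torus. -/
structure NPLine (D : Set G) (u v : G) (x y : Ω) (E Q A : Subgroup G) (a₀ : G) : Prop
    extends NPBase D u v x y E Q A a₀ where
  fix : ∀ r ∈ Q, Commute a₀ r → r ∈ E

/-- The translations of the line. -/
def transGroup (u v : G) (E : Subgroup G) (a₀ : G) : Subgroup G where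
  carrier := {g | (∀ e ∈ E, Commute g e) ∧ Commute g a₀ ∧
    (∃ a ∈ E, g * u * g⁻¹ = u * a) ∧ ∃ b ∈ E, g * v * g⁻¹ = v * b}
  one_mem' := ⟨fun e _ => Commute.one_left e, Commute.one_left _, ⟨1, one_mem E, by simp⟩,
    ⟨1, one_mem E, by simp⟩⟩
  mul_mem' := by
    rintro g g' ⟨hg, hga, ⟨a, ha, hgu⟩, ⟨b, hb, hgv⟩⟩ ⟨hg', hga', ⟨a', ha', hgu'⟩, ⟨b', hb', hgv'⟩⟩
    refine ⟨fun e he => (hg e he).mul_left (hg' e he), hga.mul_left hga',
      ⟨a * a', mul_mem ha ha', ?_⟩, ⟨b * b', mul_mem hb hb', ?_⟩⟩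
    · calc g * g' * u * (g * g')⁻¹ = g * (g' * u * g'⁻¹) * g⁻¹ := by group
        _ = (g * u * g⁻¹) * (g * a' * g⁻¹) := by rw [hgu']; group
        _ = u * (a * a') := by rw [hgu, conj_eq_of_commute (hg a' ha'), mul_assoc]
    · calc g * g' * v * (g * g')⁻¹ = g * (g' * v * g'⁻¹) * g⁻¹ := by group
        _ = (g * v * g⁻¹) * (g * b' * g⁻¹) := by rw [hgv']; group
        _ = v * (b * b') := by rw [hgv, conj_eq_of_commute (hg b' hb'), mul_assoc]
  inv_mem' := by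
    rintro g ⟨hg, hga, ⟨a, ha, hgu⟩, ⟨b, hb, hgv⟩⟩
    refine ⟨fun e he => (hg e he).inv_left, hga.inv_left, ⟨a⁻¹, inv_mem ha, ?_⟩,
      ⟨b⁻¹, inv_mem hb, ?_⟩⟩
    · have := conj_eq_of_commute (hg a⁻¹ (inv_mem ha)).inv_left
      rw [inv_inv] at this
      calc g⁻¹ * u * g⁻¹⁻¹ = g⁻¹ * ((u * a) * a⁻¹) * g := by group
        _ = (g⁻¹ * (g * u * g⁻¹) * g) * (g⁻¹ * a⁻¹ * g) := by rw [hgu]; group
        _ = u * a⁻¹ := by rw [this]; group
    · have := conj_eq_of_commute (hg b⁻¹ (inv_mem hb)).inv_left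
      rw [inv_inv] at this
      calc g⁻¹ * v * g⁻¹⁻¹ = g⁻¹ * ((v * b) * b⁻¹) * g := by group
        _ = (g⁻¹ * (g * v * g⁻¹) * g) * (g⁻¹ * b⁻¹ * g) := by rw [hgv]; group
        _ = v * b⁻¹ := by rw [this]; group

namespace NPBase

variable {u v : G} {x y : Ω} {E Q A : Subgroup G} {a₀ : G} (S : NPBase D u v x y E Q A a₀)
  (hc : NPCtx G Ω D)
include S hc

theorem mem_E {g : G} : g ∈ E ↔ g = 1 ∨ g ∈ swappers D x x :=
  mem_E_iff hc.crit hc.lines hc.two hc.same S.quad S.quad.hx.1 S.line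

theorem conj_mem_E {g e : G} (hg : g • x = x) (he : e ∈ E) : g * e * g⁻¹ ∈ E := by
  rcases (S.mem_E hc).mp he with rfl | ⟨heD, hex⟩
  · simp
  · refine (S.mem_E hc).mpr (Or.inr ⟨hc.crit.conj_mem heD g, ?_⟩)
    rw [mul_smul, mul_smul, inv_smul_eq_iff.mpr hg.symm, hex, hg]

omit hc in
theorem A_smul {g : G} (hg : g ∈ A) : g • x = x ∧ g • y = y :=
  mem_pairStab.mp (S.A_le hg).2

omit hc in
theorem A_commute {g : G} (hg : g ∈ A) : Commute g u := commute_of_mem_lineGroup (S.A_le hg).1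

omit hc in
theorem A_commute_a₀ {g : G} (hg : g ∈ A) : Commute g a₀ :=
  PGroups.comm_of_isMulCommutative S.A_comm hg S.mem

theorem v_fixing : v ∈ fixingSubgroup G (fixedBy Ω u) :=
  mem_fixing_iff.mpr fun p hp => (Set.ext_iff.mp (hc.same u v x y S.quad) p).mp hp

theorem A_commute_fixing {g k : G} (hg : g ∈ A) (hk : k ∈ fixingSubgroup G (fixedBy Ω u)) :
    Commute g k :=
  commute_fixing_of_lineGroup hc.crit hc.lines hc.two hc.same S.quad (S.A_le hg).1 hk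

theorem fixing_commute_E {k e : G} (hk : k ∈ fixingSubgroup G (fixedBy Ω u)) (he : e ∈ E) :
    Commute k e := by
  by_cases he1 : e = 1
  · rw [he1]; exact Commute.one_right k
  · have := line2_member S.line he he1
    exact (commute_fixing_of_member hc.crit hc.lines hc.two hc.same S.quad ⟨this.1, this.2.1⟩ hk).symm

omit hc in
theorem odd_a₀ : Odd (orderOf a₀) :=
  S.A_odd.of_dvd_nat (Subgroup.orderOf_dvd_natCard _ S.mem)

/-- An element of `C(a₀)` at `x` moving `u` to `u * a`. -/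
theorem exists_conj_u (hN : LineNormal Ω D) (hF : LineFixed Ω D) {a : G} (ha : a ∈ E) :
    ∃ g : G, Commute g a₀ ∧ g • x = x ∧ g * u * g⁻¹ = u * a := by
  have h := hc.crit
  obtain ⟨a₁, ha₁, ha₁1, ha₁a⟩ := line2_exists_ne S.line (a := a)
  have haa := line2_mul_self S.line h ha
  have ha₁₁ := line2_mul_self S.line h ha₁
  have hab1 : a₁ * a ≠ 1 := fun e => ha₁a (by
    rw [eq_inv_of_mul_eq_one_left e, inv_eq_of_mul_eq_one_right haa])
  have ha₁m := line2_member S.line ha₁ ha₁1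
  have hbm := line2_member S.line (mul_mem ha₁ ha) hab1
  obtain ⟨s, hq⟩ := hc.quad_mul_member S.quad (a := a₁) ⟨ha₁m.1, ha₁m.2.1⟩
  set w := u * a₁ with hw
  have hwx : w • x = x := by rw [hw, mul_smul, ha₁m.2.2, S.quad.hx.1]
  obtain ⟨Ew, Qw, hlw⟩ := hc.lines w x hq.bu hwx
  obtain ⟨p, hp, hpx⟩ : ∃ p ∈ fix2 Ω w (s * v * s⁻¹), p ≠ x := by
    rcases eq_or_ne (s • x) x with e | e
    · exact ⟨s • y, hq.hy, fun e' => hq.ne (e.trans e'.symm)⟩
    · exact ⟨s • x, hq.hx, e⟩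
  have hqx : Quad Ω D w (s * v * s⁻¹) x p :=
    ⟨hq.bu, hq.bv, hq.bw, hq.comm, hpx.symm,
      ⟨hwx, (Set.ext_iff.mp (hc.same _ _ _ _ hq) x).mp hwx⟩, hp⟩
  have ha0w : Commute a₀ w := (S.A_commute S.mem).mul_right (S.central a₁ ha₁)
  have ha0x := (S.A_smul S.mem).1
  have hEw : ∀ e ∈ Ew, Commute a₀ e := fun e he =>
    S.central e ((S.mem_E hc).mpr ((mem_E_iff h hc.lines hc.two hc.same hqx hwx hlw).mp he))
  have hQw := hN w _ x p Ew Qw hqx hlw a₀ ha0w ha0x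
  obtain ⟨⟨c, hwc, hcx, hac⟩, -⟩ := hF w x Ew Qw hlw a₀ S.odd_a₀ ha0x ha0w hEw hQw
  -- a member at `c` commuting with `a₀` and `w`
  have hqc : Quad Ω D w (s * v * s⁻¹) c x :=
    ⟨hq.bu, hq.bv, hq.bw, hq.comm, hcx,
      ⟨hwc, (Set.ext_iff.mp (hc.same _ _ _ _ hq) c).mp hwc⟩, hqx.hx⟩
  obtain ⟨Ec, Qc, hlc⟩ := hc.lines w c hq.bu hwc
  have hQc := hN w _ c x Ec Qc hqc hlc a₀ ha0w hac
  obtain ⟨e, he, he1, -⟩ := line2_exists_ne S.line (a := 1)
  have hex : e • x = x := (line2_member S.line he he1).2.2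
  have hew : Commute e w :=
    ((line2_member S.line he he1).2.1).mul_right (S.line.central e he a₁ (S.line.E_le ha₁))
  have hwec : w • e • c = e • c := smul_fixed_of_commute hew hwc
  have hecc : e • c ≠ c := fun e' => hcx
    (h.eq_of_fixed (line2_member S.line he he1).1 e' hex)
  obtain ⟨r, hr, hrx⟩ := hlc.trans x (e • c) hwx hwec hcx.symm hecc
  have hra : Commute r a₀ := by
    have h1 : r⁻¹ * (a₀ * r * a₀⁻¹) ∈ Qc := mul_mem (inv_mem hr) (hQc r hr)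
    have h2 : (r⁻¹ * (a₀ * r * a₀⁻¹)) • x = x := by
      rw [mul_smul, mul_smul, mul_smul, inv_smul_eq_iff.mpr ha0x.symm, hrx, ← mul_smul a₀ e,
        (S.central e he).eq, mul_smul, hac, ← hrx, inv_smul_smul]
    have := hlc.free _ h1 x hwx hcx.symm h2
    rw [inv_mul_eq_one] at this
    exact (mul_inv_eq_iff_eq_mul.mp this.symm).symm
  have hr1 : r ≠ 1 := fun e1 => hcx (by
    have : x = e • c := by rw [← hrx, e1, one_smul]
    exact (MulAction.injective e (hex.trans this)).symm)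
  obtain ⟨d, hdQ, hd2, hda⟩ : ∃ d ∈ Qc, orderOf d = 2 ∧ Commute d a₀ := by
    by_cases hrr : r * r = 1
    · exact ⟨r, hr, orderOf_eq_two_of_mul_self hrr hr1, hra⟩
    · exact ⟨r * r, mul_mem hr hr, orderOf_eq_two_of_mul_self
        (line2_mul_self hlc h (hlc.sq_mem r hr)) hrr, hra.mul_left hra⟩
  have hdw : d ∈ lineGroup D w := (hlc.Q_le hdQ).1
  have hdc : d • c = c := mem_stabilizer_iff.mp (hlc.Q_le hdQ).2
  -- the line of `w` in the centraliser of `a₀`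
  set L := lineGroup D w ⊓ centralizer ({a₀} : Set G) with hL
  have hSL : SE (lineGroup D w) (fixedBy Ω w) := h.line hq.bu.1 hcx.symm hwx hwc
  have hmemL : ∀ {e : G}, e ∈ E → e ≠ 1 → Commute e w → e ∈ L := fun he he1 hew' =>
    ⟨mem_lineGroup (line2_member S.line he he1).1 hew',
      mem_centralizer_singleton_iff.mpr (S.central _ he).symm.eq⟩
  have ha₁w : Commute a₁ w := ha₁m.2.1.mul_right (Commute.refl a₁)
  have hbw : Commute (a₁ * a) w :=
    hbm.2.1.mul_right (S.line.central _ (mul_mem ha₁ ha) a₁ (S.line.E_le ha₁))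
  have hdL : d ∈ L := ⟨hdw, mem_centralizer_singleton_iff.mpr hda.eq⟩
  have hSE := hSL.line (T := L) inf_le_left (p := x) (q := c)
    ⟨hwx, a₁, hmemL ha₁ ha₁1 ha₁w, h.inv ha₁m.1, ha₁m.2.2⟩ ⟨hwc, d, hdL, hd2, hdc⟩ hcx.symm
  obtain ⟨g, hg, hga⟩ := hSE.exists_conj (hmemL ha₁ ha₁1 ha₁w)
    (hmemL (mul_mem ha₁ ha) hab1 hbw) (h.inv ha₁m.1) (h.inv hbm.1)
  have hgw : Commute g w := commute_of_mem_lineGroup hg.1
  refine ⟨g, mem_centralizer_singleton_iff.mp hg.2, ?_, ?_⟩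
  · refine h.eq_of_fixed hbm.1 ?_ hbm.2.2
    rw [← hga]
    exact H73.Bender.conj_smul_of_smul ha₁m.2.2
  · have hu : u = w * a₁ := by rw [hw, mul_assoc, ha₁₁, mul_one]
    calc g * u * g⁻¹ = (g * w * g⁻¹) * (g * a₁ * g⁻¹) := by
          conv_lhs => rw [hu]
          group
      _ = u * (a₁ * a₁) * a := by rw [conj_eq_of_commute hgw, hga, hw]; group
      _ = u * a := by rw [ha₁₁, mul_one]

/-- An element at `x` moving `u` inside `u E` moves `v` to a member times a scalar of the torus. -/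
theorem exists_image {g a : G} (hgx : g • x = x) (ha : a ∈ E) (ha1 : a ≠ 1)
    (hga : g * u * g⁻¹ = u * a) :
    ∃ k α, k ∈ fixingSubgroup G (fixedBy Ω u) ∧ α ∈ A ∧ α * a * α⁻¹ ≠ a ∧
      g * v * g⁻¹ = k * (α * a * α⁻¹) ∧
      ∀ e ∈ E, e ≠ 1 → ∀ c : Ω, u • c ≠ c → (u * e) • c = c → (k * (α * e * α⁻¹)) • c = c := by
  have h := hc.crit
  have hq := S.quad
  set K := fixingSubgroup G (fixedBy Ω u)
  have hFv := hc.same u v x y hq
  set z := g * v * g⁻¹ with hz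
  have hz2 : orderOf z = 2 := by rw [hz, orderOf_conj, hq.bv.1]
  have hzE : ∀ e ∈ E, Commute z e := fun e he => by
    have h1 : g⁻¹ * e * g⁻¹⁻¹ ∈ E := S.conj_mem_E hc (inv_smul_eq_iff.mpr hgx.symm) he
    have := commute_conj (S.fixing_commute_E hc (S.v_fixing hc) h1) g
    rwa [show g * (g⁻¹ * e * g⁻¹⁻¹) * g⁻¹ = e by group] at this
  have hzua : Commute z (u * a) := hga ▸ commute_conj hq.comm.symm g
  have hzu : Commute z u := by
    have := hzua.mul_right (hzE a ha)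
    rwa [mul_assoc, line2_mul_self S.line h ha, mul_one] at this
  obtain ⟨c, hcu, hca⟩ := hc.exists_perp_point hq S.line ha ha1
  have hFz : fixedBy Ω z = fixedBy Ω (u * a) := by
    rw [← hga]
    ext p
    show z • p = p ↔ (g * u * g⁻¹) • p = p
    have key : ∀ s : G, (g * s * g⁻¹) • p = p ↔ s • g⁻¹ • p = g⁻¹ • p := fun s => by
      rw [mul_smul, mul_smul]
      exact ⟨fun e => eq_inv_smul_iff.mpr e, fun e => by rw [e, smul_inv_smul]⟩
    rw [hz, key, key]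
    exact (Set.ext_iff.mp hFv (g⁻¹ • p)).symm
  have hzc : z • c = c := (Set.ext_iff.mp hFz c).mpr hca
  have hzF : z ∉ K := fun hzK => hcu ((Set.ext_iff.mp (fixedBy_eq_of_fixing hc.two hc.same hq.bu.1
    hq.ne hq.hx.1 hq.hy.1 hz2 hzK) c).mp hzc)
  have hzx : z • x = x := by
    rw [hz, mul_smul, mul_smul, inv_smul_eq_iff.mpr hgx.symm, hq.hx.2, hgx]
  obtain ⟨b, hb, hbz, hzbK⟩ :=
    hc.exists_mul_member_fixing hq.bu.1 hq.ne hq.hx.1 hq.hy.1 hz2 hzu
  rcases hb with rfl | hb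
  · exact absurd (by rwa [mul_one] at hzbK) hzF
  obtain ⟨p₀, hp₀, -⟩ := h.unique hb.1
  have hup₀ : u • p₀ = p₀ := h.fix_of_commute hb.1 hb.2.symm hp₀
  have hzp₀ : z • p₀ = p₀ := h.fix_of_commute hb.1 hbz.symm hp₀
  obtain rfl : p₀ = x := by
    by_contra hne
    exact hzF (mem_fixing_iff.mpr fun r hr => (Set.ext_iff.mp (same_fix hc.two hc.same hz2 hq.bu.1
      hzu hne hzp₀ hzx hup₀ hq.hx.1) r).mpr hr)
  have hbE : b ∈ E := (S.mem_E hc).mpr (Or.inr ⟨hb.1, hp₀⟩)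
  set k := z * b with hk
  have hbb := mul_self_of_orderOf_eq_two (h.inv hb.1)
  have hzk : z = k * b := by rw [hk, mul_assoc, hbb, mul_one]
  have hzb : z ≠ b := fun e => hq.ne (MulAction.injective g (h.eq_of_fixed hb.1
    (e ▸ H73.Bender.conj_smul_of_smul hq.hx.2) (e ▸ H73.Bender.conj_smul_of_smul hq.hy.2)))
  have hk2 : orderOf k = 2 := orderOf_mul_two hz2 (h.inv hb.1) hbz.symm hzb
  have hku : Commute k u := hzu.mul_left hb.2
  have hmid : ∀ {e : G}, e ∈ E → e ≠ 1 → e ∈ commMembers D u := fun he he1 =>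
    ⟨(line2_member S.line he he1).1, (line2_member S.line he he1).2.1⟩
  have hkne : u ≠ k := fun e => by
    have hab : a = b := hc.middle_unique hq hcu (hmid ha ha1) ⟨hb.1, hb.2⟩ hca
      (by rw [e, ← hzk]; exact hzc)
    have huv : g * u * g⁻¹ = g * v * g⁻¹ := by rw [hga, ← hz, hzk, ← e, hab]
    have h1 := hq.bw.1
    rw [mul_left_cancel (mul_right_cancel huv), mul_self_of_orderOf_eq_two hq.bv.1, orderOf_one] at h1
    omega
  have hkF : ∀ {p : Ω}, u • p = p → k • p = p := fun hp => mem_fixing_iff.mp hzbK _ hp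
  have hqk : Quad Ω D u k p₀ y := quad_of_pair hc.two hq.bu.1 hk2 hku.symm hkne hq.ne
    ⟨hq.hx.1, hkF hq.hx.1⟩ ⟨hq.hy.1, hkF hq.hy.1⟩
  obtain ⟨α, hα, hfp, hval⟩ := hc.exists_scalar hqk S.line
    (le_inf (fun r hr => (S.A_le hr).1) fun r hr => mem_stabilizer_iff.mpr (S.A_smul hr).1)
    S.A_comm (fun r hr e he => S.conj_mem_E hc (S.A_smul hr).1 he) S.A_trans
  have hαaE : α * a * α⁻¹ ∈ E := S.conj_mem_E hc (S.A_smul hα).1 ha
  have hαa1 : α * a * α⁻¹ ≠ 1 := fun e => ha1 (conj_eq_one_iff.mp e)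
  have hFk := hc.same u k p₀ y hqk
  have hkc : k • c ≠ c := fun e => hcu ((Set.ext_iff.mp hFk c).mpr e)
  have hmk : ∀ {e : G}, e ∈ E → e ≠ 1 → e ∈ commMembers D k := fun he he1 =>
    ⟨(line2_member S.line he he1).1, (S.fixing_commute_E hc hzbK he).symm⟩
  have hb1 : b ≠ 1 := fun e => ne_one_of_orderOf_eq_two (h.inv hb.1) e
  have hbα : b = α * a * α⁻¹ := hc.middle_unique hqk.symm hkc (hmk hbE hb1) (hmk hαaE hαa1)
    (by rw [← hzk]; exact hzc) (hval a ha ha1 c hcu hca)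
  exact ⟨k, α, hzbK, hα, hfp a ha ha1, by rw [← hbα]; exact hzk, hval⟩

/-- TRANSLATIONS: every `u * a` is the image of `u` under a translation. -/
theorem exists_translation (hN : LineNormal Ω D) (hF : LineFixed Ω D) {a : G} (ha : a ∈ E) :
    ∃ g ∈ transGroup u v E a₀, g * u * g⁻¹ = u * a := by
  have h := hc.crit
  have hq := S.quad
  by_cases ha1 : a = 1
  · exact ⟨1, one_mem _, by simp [ha1]⟩
  suffices hne : ∃ g ∈ transGroup u v E a₀, ∃ b ∈ E, b ≠ 1 ∧ g * u * g⁻¹ = u * b by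
    obtain ⟨g, ⟨hgE, hga0, -, b', hb', hgv⟩, b, hb, hb1, hgu⟩ := hne
    obtain ⟨r, hr, hrb⟩ := S.A_trans b hb a ha hb1 ha1
    have hrx := (S.A_smul hr).1
    have hru := S.A_commute hr
    have hrv := S.A_commute_fixing hc hr (S.v_fixing hc)
    have heq : r * g * r⁻¹ * u * (r * g * r⁻¹)⁻¹ = u * a := by
      calc r * g * r⁻¹ * u * (r * g * r⁻¹)⁻¹ = r * (g * (r⁻¹ * u * r⁻¹⁻¹) * g⁻¹) * r⁻¹ := by group
        _ = (r * u * r⁻¹) * (r * b * r⁻¹) := by
          rw [conj_eq_of_commute hru.inv_left, hgu]; group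
        _ = u * a := by rw [conj_eq_of_commute hru, hrb]
    refine ⟨r * g * r⁻¹, ⟨fun e he => ?_,
      ((S.A_commute_a₀ hr).mul_left hga0).mul_left (S.A_commute_a₀ hr).inv_left, ⟨a, ha, heq⟩,
      r * b' * r⁻¹, S.conj_mem_E hc hrx hb', ?_⟩, heq⟩
    · have := commute_conj (hgE _ (S.conj_mem_E hc (inv_smul_eq_iff.mpr hrx.symm) he)) r
      rwa [show r * (r⁻¹ * e * r⁻¹⁻¹) * r⁻¹ = e by group] at this
    · calc r * g * r⁻¹ * v * (r * g * r⁻¹)⁻¹ = r * (g * (r⁻¹ * v * r⁻¹⁻¹) * g⁻¹) * r⁻¹ := by group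
        _ = (r * v * r⁻¹) * (r * b' * r⁻¹) := by
          rw [conj_eq_of_commute hrv.inv_left, hgv]; group
        _ = v * (r * b' * r⁻¹) := by rw [conj_eq_of_commute hrv]
  obtain ⟨α, hα, -, hαval⟩ := hc.exists_scalar hq S.line
    (le_inf (fun r hr => (S.A_le hr).1) fun r hr => mem_stabilizer_iff.mpr (S.A_smul hr).1)
    S.A_comm (fun r hr e he => S.conj_mem_E hc (S.A_smul hr).1 he) S.A_trans
  obtain ⟨g, hga0, hgx, hgu⟩ := S.exists_conj_u hc hN hF ha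
  obtain ⟨k, β, hk, hβ, hβa, hgv, hβval⟩ := S.exists_image hc hgx ha ha1 hgu
  have hgix : g⁻¹ • x = x := inv_smul_eq_iff.mpr hgx.symm
  have haa := line2_mul_self S.line h ha
  have hcE : ∀ {e e' : G}, e ∈ E → e' ∈ E → Commute e e' := fun he he' =>
    S.line.central _ he _ (S.line.E_le he')
  have hαE : ∀ {r e : G}, r ∈ A → e ∈ E → r * e * r⁻¹ ∈ E := fun hr he =>
    S.conj_mem_E hc (S.A_smul hr).1 he
  -- conjugation by `g` carries the scalar of `v` to that of `k`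
  have hn : ∀ e ∈ E, g * (α * e * α⁻¹) * g⁻¹ = β * (g * e * g⁻¹) * β⁻¹ := by
    intro e he
    by_cases he1 : e = 1
    · simp [he1]
    obtain ⟨c, hcu, hce⟩ := hc.exists_perp_point hq S.line he he1
    have hcx : c ≠ x := fun e' => hcu (e' ▸ hq.hx.1)
    set d := g • c with hd
    set e' := g * e * g⁻¹
    set e'' := g * (α * e * α⁻¹) * g⁻¹
    have he'E : e' ∈ E := S.conj_mem_E hc hgx he
    have he''E : e'' ∈ E := S.conj_mem_E hc hgx (hαE hα he)
    have hdx : d ≠ x := fun e₁ => hcx (MulAction.injective g (e₁.trans hgx.symm))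
    have hud : (u * (a * e')) • d = d := by
      rw [← mul_assoc, ← hgu, show g * u * g⁻¹ * e' = g * (u * e) * g⁻¹ by simp only [e']; group]
      exact H73.Bender.conj_smul_of_smul hce
    have hkd : (k * ((β * a * β⁻¹) * e'')) • d = d := by
      rw [← mul_assoc, ← hgv, show g * v * g⁻¹ * e'' = g * (v * (α * e * α⁻¹)) * g⁻¹ by simp only [e'']; group]
      exact H73.Bender.conj_smul_of_smul (hαval e he he1 c hcu hce)
    have hEfix : ∀ {r : G}, r ∈ E → r • d = d → r = 1 := fun hr hrd => by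
      by_contra hr1
      exact hdx (h.eq_of_fixed (line2_member S.line hr hr1).1 hrd (line2_member S.line hr hr1).2.2)
    have hβaE : β * a * β⁻¹ ∈ E := hαE hβ ha
    have hbb : β * a * β⁻¹ * (β * a * β⁻¹) = 1 := by
      rw [show β * a * β⁻¹ * (β * a * β⁻¹) = β * (a * a) * β⁻¹ by group, haa]; group
    by_cases hae : a * e' = 1
    · have hud' : u • d = d := by rwa [hae, mul_one] at hud
      have h1 := hkd
      rw [mul_smul] at h1
      have h2 := hEfix (mul_mem hβaE he''E)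
        (MulAction.injective k (h1.trans (mem_fixing_iff.mp hk d hud').symm))
      rw [eq_inv_of_mul_eq_one_right h2, inv_eq_of_mul_eq_one_right hbb,
        eq_inv_of_mul_eq_one_right hae, inv_eq_of_mul_eq_one_right haa]
    · have hudne : u • d ≠ d := fun e₁ => hae (hEfix (mul_mem ha he'E) (MulAction.injective u (by
        show u • (a * e') • d = u • d
        rw [← mul_smul, hud, e₁])))
      have h1 := hβval _ (mul_mem ha he'E) hae d hudne hud
      rw [mul_smul] at hkd h1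
      have h2 : (β * (a * e') * β⁻¹) • d = ((β * a * β⁻¹) * e'') • d :=
        MulAction.injective k (h1.trans hkd.symm)
      have h3 := hEfix (mul_mem (inv_mem (mul_mem hβaE he''E)) (hαE hβ (mul_mem ha he'E)))
        (by rw [mul_smul, h2, inv_smul_smul])
      rw [inv_mul_eq_one] at h3
      have h4 : β * (a * e') * β⁻¹ = β * a * β⁻¹ * (β * e' * β⁻¹) := by group
      rw [h4] at h3
      exact mul_left_cancel h3
  set a₂ := g⁻¹ * a * g⁻¹⁻¹ with ha₂def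
  have ha₂ : a₂ ∈ E := S.conj_mem_E hc hgix ha
  have ha₂1 : a₂ ≠ 1 := fun e => ha1 (conj_eq_one_iff.mp e)
  have hga₂ : g * a₂ * g⁻¹ = a := by rw [ha₂def]; group
  have hgiu : g⁻¹ * u * g⁻¹⁻¹ = u * a₂ := by
    calc g⁻¹ * u * g⁻¹⁻¹ = g⁻¹ * ((u * a) * a⁻¹) * g := by group
      _ = (g⁻¹ * (g * u * g⁻¹) * g) * (g⁻¹ * a⁻¹ * g) := by rw [hgu]; group
      _ = u * (g⁻¹ * a * g⁻¹⁻¹) := by rw [inv_eq_of_mul_eq_one_right haa]; group
  obtain ⟨k₂, β₂, hk₂, hβ₂, -, hgiv, -⟩ := S.exists_image hc hgix ha₂ ha₂1 hgiu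
  set b₂ := β₂ * a₂ * β₂⁻¹ with hb₂
  have hb₂E : b₂ ∈ E := hαE hβ₂ ha₂
  have hb₂₂ := line2_mul_self S.line h hb₂E
  -- the translation
  set t := g * α * g⁻¹ * β⁻¹ with ht
  have hβu : Commute β⁻¹ u := (S.A_commute hβ).inv_left
  have hβv : Commute β⁻¹ v := (S.A_commute_fixing hc hβ (S.v_fixing hc)).inv_left
  have htu : t * u * t⁻¹ = u * (a * (β * a * β⁻¹)) := by
    calc t * u * t⁻¹ = g * α * g⁻¹ * (β⁻¹ * u * β⁻¹⁻¹) * g⁻¹⁻¹ * α⁻¹ * g⁻¹ := by
          rw [ht]; simp [mul_assoc]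
      _ = g * (α * (g⁻¹ * u * g⁻¹⁻¹) * α⁻¹) * g⁻¹ := by rw [conj_eq_of_commute hβu]; group
      _ = g * ((α * u * α⁻¹) * (α * a₂ * α⁻¹)) * g⁻¹ := by rw [hgiu]; group
      _ = (g * u * g⁻¹) * (g * (α * a₂ * α⁻¹) * g⁻¹) := by
          rw [conj_eq_of_commute (S.A_commute hα)]; group
      _ = _ := by rw [hgu, hn a₂ ha₂, hga₂, mul_assoc]
  refine ⟨t, ⟨fun e he => ?_, ?_, ⟨_, mul_mem ha (hαE hβ ha), htu⟩, ?_⟩, _,
    mul_mem ha (hαE hβ ha), ?_, htu⟩
  · refine commute_of_conj_eq ?_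
    have h1 : β⁻¹ * e * β⁻¹⁻¹ ∈ E := hαE (inv_mem hβ) he
    calc t * e * t⁻¹ = g * (α * (g⁻¹ * (β⁻¹ * e * β⁻¹⁻¹) * g⁻¹⁻¹) * α⁻¹) * g⁻¹ := by
          rw [ht]; simp [mul_assoc]
      _ = β * (g * (g⁻¹ * (β⁻¹ * e * β⁻¹⁻¹) * g⁻¹⁻¹) * g⁻¹) * β⁻¹ :=
          hn _ (S.conj_mem_E hc hgix h1)
      _ = e := by group
  · exact ((hga0.mul_left (S.A_commute_a₀ hα)).mul_left hga0.inv_left).mul_left
      (S.A_commute_a₀ hβ).inv_left
  · refine ⟨(g * b₂ * g⁻¹) * (g * (α * b₂ * α⁻¹) * g⁻¹),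
      mul_mem (S.conj_mem_E hc hgx hb₂E) (S.conj_mem_E hc hgx (hαE hα hb₂E)), ?_⟩
    have hgk : g * k₂ * g⁻¹ = v * (g * b₂ * g⁻¹) := by
      calc g * k₂ * g⁻¹ = g * (k₂ * b₂) * (b₂ * g⁻¹) := by
            rw [show g * (k₂ * b₂) * (b₂ * g⁻¹) = g * k₂ * (b₂ * b₂) * g⁻¹ by group, hb₂₂, mul_one]
        _ = g * (g⁻¹ * v * g⁻¹⁻¹) * (b₂ * g⁻¹) := by rw [hgiv]
        _ = v * (g * b₂ * g⁻¹) := by group
    calc t * v * t⁻¹ = g * α * g⁻¹ * (β⁻¹ * v * β⁻¹⁻¹) * g⁻¹⁻¹ * α⁻¹ * g⁻¹ := by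
          rw [ht]; simp [mul_assoc]
      _ = g * (α * (g⁻¹ * v * g⁻¹⁻¹) * α⁻¹) * g⁻¹ := by rw [conj_eq_of_commute hβv]; group
      _ = g * ((α * k₂ * α⁻¹) * (α * b₂ * α⁻¹)) * g⁻¹ := by rw [hgiv]; group
      _ = (g * k₂ * g⁻¹) * (g * (α * b₂ * α⁻¹) * g⁻¹) := by
          rw [conj_eq_of_commute (S.A_commute_fixing hc hα hk₂)]; group
      _ = _ := by rw [hgk, mul_assoc]
  · intro e
    exact hβa (by
      rw [eq_inv_of_mul_eq_one_right e, inv_eq_of_mul_eq_one_right haa])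

end NPBase

end Cfsg.Agent.H30.Asch
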