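import Cfsg.Agent.H26.Asch.ShapeTwoClassFix
import Cfsg.Agent.H6.Asch.Criterion

/-!
The rank theorem in the form used by the criterion.
-/

set_option autoImplicit false

namespace Cfsg.Agent.H30.Asch

open Cfsg.Agent.H14.Asch

universe u v

variable {G : Type u} [Group G] [Finite G] {Ω : Type v} [MulAction G Ω] [Finite Ω] {D : Set G}

/-- **The rank theorem.** -/
theorem pairsStep (h : Crit G Ω D) : H6.Asch.PairsStep G Ω D :=
  rankOnePairs_of_shapeTwo h H3.Asch.shapeTwoNone

end Cfsg.Agent.H30.Asch
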