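import Cfsg.Agent.H30.Asch.QuadEq

/-!
First part of the rank theorem: among the involutions of a four group fixing two points not exactly
one has a further fixed point, and those which have further fixed points have equally many.
-/

set_option autoImplicit false
set_option linter.style.haveILetI false

namespace Cfsg.Agent.H30.Asch

open Subgroup MulAction
open Cfsg.Agent.H14.Asch
open Cfsg.Agent.H39
open Cfsg.Agent.H73.Asch (RankTwoBad Line2 HasLines2)

universe u v

variable {G : Type u} [Group G] [Finite G] {Ω : Type v} [MulAction G Ω] [Finite Ω] {D : Set G}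

omit [Finite G] [Finite Ω] in
theorem fix2_comm (u v : G) : fix2 Ω u v = fix2 Ω v u := by
  ext p
  exact and_comm

omit [Finite G] [Finite Ω] in
theorem pairSwap_comm (u v : G) (x y : Ω) : pairSwap D u v x y = pairSwap D v u x y := by
  ext d
  simp only [pairSwap, Set.mem_ofPred_eq]
  tauto

omit [Finite G] [Finite Ω] in
theorem fix2_mul (u v : G) (_hv : v * v = 1) : fix2 Ω (u * v) v = fix2 Ω u v := by
  ext p
  simp only [fix2, Set.mem_ofPred_eq]
  constructor
  · rintro ⟨h1, h2⟩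
    rw [mul_smul, h2] at h1
    exact ⟨h1, h2⟩
  · rintro ⟨h1, h2⟩
    exact ⟨by rw [mul_smul, h2, h1], h2⟩

omit [Finite G] [Finite Ω] in
theorem pairSwap_mul (u v : G) (hv : v * v = 1) (x y : Ω) :
    pairSwap D (u * v) v x y = pairSwap D u v x y := by
  ext d
  simp only [pairSwap, Set.mem_ofPred_eq]
  refine ⟨fun hd => ⟨hd.1, ?_, hd.2.2⟩, fun hd => ⟨hd.1, hd.2.1.mul_right hd.2.2.1, hd.2.2⟩⟩
  have := hd.2.1.mul_right hd.2.2.1
  rwa [mul_assoc, hv, mul_one] at this

omit [Finite G] in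
/-- An involution moves a point. -/
theorem exists_moved (h : Crit G Ω D) {u : G} (hu : orderOf u = 2) :
    Nat.card (fixedBy Ω u) < Nat.card Ω := by
  obtain ⟨p, hp⟩ : ∃ p : Ω, u • p ≠ p := by
    by_contra hcon
    push Not at hcon
    haveI := h.faithful
    exact ne_one_of_orderOf_eq_two hu
      (FaithfulSMul.eq_of_smul_eq_smul (α := Ω) fun q => by rw [hcon q, one_smul])
  exact Finite.card_subtype_lt (p := fun c : Ω => c ∈ fixedBy Ω u) (x := p) hp

/-- The data of a four group of bad involutions with two common fixed points. -/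
structure Quad (Ω : Type v) [MulAction G Ω] (D : Set G) (u v : G) (x y : Ω) : Prop where
  bu : RankTwoBad Ω D u
  bv : RankTwoBad Ω D v
  bw : RankTwoBad Ω D (u * v)
  comm : Commute u v
  ne : x ≠ y
  hx : x ∈ fix2 Ω u v
  hy : y ∈ fix2 Ω u v

namespace Quad

variable {u v : G} {x y : Ω} (hq : Quad Ω D u v x y)
include hq

omit [Finite G] [Finite Ω] in
theorem symm : Quad Ω D v u x y :=
  ⟨hq.bv, hq.bu, hq.comm.eq ▸ hq.bw, hq.comm.symm, hq.ne, ⟨hq.hx.2, hq.hx.1⟩,
    ⟨hq.hy.2, hq.hy.1⟩⟩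

omit [Finite G] [Finite Ω] in
theorem rot : Quad Ω D (u * v) v x y :=
  ⟨hq.bw, hq.bv, by rw [mul_assoc, mul_self_of_orderOf_eq_two hq.bv.1, mul_one]; exact hq.bu,
    hq.comm.mul_left (Commute.refl v), hq.ne,
    (fix2_mul u v (mul_self_of_orderOf_eq_two hq.bv.1)).ge hq.hx,
    (fix2_mul u v (mul_self_of_orderOf_eq_two hq.bv.1)).ge hq.hy⟩

omit [Finite G] in
theorem two_le : 2 ≤ Nat.card (fix2 Ω u v) := by
  haveI : Nontrivial (fix2 Ω u v) := ⟨⟨x, hq.hx⟩, ⟨y, hq.hy⟩, fun e => hq.ne (congrArg Subtype.val e)⟩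
  exact Finite.one_lt_card

theorem card_le : Nat.card (fix2 Ω u v) ≤ Nat.card (fixedBy Ω v) := by
  have := card_moved_add (Ω := Ω) u v
  omega

variable (h : Crit G Ω D)
include h

theorem pos : 0 < Nat.card (pairSwap D u v x x) := by
  obtain ⟨d, hd⟩ := (se_pair h hq.bu.1 hq.bv.1 hq.comm hq.ne hq.hx hq.hy).2 x hq.hx
  have : Nonempty (pairSwap D u v x x) := ⟨⟨d, hd⟩⟩
  exact Nat.card_pos

theorem pos_right : 0 < Nat.card (commSwap D v x x) := by
  obtain ⟨d, hd⟩ := (se_pair h hq.bu.1 hq.bv.1 hq.comm hq.ne hq.hx hq.hy).2 x hq.hx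
  have : Nonempty (commSwap D v x x) := ⟨⟨d, hd.1, hd.2.2.1, hd.2.2.2⟩⟩
  exact Nat.card_pos

theorem out (hL : HasLines2 Ω D) :
    (Nat.card (swappers D x x) : ℤ) * (Nat.card Ω - Nat.card (fixedBy Ω v)) =
      Nat.card (fixedBy Ω v) * ((Nat.card (fixedBy Ω v) : ℤ) - 1) *
        (Nat.card (commSwap D v x x) : ℤ) ^ 2 := by
  have h1 := count_out h hL hq.bv hq.hx.2
  have h2 := (exists_moved h hq.bv.1).le
  have h3 : 1 ≤ Nat.card (fixedBy Ω v) := le_trans (by have := hq.two_le; omega) hq.card_le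
  have := congrArg (Nat.cast : ℕ → ℤ) h1
  push_cast [Nat.cast_sub h2, Nat.cast_sub h3] at this
  exact this

theorem inn (hL : HasLines2 Ω D) (hlt : Nat.card (fix2 Ω u v) < Nat.card (fixedBy Ω v)) :
    (Nat.card (commSwap D v x x) : ℤ) *
        ((Nat.card (fixedBy Ω v) : ℤ) - Nat.card (fix2 Ω u v)) =
      Nat.card (fix2 Ω u v) * ((Nat.card (fix2 Ω u v) : ℤ) - 1) *
        (Nat.card (pairSwap D u v x x) : ℤ) ^ 2 := by
  obtain ⟨⟨c, hvc, huc⟩⟩ : Nonempty {c : Ω // v • c = c ∧ u • c ≠ c} := by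
    refine (Nat.card_pos_iff.mp ?_).1
    have := card_moved_add (Ω := Ω) u v
    omega
  have h1 := count_in h hL hq.bu.1 hq.bv hq.comm hq.ne hq.hx hq.hy hvc huc
  have h3 : 1 ≤ Nat.card (fix2 Ω u v) := by have := hq.two_le; omega
  have := congrArg (Nat.cast : ℕ → ℤ) h1
  push_cast [Nat.cast_sub hlt.le, Nat.cast_sub h3] at this
  exact this

theorem wielandt :
    (Nat.card (swappers D x x) : ℤ) * (Nat.card (pairSwap D u v x x) : ℤ) ^ 2 =
      (Nat.card (commSwap D u x x) : ℤ) * Nat.card (commSwap D v x x) *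
        Nat.card (commSwap D (u * v) x x) := by
  have h1 := card_swappers_four h hq.bu.1 hq.bv.1 hq.comm hq.ne hq.hx hq.hy
  have hx' := hq.hx
  rw [h.card_swappers x y, card_pairSwap h hq.bu.1 hq.bv.1 hq.comm hq.ne hq.hx hq.hy hq.hx hq.hy hq.hx,
    h.card_commSwap hq.bu.1 hq.ne hq.hx.1 hq.hy.1 hq.hx.1 hq.hy.1 hq.hx.1,
    h.card_commSwap hq.bv.1 hq.ne hq.hx.2 hq.hy.2 hq.hx.2 hq.hy.2 hq.hx.2,
    h.card_commSwap hq.bw.1 hq.ne hq.rot.hx.1 hq.rot.hy.1 hq.rot.hx.1 hq.rot.hy.1 hq.rot.hx.1] at h1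
  exact_mod_cast h1

theorem pos_swappers : 0 < Nat.card (swappers D x x) := by
  obtain ⟨d, hd, hdx⟩ := h.exists_at x
  have : Nonempty (swappers D x x) := ⟨⟨d, hd, hdx⟩⟩
  exact Nat.card_pos

/-- Not exactly one element of the four group has further fixed points. -/
theorem not_one_proper (hL : HasLines2 Ω D)
    (hv : Nat.card (fix2 Ω u v) < Nat.card (fixedBy Ω v))
    (hu : Nat.card (fixedBy Ω u) = Nat.card (fix2 Ω u v))
    (hw : Nat.card (fixedBy Ω (u * v)) = Nat.card (fix2 Ω u v)) : False := by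
  have e1 := hq.symm.out h hL
  have e3 := hq.rot.symm.out h hL
  rw [hu] at e1
  rw [hw] at e3
  have e4 := hq.inn h hL hv
  have e5 := hq.wielandt h
  have := eq_points_of_one_proper (by exact_mod_cast hq.two_le)
    (by exact_mod_cast hq.pos_swappers h) (by exact_mod_cast hq.pos h)
    (by exact_mod_cast hq.symm.pos_right h) (by exact_mod_cast hq.rot.symm.pos_right h) e1 e3 e4 e5
  have hlt := exists_moved h hq.bv.1
  omega

/-- Two elements of the four group with further fixed points fix as many points. -/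
theorem card_eq_of_proper (hL : HasLines2 Ω D)
    (hu : Nat.card (fix2 Ω u v) < Nat.card (fixedBy Ω u))
    (hv : Nat.card (fix2 Ω u v) < Nat.card (fixedBy Ω v)) :
    Nat.card (fixedBy Ω u) = Nat.card (fixedBy Ω v) := by
  have hvv := mul_self_of_orderOf_eq_two hq.bv.1
  have e1 := hq.symm.out h hL
  have e2 := hq.out h hL
  have e3 := hq.rot.symm.out h hL
  have i1 := hq.symm.inn h hL (by rwa [fix2_comm v u])
  rw [fix2_comm v u, pairSwap_comm v u] at i1
  have i2 := hq.inn h hL hv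
  have e5 := hq.wielandt h
  have hf : (2 : ℤ) ≤ Nat.card (fix2 Ω u v) := by exact_mod_cast hq.two_le
  have hM : (0 : ℤ) < Nat.card (pairSwap D u v x x) := by exact_mod_cast hq.pos h
  have hp : (0 : ℤ) < Nat.card (commSwap D u x x) := by exact_mod_cast hq.symm.pos_right h
  have hr : (0 : ℤ) < Nat.card (commSwap D v x x) := by exact_mod_cast hq.pos_right h
  have hs : (0 : ℤ) < Nat.card (commSwap D (u * v) x x) := by
    exact_mod_cast hq.rot.symm.pos_right h
  have hle : Nat.card (fix2 Ω u v) ≤ Nat.card (fixedBy Ω (u * v)) := by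
    have := hq.rot.symm.card_le
    rwa [fix2_comm v, fix2_mul u v hvv] at this
  rcases hle.lt_or_eq with hlt | heq
  · have i3 := hq.rot.symm.inn h hL (by rwa [fix2_comm v, fix2_mul u v hvv])
    rw [fix2_comm v, fix2_mul u v hvv, pairSwap_comm v, pairSwap_mul u v hvv] at i3
    exact_mod_cast (eq_of_three_proper hf hM hp hr hs e1 e2 e3 i1 i2 i3 e5).1
  · rw [← heq] at e3
    exact_mod_cast eq_of_two_proper hf hM hp hr e1 e2 e3 i1 i2 e5

end Quad

end Cfsg.Agent.H30.Asch
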