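import Cfsg.Agent.H14.Asch.Local
import Cfsg.Agent.H1.Asch.Fusion
import Cfsg.Agent.H1.Asch.FourCount

/-!
The counting formulas for two commuting involutions with two common fixed points, kernels of the
lines included (notes/helper30_asch_rank_v2.md).

* a bad involution is conjugate to its products with the members commuting with it (`OUT`);
* inside the centraliser of an involution moving some of the common fixed points the same holds
  (`IN`);
* the Brauer-Wielandt product formula for the swappers of the pair (`WIELANDT`).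
-/

set_option autoImplicit false
set_option linter.style.haveILetI false

namespace Cfsg.Agent.H30.Asch

open Subgroup MulAction
open Cfsg.Agent.H14.Asch
open Cfsg.Agent.H39
open Cfsg.Agent.H73.Bender (SE)
open Cfsg.Agent.H73.Asch (RankTwoBad Line2 HasLines2)

universe u v

variable {G : Type u} [Group G] {Ω : Type v} [MulAction G Ω] {D : Set G}

/-- The members commuting with `u` and `v` which map `x` to `y`. -/
def pairSwap (D : Set G) (u v : G) (x y : Ω) : Set G :=
  {d | d ∈ D ∧ Commute d u ∧ Commute d v ∧ d • x = y}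

/-- The members commuting with `u` and `v`. -/
def pairMembers (D : Set G) (u v : G) : Set G := {d | d ∈ D ∧ Commute d u ∧ Commute d v}

/-- The common fixed points of `u` and `v`. -/
def fix2 (Ω : Type v) [MulAction G Ω] (u v : G) : Set Ω := {p | u • p = p ∧ v • p = p}

theorem card_commSwap_conj (h : Crit G Ω D) (g u : G) (x y : Ω) :
    Nat.card (commSwap D (g * u * g⁻¹) (g • x) (g • y)) = Nat.card (commSwap D u x y) := by
  symm
  refine Nat.card_congr ((MulAut.conj g).toEquiv.subtypeEquiv fun d => ?_)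
  simp only [MulEquiv.toEquiv_eq_coe, MulEquiv.coe_toEquiv, MulAut.conj_apply, commSwap,
    Set.mem_ofPred_eq]
  rw [mul_smul, mul_smul, inv_smul_smul]
  exact and_congr ⟨fun hd => h.conj_mem hd g, fun hd => by simpa [mul_assoc] using h.conj_mem hd g⁻¹⟩
    (and_congr ⟨fun hc => commute_conj hc g, fun hc => by
      simpa [mul_assoc] using commute_conj hc g⁻¹⟩
      ⟨fun e => by rw [e], fun e => MulAction.injective g e⟩)

theorem card_pairSwap_conj (h : Crit G Ω D) (g u v : G) (x y : Ω) :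
    Nat.card (pairSwap D (g * u * g⁻¹) (g * v * g⁻¹) (g • x) (g • y)) =
      Nat.card (pairSwap D u v x y) := by
  symm
  refine Nat.card_congr ((MulAut.conj g).toEquiv.subtypeEquiv fun d => ?_)
  simp only [MulEquiv.toEquiv_eq_coe, MulEquiv.coe_toEquiv, MulAut.conj_apply, pairSwap,
    Set.mem_ofPred_eq]
  rw [mul_smul, mul_smul, inv_smul_smul]
  exact and_congr ⟨fun hd => h.conj_mem hd g, fun hd => by simpa [mul_assoc] using h.conj_mem hd g⁻¹⟩
    (and_congr ⟨fun hc => commute_conj hc g, fun hc => by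
      simpa [mul_assoc] using commute_conj hc g⁻¹⟩
      (and_congr ⟨fun hc => commute_conj hc g, fun hc => by
        simpa [mul_assoc] using commute_conj hc g⁻¹⟩
        ⟨fun e => by rw [e], fun e => MulAction.injective g e⟩))

theorem card_fixedBy_conj (g u : G) :
    Nat.card (fixedBy Ω (g * u * g⁻¹)) = Nat.card (fixedBy Ω u) := by
  symm
  refine Nat.card_congr ((MulAction.toPerm g).subtypeEquiv fun p => ?_)
  simp only [MulAction.toPerm_apply, mem_fixedBy]
  rw [mul_smul, mul_smul, inv_smul_smul]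
  exact ⟨fun e => by rw [e], fun e => MulAction.injective g e⟩

theorem card_fix2_conj (g u v : G) :
    Nat.card (fix2 Ω (g * u * g⁻¹) (g * v * g⁻¹)) = Nat.card (fix2 Ω u v) := by
  symm
  refine Nat.card_congr ((MulAction.toPerm g).subtypeEquiv fun p => ?_)
  simp only [MulAction.toPerm_apply, fix2, Set.mem_ofPred_eq]
  rw [mul_smul, mul_smul, inv_smul_smul, mul_smul, mul_smul, inv_smul_smul]
  exact and_congr ⟨fun e => by rw [e], fun e => MulAction.injective g e⟩
    ⟨fun e => by rw [e], fun e => MulAction.injective g e⟩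

/-- The line of the pair `u`, `v`. -/
theorem se_pair [Finite G] [Finite Ω] (h : Crit G Ω D) {u v : G} (hu : orderOf u = 2)
    (hv : orderOf v = 2) (hc : Commute u v) {x y : Ω} (hxy : x ≠ y) (hx : x ∈ fix2 Ω u v)
    (hy : y ∈ fix2 Ω u v) :
    SE (closure (pairMembers D u v)) (fix2 Ω u v) ∧
      ∀ z ∈ fix2 Ω u v, (pairSwap D u v z z).Nonempty := by
  set T := closure ({u, v} : Set G) with hT
  have huT : u ∈ T := subset_closure (Set.mem_insert _ _)
  have hvT : v ∈ T := subset_closure (Set.mem_insert_of_mem _ rfl)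
  have hfix : H1.Asch.fixSet (Ω := Ω) T = fix2 Ω u v := by
    ext p
    refine ⟨fun hp => ⟨hp u huT, hp v hvT⟩, fun hp e he => ?_⟩
    refine mem_stabilizer_iff.mp ((closure_le (stabilizer G p)).mpr ?_ he)
    rintro g (rfl | rfl)
    exacts [hp.1, hp.2]
  have hmem : H1.Asch.memCent D T = pairMembers D u v := by
    ext d
    refine ⟨fun hd => ⟨hd.1, hd.2 u huT, hd.2 v hvT⟩, fun hd => ⟨hd.1, fun e he => ?_⟩⟩
    have h1 : T ≤ centralizer ({d} : Set G) := (closure_le _).mpr (by
      rintro g (rfl | rfl)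
      · exact mem_centralizer_singleton_iff.mpr hd.2.1.symm.eq
      · exact mem_centralizer_singleton_iff.mpr hd.2.2.symm.eq)
    exact (mem_centralizer_singleton_iff.mp (h1 he) : Commute e d).symm
  have hp : IsPGroup 2 T :=
    isPGroup_closure_pair (mul_self_of_orderOf_eq_two hu) (mul_self_of_orderOf_eq_two hv) hc
  have hne : T ≠ ⊥ := fun e => by
    rw [eq_bot_iff] at e
    rw [Subgroup.mem_bot.mp (e huT), orderOf_one] at hu
    norm_num at hu
  constructor
  · have := H1.Asch.se_fixSet_of_two h hp hne ⟨x, hfix.ge hx, y, hfix.ge hy, hxy⟩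
    rwa [hfix, hmem] at this
  · intro z hz
    obtain ⟨d, hd, hdz⟩ := H1.Asch.exists_memCent_of_two h hp (hfix.ge hz)
    rw [hmem] at hd
    exact ⟨d, hd.1, hd.2.1, hd.2.2, hdz⟩

/-- Each pair of common fixed points is joined by as many members commuting with both as fix one
of them. -/
theorem card_pairSwap [Finite G] [Finite Ω] (h : Crit G Ω D) {u v : G} (hu : orderOf u = 2)
    (hv : orderOf v = 2) (hcm : Commute u v) {x y : Ω} (hxy : x ≠ y) (hx : x ∈ fix2 Ω u v)
    (hy : y ∈ fix2 Ω u v) {a b c : Ω} (ha : a ∈ fix2 Ω u v) (hb : b ∈ fix2 Ω u v)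
    (hc : c ∈ fix2 Ω u v) :
    Nat.card (pairSwap D u v a b) = Nat.card (pairSwap D u v c c) := by
  obtain ⟨hS, hne⟩ := se_pair h hu hv hcm hxy hx hy
  have hset : ∀ a b : Ω, {i : G | i ∈ closure (pairMembers D u v) ∧ orderOf i = 2 ∧ i • a = b} =
      pairSwap D u v a b := by
    intro a b
    ext i
    refine ⟨fun hi => ?_, fun hi => ⟨subset_closure ⟨hi.1, hi.2.1, hi.2.2.1⟩, h.inv hi.1, hi.2.2.2⟩⟩
    obtain ⟨d, hd⟩ := hne x hx
    have hdm : d ∈ pairMembers D u v := ⟨hd.1, hd.2.1, hd.2.2.1⟩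
    obtain ⟨g, hg, hgd⟩ := hS.exists_conj (subset_closure hdm) hi.1 (h.inv hd.1) hi.2.1
    have hcom : ∀ l ∈ closure (pairMembers D u v), Commute l u ∧ Commute l v := fun l hl => by
      induction hl using Subgroup.closure_induction with
      | mem d hd => exact hd.2
      | one => exact ⟨Commute.one_left _, Commute.one_left _⟩
      | mul a b _ _ iha ihb => exact ⟨iha.1.mul_left ihb.1, iha.2.mul_left ihb.2⟩
      | inv a _ iha => exact ⟨iha.1.inv_left, iha.2.inv_left⟩
    exact ⟨hgd ▸ h.conj_mem hd.1 g, (hcom i hi.1).1, (hcom i hi.1).2, hi.2.2⟩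
  rw [← hset, ← hset]
  exact (hS.card_swap ha hb).trans (hS.card_inv_at_eq ha hc)

/-- The members commuting with `u` are `f` times those at one of the `f` fixed points. -/
theorem card_commMembers [Finite G] [Finite Ω] (h : Crit G Ω D) {u : G} (hu : orderOf u = 2)
    {x y : Ω} (hxy : x ≠ y) (hx : u • x = x) (hy : u • y = y) :
    Nat.card (commMembers D u) = Nat.card (fixedBy Ω u) * Nat.card (commSwap D u x x) := by
  classical
  haveI := Fintype.ofFinite (fixedBy Ω u)
  choose p hp using fun a : commMembers D u => (h.unique a.2.1).exists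
  let e : commMembers D u ≃ Σ z : fixedBy Ω u, commSwap D u (z : Ω) z :=
    { toFun := fun a => ⟨⟨p a, h.fix_of_commute a.2.1 a.2.2.symm (hp a)⟩, a.1, a.2.1, a.2.2, hp a⟩
      invFun := fun q => ⟨q.2.1, q.2.2.1, q.2.2.2.1⟩
      left_inv := fun a => rfl
      right_inv := fun ⟨⟨z, hz⟩, a, ha, hau, haz⟩ => by
        obtain rfl : p ⟨a, ha, hau⟩ = z := h.eq_of_fixed ha (hp ⟨a, ha, hau⟩) haz
        rfl }
  rw [Nat.card_congr e, Nat.card_sigma,
    Finset.sum_congr rfl fun (z : fixedBy Ω u) _ =>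
      h.card_commSwap hu hxy hx hy z.2 z.2 hx,
    Finset.sum_const, Finset.card_univ, smul_eq_mul, ← Nat.card_eq_fintype_card]

/-- The members commuting with `u` and `v`, counted by their fixed points. -/
theorem card_pairMembers [Finite G] [Finite Ω] (h : Crit G Ω D) {u v : G} (hu : orderOf u = 2)
    (hv : orderOf v = 2) (hc : Commute u v) {x y : Ω} (hxy : x ≠ y) (hx : x ∈ fix2 Ω u v)
    (hy : y ∈ fix2 Ω u v) :
    Nat.card (pairMembers D u v) = Nat.card (fix2 Ω u v) * Nat.card (pairSwap D u v x x) := by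
  classical
  haveI := Fintype.ofFinite (fix2 Ω u v)
  choose p hp using fun a : pairMembers D u v => (h.unique a.2.1).exists
  let e : pairMembers D u v ≃ Σ z : fix2 Ω u v, pairSwap D u v (z : Ω) z :=
    { toFun := fun a => ⟨⟨p a, h.fix_of_commute a.2.1 a.2.2.1.symm (hp a),
        h.fix_of_commute a.2.1 a.2.2.2.symm (hp a)⟩, a.1, a.2.1, a.2.2.1, a.2.2.2, hp a⟩
      invFun := fun q => ⟨q.2.1, q.2.2.1, q.2.2.2.1, q.2.2.2.2.1⟩
      left_inv := fun a => rfl
      right_inv := fun ⟨⟨z, hz⟩, a, ha, hau, hav, haz⟩ => by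
        obtain rfl : p ⟨a, ha, hau, hav⟩ = z := h.eq_of_fixed ha (hp ⟨a, ha, hau, hav⟩) haz
        rfl }
  rw [Nat.card_congr e, Nat.card_sigma,
    Finset.sum_congr rfl fun (z : fix2 Ω u v) _ => card_pairSwap h hu hv hc hxy hx hy z.2 z.2 hx,
    Finset.sum_const, Finset.card_univ, smul_eq_mul, ← Nat.card_eq_fintype_card]

/-- The middle count inside the centraliser of `v`. -/
theorem count_formula_pair [Finite G] [Finite Ω] (h : Crit G Ω D) {u v : G} (hu : orderOf u = 2)
    (hv : orderOf v = 2) (hcm : Commute u v) {x y : Ω} (hxy : x ≠ y) (hx : x ∈ fix2 Ω u v)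
    (hy : y ∈ fix2 Ω u v) [Fintype (pairMembers D u v)] (p : pairMembers D u v → Ω)
    (hp : ∀ a : pairMembers D u v, (a : G) • p a = p a) :
    Nat.card (commSwap D v x x) * Nat.card {c : Ω // v • c = c ∧ u • c ≠ c} =
      ∑ a : pairMembers D u v, Nat.card (pairSwap D (u * (a : G)) v (p a) (p a)) *
        (Nat.card (fix2 Ω (u * (a : G)) v) - 1) := by
  classical
  haveI : Fintype Ω := Fintype.ofFinite Ω
  have hup : ∀ a : pairMembers D u v, u • p a = p a := fun a =>
    h.fix_of_commute a.2.1 a.2.2.1.symm (hp a)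
  have hvp : ∀ a : pairMembers D u v, v • p a = p a := fun a =>
    h.fix_of_commute a.2.1 a.2.2.2.symm (hp a)
  have huap : ∀ a : pairMembers D u v, (u * (a : G)) • p a = p a := fun a => by
    rw [mul_smul, hp, hup]
  have hua : ∀ a : pairMembers D u v, orderOf (u * (a : G)) = 2 := by
    intro a
    refine orderOf_eq_two_of_mul_self ?_ fun h1 => hxy ?_
    · rw [mul_assoc, ← mul_assoc (a : G) u a, a.2.2.1.eq, mul_assoc u (a : G) a,
        mul_self_of_orderOf_eq_two (h.inv a.2.1), mul_one, mul_self_of_orderOf_eq_two hu]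
    · have hau : u = (a : G) :=
        (eq_inv_of_mul_eq_one_left h1).trans (inv_eq_of_orderOf_eq_two (h.inv a.2.1))
      exact h.eq_of_fixed a.2.1 (hau ▸ hx.1) (hau ▸ hy.1)
  have hmeet : ∀ (a : pairMembers D u v) {c : Ω}, (u * (a : G)) • c = c →
      (u • c = c ↔ c = p a) := by
    intro a c hc
    refine ⟨fun huc => h.eq_of_fixed a.2.1 ?_ (hp a), fun e => e ▸ hup a⟩
    rw [mul_smul] at hc
    exact MulAction.injective u (hc.trans huc.symm)
  let T := Σ c : {c : Ω // v • c = c ∧ u • c ≠ c}, commSwap D v c.1 c.1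
  let R := Σ a : pairMembers D u v,
    Σ c : {c : Ω // c ∈ fix2 Ω (u * (a : G)) v ∧ c ≠ p a}, pairSwap D (u * (a : G)) v c.1 c.1
  let g : R → T := fun r => ⟨⟨r.2.1.1, r.2.1.2.1.2,
      fun e => r.2.1.2.2 ((hmeet r.1 r.2.1.2.1.1).mp e)⟩,
    r.2.2.1, r.2.2.2.1, r.2.2.2.2.2.1, r.2.2.2.2.2.2⟩
  have hcomm : ∀ (a d : G), Commute d (u * a) → Commute a u → orderOf a = 2 →
      a * d * a⁻¹ = u * d * u⁻¹ := by
    intro a d hd hau ha
    have h1 : u * a * d * (u * a)⁻¹ = d := mul_inv_eq_iff_eq_mul.mpr hd.eq.symm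
    conv_rhs => rw [← h1]
    calc a * d * a⁻¹ = (u * u) * a * d * a⁻¹ * (u * u)⁻¹ := by
          rw [mul_self_of_orderOf_eq_two hu]; group
      _ = _ := by group
  have hg : Function.Bijective g := by
    constructor
    · rintro ⟨a, ⟨c, hc, hcp⟩, ⟨d, hd⟩⟩ ⟨a', ⟨c', hc', hcp'⟩, ⟨d', hd'⟩⟩ e
      obtain rfl : c = c' := congrArg (fun t : T => t.1.1) e
      obtain rfl : d = d' := congrArg (fun t : T => (t.2 : G)) e
      have hne : c ≠ u • c := fun e' => hcp ((hmeet a hc.1).mp e'.symm)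
      have hsw : ∀ b : pairMembers D u v, (u * (b : G)) • c = c →
          (b : G) ∈ swappers D c (u • c) := by
        intro b hb
        refine ⟨b.2.1, ?_⟩
        rw [mul_smul] at hb
        rw [← H73.Bender.swap_symm hu hb]
      obtain rfl : a = a' := Subtype.ext (h.swapper_unique hne hd.1 hd.2.2.2 (hsw a hc.1)
        (hsw a' hc'.1) (hcomm a d hd.2.1 a.2.2.1 (h.inv a.2.1))
        (hcomm a' d hd'.2.1 a'.2.2.1 (h.inv a'.2.1)))
      rfl
    · rintro ⟨⟨c, hvc, hc⟩, ⟨d, hd, hdv, hdc⟩⟩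
      obtain ⟨a, ha, hac, hconj⟩ := h.exists_middle hu hd hdc hc
      have hav : Commute a v := by
        have hvi := inv_eq_of_orderOf_eq_two hv
        have hsw : v * a * v⁻¹ ∈ swappers D c (u • c) := by
          refine ⟨h.conj_mem ha.1 v, ?_⟩
          rw [hvi, mul_smul, mul_smul, hvc, hac, ← mul_smul, ← hcm.eq, mul_smul, hvc]
        have hconj' : v * a * v⁻¹ * d * (v * a * v⁻¹)⁻¹ = u * d * u⁻¹ := by
          calc v * a * v⁻¹ * d * (v * a * v⁻¹)⁻¹ = v * (a * (v⁻¹ * d * v) * a⁻¹) * v⁻¹ := by group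
            _ = v * (a * d * a⁻¹) * v⁻¹ := by rw [mul_assoc v⁻¹, hdv.eq, inv_mul_cancel_left]
            _ = v * (u * d * u⁻¹) * v⁻¹ := by rw [hconj]
            _ = (v * u) * d * (v * u)⁻¹ := by group
            _ = u * (v * d * v⁻¹) * u⁻¹ := by rw [← hcm.eq]; group
            _ = u * d * u⁻¹ := by rw [conj_eq_of_commute hdv.symm]
        exact (mul_inv_eq_iff_eq_mul.mp
          (h.swapper_unique (Ne.symm hc) hd hdc hsw ⟨ha.1, hac⟩ hconj' hconj)).symm
      have hfix : (u * a) • c = c := by rw [mul_smul, hac, ← mul_smul,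
        mul_self_of_orderOf_eq_two hu, one_smul]
      have hd' : Commute d (u * a) := by
        have h1 : u * a * d * (u * a)⁻¹ = d := by
          calc u * a * d * (u * a)⁻¹ = u * (a * d * a⁻¹) * u⁻¹ := by group
            _ = (u * u) * d * (u * u)⁻¹ := by rw [hconj]; group
            _ = d := by rw [mul_self_of_orderOf_eq_two hu]; group
        exact (mul_inv_eq_iff_eq_mul.mp h1).symm
      exact ⟨⟨⟨a, ha.1, ha.2, hav⟩, ⟨c, ⟨hfix, hvc⟩, fun e => hc (e ▸ hup ⟨a, ha.1, ha.2, hav⟩)⟩,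
        ⟨d, hd, hd', hdv, hdc⟩⟩, rfl⟩
  have hT : Nat.card T = Nat.card (commSwap D v x x) * Nat.card {c : Ω // v • c = c ∧ u • c ≠ c} := by
    rw [Nat.card_sigma, Finset.sum_congr rfl fun c _ =>
      h.card_commSwap hv hxy hx.2 hy.2 c.2.1 c.2.1 hx.2, Finset.sum_const, Finset.card_univ,
      smul_eq_mul, mul_comm, ← Nat.card_eq_fintype_card]
  have hR : Nat.card R = ∑ a : pairMembers D u v,
      Nat.card (pairSwap D (u * (a : G)) v (p a) (p a)) *
        (Nat.card (fix2 Ω (u * (a : G)) v) - 1) := by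
    rw [Nat.card_sigma]
    refine Finset.sum_congr rfl fun a _ => ?_
    rw [Nat.card_sigma]
    have hconst : ∀ c : {c : Ω // c ∈ fix2 Ω (u * (a : G)) v ∧ c ≠ p a},
        Nat.card (pairSwap D (u * (a : G)) v c.1 c.1) =
          Nat.card (pairSwap D (u * (a : G)) v (p a) (p a)) := fun c =>
      card_pairSwap h (hua a) hv (hcm.mul_left a.2.2.2) c.2.2 c.2.1 ⟨huap a, hvp a⟩ c.2.1 c.2.1
        ⟨huap a, hvp a⟩
    rw [Finset.sum_congr rfl fun c _ => hconst c, Finset.sum_const, Finset.card_univ, smul_eq_mul,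
      mul_comm, ← Nat.card_eq_fintype_card]
    congr 1
    change Nat.card ({c : Ω | c ∈ fix2 Ω (u * (a : G)) v ∧ c ≠ p a} : Set Ω) = _
    rw [Nat.card_coe_set_eq, Nat.card_coe_set_eq,
      ← Set.ncard_sdiff_singleton_of_mem (show p a ∈ fix2 Ω (u * (a : G)) v from ⟨huap a, hvp a⟩)]
    rfl
  rw [← hT, ← hR]
  exact (Nat.card_congr (Equiv.ofBijective g hg)).symm

end Cfsg.Agent.H30.Asch
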