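import Cfsg.Agent.H30.Asch.QuadCount

/-!
A bad involution is conjugate to its products with the members commuting with it, and it is so
inside the centraliser of a commuting involution moving some of its fixed points.
-/

set_option autoImplicit false
set_option linter.style.haveILetI false

namespace Cfsg.Agent.H30.Asch

open Subgroup MulAction
open Cfsg.Agent.H14.Asch
open Cfsg.Agent.H39
open Cfsg.Agent.H73.Bender (SE)
open Cfsg.Agent.H73.Asch (RankTwoBad Line2 HasLines2)
open scoped Pointwise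

universe u v

variable {G : Type u} [Group G] [Finite G] {Ω : Type v} [MulAction G Ω] [Finite Ω] {D : Set G}

/-- `u * a` is conjugate to `u` for a member `a` commuting with `u`. -/
theorem exists_conj_mul_member (h : Crit G Ω D) (hL : HasLines2 Ω D) {u : G}
    (hu : RankTwoBad Ω D u) {a : G} (ha : a ∈ commMembers D u) :
    ∃ g : G, g * u * g⁻¹ = u * a := by
  obtain ⟨p, hp, -⟩ := h.unique ha.1
  have hup : u • p = p := h.fix_of_commute ha.1 ha.2.symm hp
  obtain ⟨E, Q, hl⟩ := hL u p hu hup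
  obtain ⟨g, hg, hgE⟩ := h.exists_conj_mem_E hl ⟨ha.1, ha.2, hp⟩
  have hgu : Commute g u := commute_of_mem_lineGroup hg.1
  have ha1 : g⁻¹ * a * g ≠ 1 := fun e => by
    have : a = 1 := by
      calc a = g * (g⁻¹ * a * g) * g⁻¹ := by group
        _ = 1 := by rw [e]; group
    exact absurd (h.inv ha.1) (by rw [this, orderOf_one]; norm_num)
  obtain ⟨k, -, hk⟩ := h.exists_conj_mul hl hgE ha1
  refine ⟨g * k, ?_⟩
  calc g * k * u * (g * k)⁻¹ = g * (k * u * k⁻¹) * g⁻¹ := by group
    _ = (g * u * g⁻¹) * a := by rw [hk]; group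
    _ = u * a := by rw [conj_eq_of_commute hgu]

/-- **SHIFT**: if `v` has a fixed point moved by `u` then `u` is conjugate to `u * a` in the
centraliser of `v`, for every member `a` commuting with both. -/
theorem exists_conj_mul_pair (h : Crit G Ω D) (hL : HasLines2 Ω D) {u v : G} (hu : orderOf u = 2)
    (hv : RankTwoBad Ω D v) (hcm : Commute u v) {x y : Ω} (hxy : x ≠ y) (hx : x ∈ fix2 Ω u v)
    (hy : y ∈ fix2 Ω u v) {c : Ω} (hvc : v • c = c) (huc : u • c ≠ c) {a : G}
    (ha : a ∈ pairMembers D u v) :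
    ∃ g : G, g * u * g⁻¹ = u * a ∧ g * v * g⁻¹ = v := by
  haveI : Fact (Nat.Prime 2) := ⟨Nat.prime_two⟩
  obtain ⟨E, Q, hl⟩ := hL v x hv hx.2
  set X := lineGroup D v ⊓ stabilizer G x with hX
  have hXv : ∀ g ∈ X, Commute g v := fun g hg => commute_of_mem_lineGroup hg.1
  have huX : ∀ g ∈ X, u * g * u⁻¹ ∈ X := by
    intro g hg
    refine ⟨?_, ?_⟩
    · have hgen : ∀ b ∈ lineGroup D v, u * b * u⁻¹ ∈ lineGroup D v := by
        intro b hb
        induction hb using Subgroup.closure_induction with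
        | mem d hd =>
          refine mem_lineGroup (h.conj_mem hd.1 u) ?_
          exact (hcm.mul_left (mem_centralizer_singleton_iff.mp hd.2 : Commute d v)).mul_left
            hcm.inv_left
        | one => simp
        | mul a b _ _ iha ihb =>
          rw [show u * (a * b) * u⁻¹ = (u * a * u⁻¹) * (u * b * u⁻¹) by group]
          exact mul_mem iha ihb
        | inv a _ iha =>
          rw [show u * a⁻¹ * u⁻¹ = (u * a * u⁻¹)⁻¹ by group]
          exact inv_mem iha
      exact hgen g hg.1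
    · refine mem_stabilizer_iff.mpr ?_
      rw [mul_smul, mul_smul, inv_smul_eq_iff.mpr hx.1.symm, mem_stabilizer_iff.mp hg.2, hx.1]
  -- a 2-group containing `Q` and a conjugate of `u`
  set X' := X ⊔ zpowers u with hX'
  have hX'v : ∀ g ∈ X', Commute g v := by
    intro g hg
    have : X' ≤ centralizer ({v} : Set G) := sup_le
      (fun g hg => mem_centralizer_singleton_iff.mpr (hXv g hg).eq)
      (zpowers_le.mpr (mem_centralizer_singleton_iff.mpr hcm.eq))
    exact mem_centralizer_singleton_iff.mp (this hg)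
  have hX'x : ∀ g ∈ X', g • x = x := by
    intro g hg
    have : X' ≤ stabilizer G x := sup_le inf_le_right (zpowers_le.mpr (mem_stabilizer_iff.mpr hx.1))
    exact mem_stabilizer_iff.mp (this hg)
  have huX' : u ∈ X' := mem_sup_right (mem_zpowers u)
  have hnX : X' ≤ normalizer (X : Set G) :=
    sup_le Subgroup.le_normalizer (zpowers_le.mpr (mem_normalizer_of_conj_mem huX))
  set F : Set (Subgroup G) := {P | IsPGroup 2 P ∧ P ≤ X' ∧ Q ≤ P}
  obtain ⟨P, ⟨hPp, hPX', hQP⟩, hPmax⟩ := F.exists_max_image (fun P => Nat.card P) (Set.toFinite F)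
    ⟨Q, hl.isPGroup, le_trans hl.Q_le le_sup_left, le_rfl⟩
  have hmax : ∀ P' : Subgroup G, IsPGroup 2 P' → P' ≤ X' → P ≤ P' → P' ≤ P := fun P' h1 h2 h3 =>
    (Subgroup.eq_of_le_of_card_ge h3 (hPmax P' ⟨h1, h2, hQP.trans h3⟩)).ge
  obtain ⟨k, hk, hkP⟩ := exists_conj_le_of_maximal hPp hPX' hmax
    (IsPGroup.of_card (n := 1) (by rw [Nat.card_zpowers, hu]; rfl) : IsPGroup 2 (zpowers u))
    (zpowers_le.mpr huX')
  set u' := k * u * k⁻¹ with hu'
  have hu'P : u' ∈ P := hkP u (mem_zpowers u)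
  have hu'2 : orderOf u' = 2 := by rw [hu', orderOf_conj, hu]
  have hkv : Commute k v := hX'v k hk
  have hkx : k • x = x := hX'x k hk
  have hPX : P ⊓ X ≤ Q := by
    obtain ⟨t, -, ht⟩ := hl.sylow (P ⊓ X) (hPp.to_le inf_le_left) inf_le_right
    refine (Subgroup.eq_of_le_of_card_ge (le_inf hQP hl.Q_le) ?_).ge
    exact (Subgroup.card_le_of_le ht).trans
      (Nat.card_congr (Subgroup.equivSMul (MulAut.conj t) Q).toEquiv).ge
  have hfix' : ∀ {z : Ω}, u • z = z → u' • k • z = k • z := fun hz =>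
    H73.Bender.conj_smul_of_smul hz
  have hvk : ∀ {z : Ω}, v • z = z → v • k • z = k • z := fun hz => smul_fixed_of_commute hkv hz
  -- `u'` is not central in `P`
  have hne : P ⊓ centralizer {u'} < P := by
    refine lt_of_le_of_ne inf_le_left fun e => huc ?_
    have hky : k • y ≠ x := fun e' => hxy (MulAction.injective k (e'.trans hkx.symm)).symm
    have hkc : k • c ≠ x := fun e' => huc (by
      rw [MulAction.injective k (e'.trans hkx.symm)]; exact hx.1)
    obtain ⟨q, hq, hqy⟩ := hl.trans (k • y) (k • c) (hvk hy.2) (hvk hvc) hky hkc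
    have hqu : Commute q u' :=
      mem_centralizer_singleton_iff.mp ((e.ge (hQP hq) : q ∈ P ⊓ centralizer {u'}).2)
    have h1 : u' • k • c = k • c := by rw [← hqy]; exact smul_fixed_of_commute hqu (hfix' hy.1)
    rw [hu', mul_smul, mul_smul, inv_smul_smul] at h1
    exact MulAction.injective k h1
  obtain ⟨g, hgP, hgC, hgn⟩ := exists_mem_normalizer_not_mem (p := 2) hPp hne
  have hu'C : u' ∈ P ⊓ centralizer {u'} := ⟨hu'P, mem_centralizer_singleton_iff.mpr rfl⟩
  have hcomm : Commute (g * u' * g⁻¹) u' :=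
    mem_centralizer_singleton_iff.mp ((Subgroup.mem_normalizer_iff.mp hgn u').mp hu'C).2
  have hguu : g * u' * g⁻¹ ≠ u' := fun e =>
    hgC ⟨hgP, mem_centralizer_singleton_iff.mpr (commute_of_conj_eq e).eq⟩
  set d := u' * (g * u' * g⁻¹) with hd
  have huu' : u' * u' = 1 := mul_self_of_orderOf_eq_two hu'2
  have hdX : d ∈ X := by
    have hu'X' : u' ∈ X' := hPX' hu'P
    have hgX' : g ∈ X' := hPX' hgP
    -- `X'` is `X ∪ X u`
    have hcases : g ∈ X ∨ g * u'⁻¹ ∈ X := by
      have hsup : X' = X ⊔ zpowers u' := by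
        refine le_antisymm (sup_le le_sup_left (zpowers_le.mpr ?_))
          (sup_le le_sup_left (zpowers_le.mpr hu'X'))
        -- `u` is `u'` times an element of `X`
        have hkcase : ∀ g ∈ X', g * u * g⁻¹ * u⁻¹ ∈ X := by
          intro g hg
          have hg' : g ∈ (X : Set G) * (zpowers u : Set G) := by
            rw [← Subgroup.coe_mul_of_right_le_normalizer_left X (zpowers u)
              (le_sup_right.trans hnX)] 
            exact hg
          obtain ⟨b, hb, e, ⟨i, rfl⟩, rfl⟩ := hg'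
          have : b * (u ^ i) * u * (b * u ^ i)⁻¹ * u⁻¹ = b * (u * b⁻¹ * u⁻¹) := by group
          show b * (u ^ i) * u * (b * u ^ i)⁻¹ * u⁻¹ ∈ X
          rw [this]
          exact mul_mem hb (huX _ (inv_mem hb))
        have h1 := hkcase k hk
        rw [show u = (u' * u⁻¹)⁻¹ * u' by group]
        exact mul_mem (mem_sup_left (inv_mem h1)) (mem_sup_right (mem_zpowers u'))
      have hg' : g ∈ (X : Set G) * (zpowers u' : Set G) := by
        rw [← Subgroup.coe_mul_of_right_le_normalizer_left X (zpowers u')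
          ((zpowers_le.mpr hu'X').trans hnX), ← hsup]
        exact hgX'
      obtain ⟨b, hb, e, he, rfl⟩ := hg'
      rcases eq_one_or_eq_of_sq hu'2 (mem_zpowers u') he (by
        obtain ⟨i, rfl⟩ := he
        rw [← zpow_add, zpow_even_of_orderOf_two hu'2 ⟨i, rfl⟩]) with rfl | rfl
      · exact Or.inl (by simpa using hb)
      · exact Or.inr (by simpa using hb)
    have hconjX : ∀ b ∈ X, u' * b * u'⁻¹ ∈ X := fun b hb =>
      (Subgroup.mem_normalizer_iff.mp (hnX hu'X') b).mp hb
    have hui : u'⁻¹ = u' := inv_eq_of_mul_eq_one_right huu'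
    rcases hcases with hb | hb
    · rw [hd, show u' * (g * u' * g⁻¹) = (u' * g * u'⁻¹) * g⁻¹ * (g * (u' * u') * g⁻¹) by group,
        huu', mul_one, mul_inv_cancel, mul_one]
      exact mul_mem (hconjX g hb) (inv_mem hb)
    · have he : u' * (g * u' * g⁻¹) = (u' * (g * u'⁻¹) * u'⁻¹) * (g * u'⁻¹)⁻¹ := by
        calc u' * (g * u' * g⁻¹) = u' * (g * u'⁻¹ * g⁻¹) := by rw [hui]
          _ = _ := by group
      rw [hd, he]
      exact mul_mem (hconjX _ hb) (inv_mem hb)
  have hdQ : d ∈ Q := hPX (Subgroup.mem_inf.mpr ⟨P.mul_mem hu'P (P.mul_mem (P.mul_mem hgP hu'P) (P.inv_mem hgP)), hdX⟩)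
  have hg2 : g * u' * g⁻¹ * (g * u' * g⁻¹) = 1 := by
    rw [show g * u' * g⁻¹ * (g * u' * g⁻¹) = g * (u' * u') * g⁻¹ by group, huu']; group
  have hd2 : orderOf d = 2 := by
    refine orderOf_eq_two_of_mul_self ?_ fun e => hguu ?_
    · rw [hd]
      calc u' * (g * u' * g⁻¹) * (u' * (g * u' * g⁻¹))
          = u' * ((g * u' * g⁻¹) * u') * (g * u' * g⁻¹) := by group
        _ = (u' * u') * (g * u' * g⁻¹ * (g * u' * g⁻¹)) := by rw [hcomm.eq]; group
        _ = 1 := by rw [huu', hg2, mul_one]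
    · rw [eq_inv_of_mul_eq_one_right e, inv_eq_of_mul_eq_one_right huu']
  have hdE : d ∈ E := hl.omega d hdQ hd2
  have hdm := line2_member hl hdE (fun e => by rw [e, orderOf_one] at hd2; norm_num at hd2)
  have hu'd : g * u' * g⁻¹ = u' * d :=
    (one_mul (g * u' * g⁻¹)).symm.trans ((congrArg (· * (g * u' * g⁻¹)) huu'.symm).trans (mul_assoc _ _ _))
  have hdu' : Commute d u' := (Commute.refl u').mul_left hcomm
  have hgv : Commute g v := hX'v g (hPX' hgP)
  -- back to `u`
  set a₁ := k⁻¹ * d * k with ha₁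
  have ha₁m : a₁ ∈ pairMembers D u v := by
    refine ⟨?_, ?_, ?_⟩
    · simpa [ha₁] using h.conj_mem hdm.1 k⁻¹
    · have := commute_conj hdu' k⁻¹
      rwa [inv_inv, hu', show k⁻¹ * (k * u * k⁻¹) * k = u by group] at this
    · have := commute_conj hdm.2.1 k⁻¹
      rwa [conj_eq_of_commute hkv.inv_left, inv_inv] at this
  obtain ⟨hS, -⟩ := se_pair h hu hv.1 hcm hxy hx hy
  obtain ⟨l, hlS, hla⟩ := hS.exists_conj (subset_closure ha₁m) (subset_closure ha) (h.inv ha₁m.1)
    (h.inv ha.1)
  have hluv : Commute l u ∧ Commute l v := by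
    clear hla
    induction hlS using Subgroup.closure_induction with
    | mem d hd => exact hd.2
    | one => exact ⟨Commute.one_left _, Commute.one_left _⟩
    | mul a b _ _ iha ihb => exact ⟨iha.1.mul_left ihb.1, iha.2.mul_left ihb.2⟩
    | inv a _ iha => exact ⟨iha.1.inv_left, iha.2.inv_left⟩
  refine ⟨l * (k⁻¹ * g * k), ?_, ?_⟩
  · calc l * (k⁻¹ * g * k) * u * (l * (k⁻¹ * g * k))⁻¹
        = l * (k⁻¹ * (g * u' * g⁻¹) * k) * l⁻¹ := by rw [hu']; group
      _ = l * (u * a₁) * l⁻¹ := by rw [hu'd, hu', ha₁]; group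
      _ = (l * u * l⁻¹) * (l * a₁ * l⁻¹) := by group
      _ = u * a := by rw [conj_eq_of_commute hluv.1, hla]
  · exact conj_eq_of_commute (hluv.2.mul_left ((hkv.inv_left.mul_left hgv).mul_left hkv))

end Cfsg.Agent.H30.Asch
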